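import Cfsg.Agent.Lib.TwoGroups.Classify
import Cfsg.Agent.Lib.Solvable.FrattiniFitting

/-!
2-groups of maximal class: criteria, and consequences of the classification.
-/

set_option autoImplicit false

namespace CfsgLib.TwoGroups.MaximalClass

open CfsgLib.TwoGroups.CyclicMax CfsgLib.TwoGroups.Classify
open scoped commutatorElement

variable {G : Type*} [Group G]

/-- The only involution of a cyclic group of even order. -/
theorem involution_eq_pow {a u : G} {m : ℕ} (ha : orderOf a = 2 * m) (hu : u ∈ Subgroup.zpowers a)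
    (h2 : u * u = 1) (h1 : u ≠ 1) : u = a ^ m := by
  obtain ⟨i, rfl⟩ := Subgroup.mem_zpowers_iff.mp hu
  rw [← zpow_add, ← orderOf_dvd_iff_zpow_eq_one, ha, ← two_mul, Nat.cast_mul, Nat.cast_two] at h2
  obtain ⟨c, hc⟩ := Int.dvd_of_mul_dvd_mul_left two_ne_zero h2
  rcases Int.even_or_odd' c with ⟨t, rfl | rfl⟩
  · exfalso; apply h1
    rw [← orderOf_dvd_iff_zpow_eq_one, ha]; push_cast
    exact ⟨t, by rw [hc]; ring⟩
  · rw [← zpow_natCast, zpow_eq_zpow_iff_modEq, ha, Int.modEq_iff_dvd]; push_cast
    exact ⟨-t, by rw [hc]; ring⟩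

/-- An involution in a cyclic subgroup of index two is central. -/
theorem central_of_mem_zpowers [Finite G] {a u : G} {m : ℕ} (ha : orderOf a = 2 * m)
    (hi : (Subgroup.zpowers a).index = 2) (hu : u ∈ Subgroup.zpowers a) (h2 : u * u = 1) :
    u ∈ Subgroup.center G := by
  haveI := Subgroup.normal_of_index_eq_two hi
  rcases eq_or_ne u 1 with rfl | h1
  · exact one_mem _
  refine Subgroup.mem_center_iff.mpr fun g => ?_
  have e : g * u * g⁻¹ = u := by
    rw [involution_eq_pow ha ((inferInstance : (Subgroup.zpowers a).Normal).conj_mem u hu g) ?_ ?_,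
      ← involution_eq_pow ha hu h2 h1]
    · calc g * u * g⁻¹ * (g * u * g⁻¹) = g * (u * u) * g⁻¹ := by group
        _ = 1 := by rw [h2]; group
    · simpa using h1
  exact mul_inv_eq_iff_eq_mul.mp e

/-- A group of order `2^(n+3)` with an involution whose centraliser has order 4 has a cyclic subgroup of index two. -/
theorem cyclic_max_of_involution_centralizer : ∀ (n : ℕ) (H : Type*) [Group H] [Finite H],
    Nat.card H = 2 ^ (n + 3) → ∀ x : H, orderOf x = 2 → Nat.card (Subgroup.centralizer ({x} : Set H)) = 4 →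
    ∃ C : Subgroup H, IsCyclic C ∧ C.index = 2 := by
  intro n
  induction n with
  | zero =>
    intro H _ _ hH x _ hC
    refine cyclic_max_of_order_eight hH ?_
    by_contra! hab
    have htop : Subgroup.centralizer ({x} : Set H) = ⊤ :=
      (Subgroup.eq_top_iff' _).mpr fun g => Subgroup.mem_centralizer_singleton_iff.mpr (hab g x)
    rw [htop, Subgroup.card_top, hH] at hC
    norm_num at hC
  | succ n ih =>
    intro H _ _ hH x hx hC
    haveI : Fact (Nat.Prime 2) := ⟨Nat.prime_two⟩
    have h2 : IsPGroup 2 H := IsPGroup.of_card hH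
    have hx1 : x ≠ 1 := fun e => by simp [e] at hx
    have hxx : x * x = 1 := by rw [← sq, ← hx, pow_orderOf_eq_one]
    have htop : (⊤ : Subgroup H) ≠ ⊥ := fun e => hx1 (Subgroup.mem_bot.mp (e ▸ Subgroup.mem_top x))
    obtain ⟨z, -, hz, hzc⟩ := exists_central_involution h2 ⊤ htop
    have hz1 : z ≠ 1 := fun e => by simp [e] at hz
    haveI := normal_zpowers_of_central hzc
    have hzx : z ≠ x := by
      rintro rfl
      have htop : Subgroup.centralizer ({z} : Set H) = ⊤ :=
        (Subgroup.eq_top_iff' _).mpr fun g => Subgroup.mem_centralizer_singleton_iff.mpr (Subgroup.mem_center_iff.mp hzc g)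
      rw [htop, Subgroup.card_top, hH] at hC
      have : 2 ^ 3 ≤ 2 ^ (n + 1 + 3) := Nat.pow_le_pow_right two_pos (by omega)
      omega
    set V := Subgroup.centralizer ({x} : Set H) with hV
    have hxV : x ∈ V := Subgroup.mem_centralizer_singleton_iff.mpr rfl
    have hzV : z ∈ V := Subgroup.mem_centralizer_singleton_iff.mpr (Subgroup.mem_center_iff.mp hzc x).symm
    have hV4 : ∀ u ∈ V, u = 1 ∨ u = x ∨ u = z ∨ u = x * z := by
      intro u hu
      by_contra! hne
      let g : Fin 5 → H := ![1, x, z, x * z, u]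
      let v : Fin 5 → V := fun i => ⟨g i, by fin_cases i <;> simp [g, hxV, hzV, hu, mul_mem hxV hzV]⟩
      have hv : Function.Injective v := by
        intro p q h
        have h' : g p = g q := congrArg Subtype.val h
        have := hne.1.symm; have := hne.2.1.symm; have := hne.2.2.1.symm; have := hne.2.2.2.symm
        have := hz1.symm; have := hx1.symm; have := hzx.symm
        have h5 : x * z ≠ 1 := fun e => hzx (by rw [← inv_eq_of_mul_eq_one_right e, inv_eq_of_mul_eq_one_right hxx])
        have := h5.symm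
        fin_cases p <;> fin_cases q <;> simp_all [g]
      have := Nat.card_le_card_of_injective v hv
      rw [Nat.card_fin] at this
      omega
    set π := QuotientGroup.mk' (Subgroup.zpowers z) with hπ
    have hsurj : Function.Surjective π := QuotientGroup.mk'_surjective _
    have hzz : ∀ u ∈ Subgroup.zpowers z, u = 1 ∨ u = z := by
      intro u hu
      obtain ⟨i, hi⟩ := mem_powers_iff_mem_zpowers.mpr hu
      have hi' : z ^ (i % 2) = u := by have := pow_mod_orderOf z i; rw [hz] at this; exact this.trans hi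
      rcases Nat.mod_two_eq_zero_or_one i with e | e <;> rw [e] at hi'
      · exact Or.inl (by rw [← hi', pow_zero])
      · exact Or.inr (by rw [← hi', pow_one])
    have hxq : orderOf (π x) = 2 := by
      refine orderOf_eq_prime (by rw [sq, ← map_mul, hxx, map_one]) fun e => ?_
      rcases hzz x ((QuotientGroup.eq_one_iff x).mp e) with h | h
      · exact hx1 h
      · exact hzx h.symm
    have hq : Nat.card (H ⧸ Subgroup.zpowers z) = 2 ^ (n + 3) := by
      have := Subgroup.card_eq_card_quotient_mul_card_subgroup (Subgroup.zpowers z)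
      rw [Nat.card_zpowers, hz, hH, show n + 1 + 3 = (n + 3) + 1 by omega, pow_succ] at this
      omega
    set P := (Subgroup.centralizer ({π x} : Set (H ⧸ Subgroup.zpowers z))).comap π with hP
    have hP2 : Nat.card P = 2 * Nat.card (Subgroup.centralizer ({π x} : Set (H ⧸ Subgroup.zpowers z))) := by
      have h1 : P.index = (Subgroup.centralizer ({π x} : Set (H ⧸ Subgroup.zpowers z))).index :=
        Subgroup.index_comap_of_surjective _ hsurj
      have h3 := P.card_mul_index
      have h4 := (Subgroup.centralizer ({π x} : Set (H ⧸ Subgroup.zpowers z))).card_mul_index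
      rw [hq] at h4
      rw [hH, h1, show (2:ℕ) ^ (n + 1 + 3) = 2 * 2 ^ (n + 3) by rw [← pow_succ'], ← h4, ← mul_assoc] at h3
      exact Nat.eq_of_mul_eq_mul_right (Nat.pos_of_ne_zero Subgroup.index_ne_zero_of_finite) h3
    have hcomm : ∀ s : P, (s : H) * x * (s : H)⁻¹ * x⁻¹ ∈ Subgroup.zpowers z := by
      intro s
      rw [← QuotientGroup.eq_one_iff]
      show π ((s : H) * x * (s : H)⁻¹ * x⁻¹) = 1
      have hs : π s * π x = π x * π s := Subgroup.mem_centralizer_singleton_iff.mp s.2
      rw [map_mul, map_mul, map_mul, hs, map_inv, map_inv, mul_inv_cancel_right, mul_inv_cancel]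
    let f : P →* H := MonoidHom.mk' (fun s => (s : H) * x * (s : H)⁻¹ * x⁻¹) (fun s t => by
      have hzc' : (t : H) * x * (t : H)⁻¹ * x⁻¹ ∈ Subgroup.center H := Subgroup.zpowers_le.mpr hzc (hcomm t)
      have e := Subgroup.mem_center_iff.mp hzc' (s : H)
      show ((s : H) * t) * x * ((s : H) * t)⁻¹ * x⁻¹ = ((s : H) * x * (s : H)⁻¹ * x⁻¹) * ((t : H) * x * (t : H)⁻¹ * x⁻¹)
      calc ((s : H) * t) * x * ((s : H) * t)⁻¹ * x⁻¹
          = ((s : H) * ((t : H) * x * (t : H)⁻¹ * x⁻¹)) * (x * (s : H)⁻¹ * x⁻¹) := by group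
        _ = (((t : H) * x * (t : H)⁻¹ * x⁻¹) * s) * (x * (s : H)⁻¹ * x⁻¹) := by rw [e]
        _ = ((t : H) * x * (t : H)⁻¹ * x⁻¹) * ((s : H) * x * (s : H)⁻¹ * x⁻¹) := by group
        _ = _ := (Subgroup.mem_center_iff.mp hzc' _).symm)
    have hrange : Nat.card f.range ≤ 2 := by
      have : f.range ≤ Subgroup.zpowers z := by rintro _ ⟨s, rfl⟩; exact hcomm s
      exact (Subgroup.card_le_of_le this).trans (by rw [Nat.card_zpowers, hz])
    have hker : Nat.card f.ker ≤ 4 := by
      rw [← hC, ← Subgroup.card_map_of_injective (K := f.ker) P.subtype_injective]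
      refine Subgroup.card_le_of_le ?_
      rintro _ ⟨s, hs, rfl⟩
      have hs' : (s : H) * x * (s : H)⁻¹ * x⁻¹ = 1 := MonoidHom.mem_ker.mp hs
      rw [mul_inv_eq_one, mul_inv_eq_iff_eq_mul] at hs'
      exact Subgroup.mem_centralizer_singleton_iff.mpr hs'
    have hCq_le : Nat.card (Subgroup.centralizer ({π x} : Set (H ⧸ Subgroup.zpowers z))) ≤ 4 := by
      have := f.ker.card_mul_index
      rw [Subgroup.index_ker, hP2] at this
      have : Nat.card f.ker * Nat.card f.range ≤ 4 * 2 := Nat.mul_le_mul hker hrange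
      omega
    have h2q : IsPGroup 2 (H ⧸ Subgroup.zpowers z) := IsPGroup.of_card hq
    have hne_top : π x ∉ Subgroup.center (H ⧸ Subgroup.zpowers z) := by
      intro hc
      have htop : Subgroup.centralizer ({π x} : Set (H ⧸ Subgroup.zpowers z)) = ⊤ :=
        (Subgroup.eq_top_iff' _).mpr fun g => Subgroup.mem_centralizer_singleton_iff.mpr (Subgroup.mem_center_iff.mp hc g)
      rw [htop, Subgroup.card_top, hq] at hCq_le
      have : 2 ^ 3 ≤ 2 ^ (n + 3) := Nat.pow_le_pow_right two_pos (by omega)
      omega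
    have hCq : Nat.card (Subgroup.centralizer ({π x} : Set (H ⧸ Subgroup.zpowers z))) = 4 := by
      haveI : Nontrivial (H ⧸ Subgroup.zpowers z) := ⟨⟨π x, 1, fun e => hne_top (e ▸ one_mem _)⟩⟩
      obtain ⟨w, -, hw, hwc⟩ := exists_central_involution h2q ⊤ top_ne_bot
      have hwC : w ∈ Subgroup.centralizer ({π x} : Set (H ⧸ Subgroup.zpowers z)) :=
        Subgroup.mem_centralizer_singleton_iff.mpr (Subgroup.mem_center_iff.mp hwc (π x)).symm
      have hxC : π x ∈ Subgroup.centralizer ({π x} : Set (H ⧸ Subgroup.zpowers z)) :=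
        Subgroup.mem_centralizer_singleton_iff.mpr rfl
      have hge : 3 ≤ Nat.card (Subgroup.centralizer ({π x} : Set (H ⧸ Subgroup.zpowers z))) := by
        let g : Fin 3 → H ⧸ Subgroup.zpowers z := ![1, π x, w]
        let v : Fin 3 → Subgroup.centralizer ({π x} : Set (H ⧸ Subgroup.zpowers z)) :=
          fun i => ⟨g i, by fin_cases i <;> simp [g, hwC, hxC]⟩
        have hv : Function.Injective v := by
          intro p q h
          have h' : g p = g q := congrArg Subtype.val h
          have hw1 : w ≠ 1 := fun e => by simp [e] at hw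
          have hxw : π x ≠ w := fun e => hne_top (e ▸ hwc)
          have hx1' : π x ≠ 1 := fun e => by simp [e] at hxq
          have := hw1.symm; have := hxw.symm; have := hx1'.symm
          fin_cases p <;> fin_cases q <;> simp_all [g]
        have := Nat.card_le_card_of_injective v hv
        rwa [Nat.card_fin] at this
      obtain ⟨j, hj⟩ := (h2q.to_subgroup (Subgroup.centralizer ({π x} : Set (H ⧸ Subgroup.zpowers z)))).exists_card_eq
      rw [hj] at hge hCq_le ⊢
      rcases j with _ | _ | _ | j
      · omega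
      · omega
      · rfl
      · have : 2 ^ 3 ≤ 2 ^ (j + 3) := Nat.pow_le_pow_right two_pos (by omega)
        omega
    obtain ⟨C, hCy, hCi⟩ := ih _ hq (π x) hxq hCq
    obtain ⟨ā, hā, hord⟩ := exists_generator hCy hCi
    obtain ⟨a, rfl⟩ := hsurj ā
    rw [← hā] at hCi
    have hord' : orderOf (π a) = 2 ^ (n + 2) := by
      rw [hq, show n + 3 = (n + 2) + 1 by omega, pow_succ', Nat.mul_right_inj two_ne_zero] at hord
      exact hord
    refine cyclic_max_lift (k := n + 2) (by omega) hz hzc (a := a) hord' hCi ?_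
    intro A hAc hAi hzA haA
    refine ⟨x, fun u hu hfx => ?_⟩
    have hxA : x ∉ A := by
      intro hxA
      apply hne_top
      refine central_of_mem_zpowers (m := 2 ^ (n + 1)) (by rw [hord', ← pow_succ']) hCi ?_ (by rw [← map_mul, hxx, map_one])
      -- the image of A is the cyclic subgroup
      have hAB : A ≤ (Subgroup.zpowers (π a)).comap π := by
        have hge : (Subgroup.zpowers (π a)).comap π ≤ A := by
          intro w hw
          obtain ⟨i, hi⟩ := Subgroup.mem_zpowers_iff.mp (Subgroup.mem_comap.mp hw)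
          rw [← map_zpow] at hi
          obtain ⟨j, hj⟩ := Subgroup.mem_zpowers_iff.mp (QuotientGroup.eq.mp hi)
          have : w = a ^ i * z ^ j := by rw [hj, mul_inv_cancel_left]
          rw [this]; exact mul_mem (zpow_mem haA i) (zpow_mem hzA j)
        have hidx : ((Subgroup.zpowers (π a)).comap π).index = 2 := by
          rw [Subgroup.index_comap_of_surjective _ hsurj]; exact hCi
        have h5 := Subgroup.relIndex_mul_index hge
        rw [hAi, hidx] at h5
        exact Subgroup.relIndex_eq_one.mp (by omega)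
      exact hAB hxA
    have huV : u ∈ V := Subgroup.mem_centralizer_singleton_iff.mpr (mul_inv_eq_iff_eq_mul.mp hfx).symm
    rcases hV4 u huV with e | e | e | e
    · exact Or.inl e
    · exact absurd (e ▸ hu) hxA
    · exact Or.inr e
    · subst e
      exact absurd (by simpa using mul_mem hu (inv_mem hzA)) hxA

/-- A 2-group of maximal class has derived subgroup of index 4. -/
theorem commutator_index_of_class [Finite G] {n : ℕ} (hn : 3 ≤ n) (hG : Nat.card G = 2 ^ n)
    (hc : Group.nilpotencyClass G = n - 1) : (commutator G).index = 4 := by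
  haveI : Fact (Nat.Prime 2) := ⟨Nat.prime_two⟩
  haveI : Group.IsNilpotent G := (IsPGroup.of_card hG).isNilpotent
  obtain ⟨l, rfl⟩ : ∃ l, n = l + 2 := ⟨n - 2, by omega⟩
  set L := (⊤ : Subgroup G).lowerCentralSeries with hL
  have hbot : L (l + 1) = ⊥ := by
    rw [hL, Subgroup.lowerCentralSeries_eq_bot_iff_nilpotencyClass_le]; omega
  have hstep : ∀ i, L i ≠ ⊥ → L (i + 1) ≠ L i := by
    intro i hi he
    apply hi
    have : ∀ j, L (i + j) = L i := by
      intro j
      induction j with
      | zero => rfl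
      | succ j ih =>
        rw [← add_assoc]
        have e1 : L (i + j + 1) = ⁅L (i + j), (⊤ : Subgroup G)⁆ := rfl
        have e2 : L (i + 1) = ⁅L i, (⊤ : Subgroup G)⁆ := rfl
        rw [e1, ih, ← e2, he]
    rw [← this (l + 1), eq_bot_iff, ← hbot]
    exact Subgroup.lowerCentralSeries_antitone _ (Nat.le_add_left _ _)
  have hcard : ∀ j, j ≤ l → 2 ^ j ≤ Nat.card (L (l + 1 - j)) := by
    intro j
    induction j with
    | zero => intro _; exact Nat.card_pos
    | succ j ih =>
      intro hj
      have hne : L (l + 1 - (j + 1)) ≠ ⊥ := by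
        intro h
        rw [hL, Subgroup.lowerCentralSeries_eq_bot_iff_nilpotencyClass_le] at h
        omega
      have hle : L (l + 1 - (j + 1) + 1) ≤ L (l + 1 - (j + 1)) := Subgroup.lowerCentralSeries_antitone _ (Nat.le_succ _)
      obtain ⟨a, ha⟩ := (IsPGroup.of_card hG).to_subgroup (L (l + 1 - (j + 1) + 1)) |>.exists_card_eq
      obtain ⟨b, hb⟩ := (IsPGroup.of_card hG).to_subgroup (L (l + 1 - (j + 1))) |>.exists_card_eq
      have hlt : a < b := by
        by_contra hba
        exact hstep _ hne (Subgroup.eq_of_le_of_card_ge hle (by rw [ha, hb]; exact Nat.pow_le_pow_right two_pos (by omega)))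
      have h1 := ih (by omega)
      rw [show l + 1 - j = l + 1 - (j + 1) + 1 by omega, ha] at h1
      rw [hb]
      calc 2 ^ (j + 1) = 2 ^ j * 2 := pow_succ _ _
        _ ≤ 2 ^ a * 2 := Nat.mul_le_mul_right 2 h1
        _ = 2 ^ (a + 1) := (pow_succ _ _).symm
        _ ≤ 2 ^ b := Nat.pow_le_pow_right two_pos hlt
  have h1 := hcard l le_rfl
  rw [show l + 1 - l = 1 by omega, hL, Subgroup.top_lowerCentralSeries_one] at h1
  have hD := (commutator G).card_mul_index
  rw [hG] at hD
  have hi4 : (commutator G).index ≤ 4 := by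
    rw [pow_add] at hD
    have hm := Nat.mul_le_mul_right (commutator G).index h1
    rw [hD] at hm
    exact Nat.le_of_mul_le_mul_left (by simpa using hm) (Nat.two_pow_pos l)
  have hi2 : ¬ (commutator G).index ≤ 2 := by
    intro hi
    haveI : IsCyclic (G ⧸ commutator G) := by
      have hq : Nat.card (G ⧸ commutator G) ≤ 2 := hi
      interval_cases hcq : Nat.card (G ⧸ commutator G)
      · exact absurd hcq Nat.card_pos.ne'
      · haveI : Subsingleton (G ⧸ commutator G) := (Nat.card_eq_one_iff_unique.mp hcq).1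
        infer_instance
      · exact isCyclic_of_prime_card hcq
    -- a cyclic abelianisation of a nilpotent group forces it to be abelian
    obtain ⟨g, hg⟩ := IsCyclic.exists_generator (α := G ⧸ commutator G)
    obtain ⟨g, rfl⟩ := QuotientGroup.mk'_surjective (commutator G) g
    have hgen : Subgroup.zpowers g ⊔ commutator G = ⊤ := by
      rw [eq_top_iff]
      intro y _
      obtain ⟨i, hi⟩ := Subgroup.mem_zpowers_iff.mp (hg (QuotientGroup.mk y))
      have hi' : QuotientGroup.mk (g ^ i) = (QuotientGroup.mk y : G ⧸ commutator G) := by rw [QuotientGroup.mk_zpow]; exact hi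
      have e : g ^ i * ((g ^ i)⁻¹ * y) = y := mul_inv_cancel_left _ _
      rw [← e]
      exact mul_mem (Subgroup.mem_sup_left (Subgroup.zpow_mem _ (Subgroup.mem_zpowers g) i))
        (Subgroup.mem_sup_right (QuotientGroup.eq.mp hi'))
    have hfr : commutator G ≤ frattini G := CfsgLib.Solvable.FrattiniFitting.commutator_le_frattini
    have htop : Subgroup.zpowers g = ⊤ := frattini_nongenerating (top_le_iff.mp (hgen ▸ sup_le_sup_left hfr _))
    have hDbot : commutator G = ⊥ := by
      rw [commutator_def, eq_bot_iff, Subgroup.commutator_le]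
      intro x _ y _
      obtain ⟨i, rfl⟩ := Subgroup.mem_zpowers_iff.mp (htop ▸ Subgroup.mem_top x : x ∈ Subgroup.zpowers g)
      obtain ⟨j, rfl⟩ := Subgroup.mem_zpowers_iff.mp (htop ▸ Subgroup.mem_top y : y ∈ Subgroup.zpowers g)
      rw [Subgroup.mem_bot, commutatorElement_eq_one_iff_mul_comm, ← zpow_add, ← zpow_add, add_comm]
    rw [hDbot, Subgroup.index_bot, hG] at hi
    have : 2 ^ 2 ≤ 2 ^ (l + 2) := Nat.pow_le_pow_right two_pos (by omega)
    omega
  obtain ⟨d, -, hd⟩ := (Nat.dvd_prime_pow Nat.prime_two).mp (hG ▸ (commutator G).index_dvd_card)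
  rcases d with _ | _ | _ | d
  · omega
  · omega
  · exact hd
  · have : 2 ^ 3 ≤ 2 ^ (d + 3) := Nat.pow_le_pow_right two_pos (by omega)
    omega

end CfsgLib.TwoGroups.MaximalClass
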