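import Mathlib

/-!
2-groups with a cyclic subgroup of index two: recognition and classification of the action.
-/

set_option autoImplicit false

namespace CfsgLib.TwoGroups.CyclicMax

variable {G : Type*} [Group G]

/-- A power of `a` indexed by `ZMod m`. -/
def pw (a : G) {m : ℕ} (i : ZMod m) : G := a ^ ((ZMod.cast i : ℤ))

theorem zpow_eq_iff {a : G} {m : ℕ} (ha : orderOf a = m) (i j : ℤ) :
    a ^ i = a ^ j ↔ (i : ZMod m) = j := by
  rw [zpow_eq_zpow_iff_modEq, ha, ZMod.intCast_eq_intCast_iff]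

theorem pw_intCast {a : G} {m : ℕ} (ha : orderOf a = m) (i : ℤ) : pw a (i : ZMod m) = a ^ i := by
  rw [pw, zpow_eq_iff ha, ZMod.intCast_zmod_cast]

theorem pw_add {a : G} {m : ℕ} (ha : orderOf a = m) (i j : ZMod m) : pw a (i + j) = pw a i * pw a j := by
  rw [pw, pw, pw, ← zpow_add, zpow_eq_iff ha]; simp [ZMod.intCast_zmod_cast]

theorem pw_injective {a : G} {m : ℕ} (ha : orderOf a = m) : Function.Injective (pw a (m := m)) := by
  intro i j h
  rw [pw, pw, zpow_eq_iff ha] at h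
  simpa [ZMod.intCast_zmod_cast] using h

theorem pw_mem (a : G) {m : ℕ} (i : ZMod m) : pw a i ∈ Subgroup.zpowers a :=
  Subgroup.zpow_mem _ (Subgroup.mem_zpowers a) _

theorem pw_neg {a : G} {m : ℕ} (ha : orderOf a = m) (i : ZMod m) : pw a (-i) = (pw a i)⁻¹ := by
  rw [pw, pw, ← zpow_neg, zpow_eq_iff ha]; simp [ZMod.intCast_zmod_cast]

theorem pw_mul_inv {a b : G} {m : ℕ} (ha : orderOf a = m) (hba : b * a * b⁻¹ = a⁻¹) (i : ZMod m) :
    pw a i * b = b * pw a (-i) := by
  rw [pw_neg ha]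
  have h1 : b * (pw a i)⁻¹ * b⁻¹ = pw a i := by
    rw [pw, ← zpow_neg, ← conj_zpow, hba, inv_zpow', neg_neg]
  conv_lhs => rw [← h1]
  group

/-- Recognition of a dihedral group. -/
theorem dihedral_iso [Finite G] {a b : G} {m : ℕ} (ha : orderOf a = m) (hG : Nat.card G = 2 * m)
    (hb : b ∉ Subgroup.zpowers a) (hb2 : b * b = 1) (hba : b * a * b⁻¹ = a⁻¹) :
    Nonempty (G ≃* DihedralGroup m) := by
  haveI : NeZero m := ⟨ha ▸ (orderOf_pos a).ne'⟩
  let f : DihedralGroup m → G := fun g => match g with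
    | .r i => pw a i
    | .sr i => b * pw a i
  have hmul : ∀ x y, f (x * y) = f x * f y := by
    rintro (i | i) (j | j)
    · simp only [DihedralGroup.r_mul_r, f, pw_add ha]
    · simp only [DihedralGroup.r_mul_sr, f]
      rw [← mul_assoc, pw_mul_inv ha hba, mul_assoc, ← pw_add ha, sub_eq_neg_add]
    · simp only [DihedralGroup.sr_mul_r, f, pw_add ha, mul_assoc]
    · simp only [DihedralGroup.sr_mul_sr, f]
      rw [mul_assoc b (pw a i), ← mul_assoc (pw a i) b, pw_mul_inv ha hba, ← mul_assoc, ← mul_assoc, hb2, one_mul,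
        ← pw_add ha, sub_eq_neg_add]
  have hinj : Function.Injective f := by
    rintro (i | i) (j | j) h <;> simp only [f] at h
    · rw [pw_injective ha h]
    · exact absurd (by rw [← mul_inv_cancel_right b (pw a j), ← h]; exact mul_mem (pw_mem a i) (inv_mem (pw_mem a j))) hb
    · exact absurd (by rw [← mul_inv_cancel_right b (pw a i), h]; exact mul_mem (pw_mem a j) (inv_mem (pw_mem a i))) hb
    · rw [pw_injective ha (mul_left_cancel h)]
  refine ⟨(MulEquiv.ofBijective (MonoidHom.mk' f hmul) ?_).symm⟩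
  haveI : Fintype G := Fintype.ofFinite G
  rw [Fintype.bijective_iff_injective_and_card]
  exact ⟨hinj, by rw [DihedralGroup.card, ← Nat.card_eq_fintype_card, hG]⟩

/-- Recognition of a generalised quaternion group. -/
theorem quaternion_iso [Finite G] {a b : G} {m : ℕ} (hm : m ≠ 0) (ha : orderOf a = 2 * m) (hG : Nat.card G = 4 * m)
    (hb : b ∉ Subgroup.zpowers a) (hb2 : b * b = a ^ m) (hba : b * a * b⁻¹ = a⁻¹) :
    Nonempty (G ≃* QuaternionGroup m) := by
  haveI : NeZero m := ⟨hm⟩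
  let f : QuaternionGroup m → G := fun g => match g with
    | .a i => pw a i
    | .xa i => b * pw a i
  have hbm : b * b = pw a ((m : ZMod (2 * m))) := by
    rw [hb2, ← zpow_natCast, ← pw_intCast ha, Int.cast_natCast]
  have hmul : ∀ x y, f (x * y) = f x * f y := by
    rintro (i | i) (j | j)
    · simp only [QuaternionGroup.a_mul_a, f, pw_add ha]
    · simp only [QuaternionGroup.a_mul_xa, f]
      rw [← mul_assoc, pw_mul_inv ha hba, mul_assoc, ← pw_add ha, sub_eq_neg_add]
    · simp only [QuaternionGroup.xa_mul_a, f, pw_add ha, mul_assoc]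
    · simp only [QuaternionGroup.xa_mul_xa, f]
      rw [mul_assoc b (pw a i), ← mul_assoc (pw a i) b, pw_mul_inv ha hba, ← mul_assoc, ← mul_assoc, hbm,
        mul_assoc, ← pw_add ha, ← pw_add ha, sub_eq_add_neg, add_assoc, add_comm j]
  have hinj : Function.Injective f := by
    rintro (i | i) (j | j) h <;> simp only [f] at h
    · rw [pw_injective ha h]
    · exact absurd (by rw [← mul_inv_cancel_right b (pw a j), ← h]; exact mul_mem (pw_mem a i) (inv_mem (pw_mem a j))) hb
    · exact absurd (by rw [← mul_inv_cancel_right b (pw a i), h]; exact mul_mem (pw_mem a j) (inv_mem (pw_mem a i))) hb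
    · rw [pw_injective ha (mul_left_cancel h)]
  refine ⟨(MulEquiv.ofBijective (MonoidHom.mk' f hmul) ?_).symm⟩
  haveI : Fintype G := Fintype.ofFinite G
  rw [Fintype.bijective_iff_injective_and_card]
  exact ⟨hinj, by rw [QuaternionGroup.card, ← Nat.card_eq_fintype_card, hG]⟩

theorem index_zpowers [Finite G] {a : G} {k : ℕ} (hG : Nat.card G = 2 ^ (k + 1)) (ha : orderOf a = 2 ^ k) :
    (Subgroup.zpowers a).index = 2 := by
  have h := (Subgroup.zpowers a).card_mul_index
  rw [Nat.card_zpowers, ha, hG, pow_succ] at h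
  exact Nat.eq_of_mul_eq_mul_left (by positivity) h

/-- A root of unity of order two modulo a power of two is `±1` modulo the half power. -/
theorem sq_one_exponent {k : ℕ} (hk : 2 ≤ k) {r : ℤ} (h : (2:ℤ) ^ k ∣ (r - 1) * (r + 1)) :
    (r : ZMod (2 ^ k)) = 1 ∨ (r : ZMod (2 ^ k)) = -1 ∨
      (r : ZMod (2 ^ k)) = 1 + 2 ^ (k - 1) ∨ (r : ZMod (2 ^ k)) = 2 ^ (k - 1) - 1 := by
  obtain ⟨l, rfl⟩ : ∃ l, k = l + 1 := ⟨k - 1, by omega⟩
  rw [Nat.add_sub_cancel]
  have hodd : ¬ (2:ℤ) ∣ r := by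
    intro hd
    have h2 : (2:ℤ) ∣ (r - 1) * (r + 1) := (dvd_pow_self (2:ℤ) (by omega)).trans h
    rcases Int.prime_two.dvd_mul.mp h2 with h' | h' <;> omega
  -- one of the two factors is twice an odd number
  have key : ∀ u : ℤ, ¬ (2:ℤ) ∣ u → ∀ v, (2:ℤ) ^ (l + 1) ∣ (2 * u) * v → (2:ℤ) ^ l ∣ v := by
    intro u hu v hv
    rw [pow_succ', mul_assoc] at hv
    exact (IsCoprime.pow_left (Int.prime_two.coprime_iff_not_dvd.mpr hu)).dvd_of_dvd_mul_left
      (Int.dvd_of_mul_dvd_mul_left two_ne_zero hv)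
  have hcases : (2:ℤ) ^ l ∣ r - 1 ∨ (2:ℤ) ^ l ∣ r + 1 := by
    obtain ⟨s, hs⟩ : ∃ s, r = 2 * s + 1 := ⟨r / 2, by omega⟩
    by_cases hse : (2:ℤ) ∣ s
    · left
      refine key (s + 1) (by omega) _ ?_
      rw [hs] at h ⊢; convert h using 1; ring
    · right
      refine key s hse _ ?_
      rw [hs] at h ⊢; convert h using 1; ring
  have hz : ((2:ℤ) ^ (l + 1) : ℤ) = ((2 ^ (l + 1) : ℕ) : ℤ) := by push_cast; ring
  have hzero : ∀ j : ℤ, (((2:ℤ) ^ (l + 1) * j : ℤ) : ZMod (2 ^ (l + 1))) = 0 := fun j => by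
    rw [ZMod.intCast_zmod_eq_zero_iff_dvd, ← hz]; exact dvd_mul_right _ _
  have split : ∀ j : ℤ, (((2:ℤ) ^ l * j : ℤ) : ZMod (2 ^ (l + 1))) = 0 ∨
      (((2:ℤ) ^ l * j : ℤ) : ZMod (2 ^ (l + 1))) = 2 ^ l := by
    intro j
    rcases Int.even_or_odd' j with ⟨i, rfl | rfl⟩
    · left; rw [← mul_assoc, ← pow_succ]; exact hzero i
    · right
      rw [mul_add, ← mul_assoc, ← pow_succ, mul_one, Int.cast_add, hzero i, zero_add]; push_cast; rfl
  rcases hcases with ⟨j, hj⟩ | ⟨j, hj⟩
  · have e : r = 1 + 2 ^ l * j := by omega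
    rcases split j with h0 | h0
    · left; rw [e, Int.cast_add, h0, Int.cast_one, add_zero]
    · right; right; left; rw [e, Int.cast_add, h0, Int.cast_one]
  · have e : r = 2 ^ l * j - 1 := by omega
    rcases split j with h0 | h0
    · right; left; rw [e, Int.cast_sub, h0, Int.cast_one, zero_sub]
    · right; right; right; rw [e, Int.cast_sub, h0, Int.cast_one]

/-- The exponent by which an element outside a cyclic maximal subgroup of a 2-group acts on it. -/
theorem exists_exponent [Finite G] {a b : G} {k : ℕ} (hk : 2 ≤ k) (hG : Nat.card G = 2 ^ (k + 1))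
    (ha : orderOf a = 2 ^ k) :
    b * a * b⁻¹ = a ∨ b * a * b⁻¹ = a⁻¹ ∨
      b * a * b⁻¹ = a ^ (1 + 2 ^ (k - 1)) ∨ b * a * b⁻¹ = a ^ (2 ^ (k - 1) - 1) := by
  have hi := index_zpowers hG ha
  haveI := Subgroup.normal_of_index_eq_two hi
  obtain ⟨r, hr⟩ : ∃ r : ℤ, a ^ r = b * a * b⁻¹ :=
    Subgroup.mem_zpowers_iff.mp ((inferInstance : (Subgroup.zpowers a).Normal).conj_mem a (Subgroup.mem_zpowers a) b)
  obtain ⟨s, hs⟩ : ∃ s : ℤ, a ^ s = b * b := Subgroup.mem_zpowers_iff.mp (Subgroup.mul_self_mem_of_index_two hi b)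
  have h2 : a ^ (r * r) = a := by
    calc a ^ (r * r) = (b * a * b⁻¹) ^ r := by rw [zpow_mul, hr]
      _ = b * a ^ r * b⁻¹ := conj_zpow
      _ = (b * b) * a * (b * b)⁻¹ := by rw [hr]; group
      _ = a := by rw [← hs]; group
  have hd : (2:ℤ) ^ k ∣ (r - 1) * (r + 1) := by
    have : a ^ ((r - 1) * (r + 1)) = 1 := by
      rw [show (r - 1) * (r + 1) = r * r + -1 by ring, zpow_add, h2, zpow_neg_one, mul_inv_cancel]
    have := orderOf_dvd_iff_zpow_eq_one.mpr this
    rw [ha] at this; exact_mod_cast this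
  rcases sq_one_exponent hk hd with h | h | h | h
  · left; rw [← hr]; conv_rhs => rw [← zpow_one a]
    rw [zpow_eq_iff ha, h, Int.cast_one]
  · right; left; rw [← hr, ← zpow_neg_one, zpow_eq_iff ha, h]; simp
  · right; right; left; rw [← hr, ← zpow_natCast, zpow_eq_iff ha, h]; push_cast; rfl
  · right; right; right; rw [← hr, ← zpow_natCast, zpow_eq_iff ha, h]
    rw [Int.cast_natCast, Nat.cast_sub Nat.one_le_two_pow]; push_cast; rfl

/-- An involution centre criterion: an abelian normal subgroup generated by `a` and a central involution `z`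
on which some element has only two fixed points is cyclic. -/
theorem mem_zpowers_of_two_fixed [Finite G] {A : Subgroup G} [IsMulCommutative A] {a z b : G} {k : ℕ}
    (hk : 2 ≤ k) (haA : a ∈ A) (hgen : ∀ u ∈ A, ∃ i j : ℤ, u = a ^ i * z ^ j) (hzA : z ∈ A) (hz : z * z = 1)
    (ha : orderOf a = 2 ^ k) (hbA : ∀ u ∈ A, b * u * b⁻¹ ∈ A)
    (hfix : ∀ u ∈ A, b * u * b⁻¹ = u → u = 1 ∨ u = z) : z ∈ Subgroup.zpowers a := by
  set w := a ^ (2 ^ (k - 1)) with hw
  have h2k : (2:ℕ) ^ k = 2 ^ (k - 1) * 2 := by rw [← pow_succ]; congr 1; omega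
  have hw2 : w * w = 1 := by rw [hw, ← sq, ← pow_mul, ← h2k, ← ha, pow_orderOf_eq_one]
  have hw1 : w ≠ 1 := by
    intro h
    have := Nat.le_of_dvd (by positivity) (orderOf_dvd_of_pow_eq_one h)
    rw [ha, h2k] at this
    have := Nat.one_le_two_pow (n := k - 1)
    omega
  have hze : z ^ (2 ^ (k - 1)) = 1 := by
    rw [show k - 1 = (k - 2) + 1 by omega, pow_succ', pow_mul, sq, hz, one_pow]
  have hconj : b * w * b⁻¹ = w := by
    obtain ⟨i, j, hij⟩ := hgen _ (hbA a haA)
    have hc : Commute (a ^ i) (z ^ j) := Commute.zpow_zpow (setLike_mul_comm haA hzA) i j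
    have e : b * w * b⁻¹ = w ^ i := by
      rw [hw, ← conj_pow, hij, hc.mul_pow, ← zpow_natCast (z ^ j), ← zpow_mul, mul_comm j, zpow_mul, zpow_natCast,
        hze, one_zpow, mul_one, ← zpow_natCast, ← zpow_mul, mul_comm i, zpow_mul, zpow_natCast]
    rcases Int.even_or_odd' i with ⟨t, rfl | rfl⟩
    · rw [zpow_mul, zpow_two, hw2, one_zpow] at e
      exact absurd (by simpa using e : w = 1) hw1
    · rwa [zpow_add, zpow_mul, zpow_two, hw2, one_zpow, one_mul, zpow_one] at e
  rcases hfix w (pow_mem haA _) hconj with h | h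
  · exact absurd h hw1
  · exact h ▸ Subgroup.pow_mem _ (Subgroup.mem_zpowers a) _

end CfsgLib.TwoGroups.CyclicMax
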