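import Cfsg.Agent.Lib.TwoGroups.CyclicMax

/-!
Criteria for a 2-group to have a cyclic subgroup of index two (maximal class), and the classification.
-/

set_option autoImplicit false

namespace CfsgLib.TwoGroups.Classify

open CfsgLib.TwoGroups.CyclicMax
open scoped commutatorElement

variable {G : Type*} [Group G]

/-- The four non-abelian types of 2-groups with a cyclic subgroup of index two. -/
theorem classify [Finite G] {a : G} {k : ℕ} (hk : 2 ≤ k) (hG : Nat.card G = 2 ^ (k + 1))
    (ha : orderOf a = 2 ^ k) (hna : ∃ x y : G, x * y ≠ y * x) :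
    ∃ b : G, b ∉ Subgroup.zpowers a ∧
      ((b ^ 2 = 1 ∧ b * a * b⁻¹ = a⁻¹) ∨ (b ^ 2 = a ^ (2 ^ (k - 1)) ∧ b * a * b⁻¹ = a⁻¹) ∨
        (3 ≤ k ∧ b ^ 2 = 1 ∧ b * a * b⁻¹ = a ^ (1 + 2 ^ (k - 1))) ∨
        (3 ≤ k ∧ b ^ 2 = 1 ∧ b * a * b⁻¹ = a ^ (2 ^ (k - 1) - 1))) := by
  have hi := index_zpowers hG ha
  obtain ⟨b, hb⟩ : ∃ b : G, b ∉ Subgroup.zpowers a := by
    by_contra! h
    rw [(Subgroup.eq_top_iff' _).mpr h] at hi
    simp at hi
  have hmul : ∀ g, g ∈ Subgroup.zpowers a ∨ b⁻¹ * g ∈ Subgroup.zpowers a := by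
    intro g
    by_cases hg : g ∈ Subgroup.zpowers a
    · exact Or.inl hg
    · exact Or.inr ((Subgroup.mul_mem_iff_of_index_two hi).mpr (iff_of_false (by simpa using hb) hg))
  have hnc : b * a * b⁻¹ ≠ a := by
    intro h
    obtain ⟨x, y, hxy⟩ := hna
    apply hxy
    have hcb : Commute b a := mul_inv_eq_iff_eq_mul.mp h
    have key : ∀ g : G, ∃ (e : Bool) (i : ℤ), g = (if e then b else 1) * a ^ i := by
      intro g
      rcases hmul g with h | h
      · obtain ⟨i, hi⟩ := Subgroup.mem_zpowers_iff.mp h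
        exact ⟨false, i, by simp [hi]⟩
      · obtain ⟨i, hi⟩ := Subgroup.mem_zpowers_iff.mp h
        exact ⟨true, i, by simp [hi]⟩
    obtain ⟨e, i, rfl⟩ := key x
    obtain ⟨e', j, rfl⟩ := key y
    have hz : ∀ n : ℤ, Commute b (a ^ n) := fun n => hcb.zpow_right n
    have ha' : ∀ (e : Bool) (n : ℤ), Commute (if e then b else 1) (a ^ n) := by
      intro e n; cases e
      · exact Commute.one_left _
      · exact hz n
    have hbb : Commute (if e then b else (1:G)) (if e' then b else 1) := by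
      cases e <;> cases e' <;> simp
    exact ((hbb.mul_right (ha' e j)).mul_left ((ha' e' i).symm.mul_right (Commute.zpow_zpow_self a i j))).eq
  obtain ⟨s, hs⟩ : ∃ s : ℤ, a ^ s = b * b := Subgroup.mem_zpowers_iff.mp (Subgroup.mul_self_mem_of_index_two hi b)
  have hsfix : b * a ^ s * b⁻¹ = a ^ s := by rw [hs]; group
  have h2k : (2:ℕ) ^ k = 2 * 2 ^ (k - 1) := by rw [← pow_succ']; congr 1; omega
  -- fixed powers have small order
  have two_cases : a ^ (2 * s) = 1 → b ^ 2 = 1 ∨ b ^ 2 = a ^ (2 ^ (k - 1)) := by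
    intro h
    have hd := orderOf_dvd_iff_zpow_eq_one.mpr h
    rw [ha, h2k, Nat.cast_mul, Nat.cast_two] at hd
    obtain ⟨c, hc⟩ := Int.dvd_of_mul_dvd_mul_left two_ne_zero hd
    rw [sq, ← hs, hc]
    rcases Int.even_or_odd' c with ⟨t, rfl | rfl⟩
    · left
      rw [← orderOf_dvd_iff_zpow_eq_one, ha, h2k]
      push_cast
      exact ⟨t, by ring⟩
    · right
      rw [← zpow_natCast, zpow_eq_zpow_iff_modEq, ha, Int.modEq_iff_dvd, h2k]
      push_cast
      exact ⟨-t, by ring⟩
  rcases exists_exponent hk hG ha (b := b) with h | h | h | h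
  · exact absurd h hnc
  · have h2s : a ^ (2 * s) = 1 := by
      rw [← conj_zpow, h, inv_zpow'] at hsfix
      rw [two_mul, zpow_add]
      conv_lhs => arg 1; rw [← hsfix]
      group
    exact ⟨b, hb, (two_cases h2s).elim (fun e => Or.inl ⟨e, h⟩) (fun e => Or.inr (Or.inl ⟨e, h⟩))⟩
  · rcases Nat.lt_or_ge k 3 with hk3 | hk3
    · -- here the exponent is `-1`
      have hk2 : k = 2 := by omega
      subst hk2
      have e : b * a * b⁻¹ = a⁻¹ := by
        rw [h, eq_inv_iff_mul_eq_one, ← pow_succ, ← orderOf_dvd_iff_pow_eq_one, ha]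
        norm_num
      have h2s : a ^ (2 * s) = 1 := by
        rw [← conj_zpow, e, inv_zpow'] at hsfix
        rw [two_mul, zpow_add]
        conv_lhs => arg 1; rw [← hsfix]
        group
      exact ⟨b, hb, (two_cases h2s).elim (fun e' => Or.inl ⟨e', e⟩) (fun e' => Or.inr (Or.inl ⟨e', e⟩))⟩
    · -- modular type: adjust the outside generator
      obtain ⟨t, rfl | rfl⟩ := Int.even_or_odd' s
      · have hodd : IsCoprime (1 + (2:ℤ) ^ (k - 2)) ((2:ℤ) ^ k) := by
          refine IsCoprime.pow_right ?_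
          rw [show k - 2 = (k - 3) + 1 by omega, pow_succ']
          exact ⟨1, -(2 ^ (k - 3)), by ring⟩
        obtain ⟨u, v, huv⟩ := hodd
        set j : ℤ := -t * u with hj
        refine ⟨b * a ^ j, ?_, Or.inr (Or.inr (Or.inl ⟨hk3, ?_, ?_⟩))⟩
        · intro hmem
          apply hb
          rw [← mul_inv_cancel_right b (a ^ j)]
          exact mul_mem hmem (inv_mem (Subgroup.zpow_mem _ (Subgroup.mem_zpowers a) j))
        · have hbj : b * a ^ j * b⁻¹ = a ^ (((1 + 2 ^ (k - 1) : ℕ) : ℤ) * j) := by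
            rw [← conj_zpow, h, ← zpow_natCast, ← zpow_mul]
          calc (b * a ^ j) ^ 2 = (b * a ^ j * b⁻¹) * (b * b) * a ^ j := by rw [sq (b * a ^ j)]; group
            _ = 1 := by
              rw [hbj, ← hs, ← zpow_add, ← zpow_add, ← orderOf_dvd_iff_zpow_eq_one, ha]
              have e1 : (2:ℤ) ^ (k - 1) = 2 * 2 ^ (k - 2) := by rw [← pow_succ']; congr 1; omega
              push_cast
              rw [e1]
              exact ⟨2 * t * v, by linear_combination (2 * t) * (-1 : ℤ) * huv + (2 * (1 + (2:ℤ) ^ (k - 2))) * hj⟩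
        · calc b * a ^ j * a * (b * a ^ j)⁻¹ = b * a * b⁻¹ := by group
            _ = a ^ (1 + 2 ^ (k - 1)) := h
      · -- an odd square exponent makes the group abelian
        exfalso
        apply hnc
        have hcb : Commute b (a ^ (2 * t + 1)) := by rw [hs]; exact (Commute.refl b).mul_right (Commute.refl b)
        have hcop : IsCoprime (2 * t + 1) ((2:ℤ) ^ k) := IsCoprime.pow_right ⟨1, -t, by ring⟩
        obtain ⟨u, v, huv⟩ := hcop
        have e : (a ^ (2 * t + 1)) ^ u = a := by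
          rw [← zpow_mul]
          conv_rhs => rw [← zpow_one a]
          rw [zpow_eq_zpow_iff_modEq, ha, Int.modEq_iff_dvd]
          push_cast
          exact ⟨v, by linarith [huv]⟩
        have := hcb.zpow_right u
        rw [e] at this
        rw [this.eq, mul_inv_cancel_right]
  · rcases Nat.lt_or_ge k 3 with hk3 | hk3
    · have hk2 : k = 2 := by omega
      subst hk2
      exact absurd (by rw [h]; norm_num) hnc
    · -- semidihedral type
      have hu : IsCoprime ((2:ℤ) ^ k) ((2:ℤ) ^ (k - 2) - 1) := by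
        refine IsCoprime.pow_left ?_
        rw [show k - 2 = (k - 3) + 1 by omega, pow_succ']
        exact ⟨2 ^ (k - 3), -1, by ring⟩
      have h2s : a ^ (2 * s) = 1 := by
        rw [← conj_zpow, h, ← zpow_natCast, ← zpow_mul, zpow_eq_zpow_iff_modEq, ha, Int.modEq_iff_dvd] at hsfix
        rw [← orderOf_dvd_iff_zpow_eq_one, ha]
        rw [Nat.cast_sub Nat.one_le_two_pow] at hsfix
        push_cast at hsfix ⊢
        have e1 : (2:ℤ) ^ (k - 1) = 2 * 2 ^ (k - 2) := by rw [← pow_succ']; congr 1; omega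
        rw [e1] at hsfix
        refine hu.dvd_of_dvd_mul_right (z := 2 ^ (k - 2) - 1) ?_
        have h9 := (dvd_neg).mpr hsfix
        rw [show -(s - (2 * (2:ℤ) ^ (k - 2) - 1) * s) = 2 * s * ((2:ℤ) ^ (k - 2) - 1) by ring] at h9
        exact h9
      rcases two_cases h2s with e | e
      · exact ⟨b, hb, Or.inr (Or.inr (Or.inr ⟨hk3, e, h⟩))⟩
      · refine ⟨b * a, ?_, Or.inr (Or.inr (Or.inr ⟨hk3, ?_, ?_⟩))⟩
        · intro hmem
          apply hb
          rw [← mul_inv_cancel_right b a]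
          exact mul_mem hmem (inv_mem (Subgroup.mem_zpowers a))
        · calc (b * a) ^ 2 = (b * a * b⁻¹) * (b ^ 2) * a := by rw [sq (b * a), sq b]; group
            _ = 1 := by
              rw [h, e, ← pow_add, ← pow_succ, ← orderOf_dvd_iff_pow_eq_one, ha]
              have := Nat.one_le_two_pow (n := k - 1)
              rw [h2k]
              exact ⟨1, by omega⟩
        · calc b * a * a * (b * a)⁻¹ = b * a * b⁻¹ := by group
            _ = a ^ (2 ^ (k - 1) - 1) := h

theorem exists_generator [Finite G] {C : Subgroup G} (hC : IsCyclic C) (hi : C.index = 2) :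
    ∃ a : G, Subgroup.zpowers a = C ∧ 2 * orderOf a = Nat.card G := by
  obtain ⟨c, hc⟩ := IsCyclic.exists_generator (α := C)
  obtain ⟨a, ha⟩ : ∃ a : G, Subgroup.zpowers a = C := by
    refine ⟨c, le_antisymm (Subgroup.zpowers_le.mpr c.2) fun g hg => ?_⟩
    obtain ⟨i, hi⟩ := Subgroup.mem_zpowers_iff.mp (hc ⟨g, hg⟩)
    exact Subgroup.mem_zpowers_iff.mpr ⟨i, by have := congrArg Subtype.val hi; simpa using this⟩
  refine ⟨a, ha, ?_⟩
  rw [← Nat.card_zpowers, ha, ← C.card_mul_index, hi, mul_comm]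

/-- A non-abelian group of order 8 has a cyclic subgroup of index 2. -/
theorem cyclic_max_of_order_eight [Finite G] (hG : Nat.card G = 8) (hna : ∃ x y : G, x * y ≠ y * x) :
    ∃ C : Subgroup G, IsCyclic C ∧ C.index = 2 := by
  obtain ⟨a, ha⟩ : ∃ a : G, a * a ≠ 1 := by
    by_contra! h
    obtain ⟨x, y, hxy⟩ := hna
    apply hxy
    have hi : ∀ g : G, g⁻¹ = g := fun g => inv_eq_of_mul_eq_one_right (h g)
    rw [← hi (x * y), mul_inv_rev, hi, hi]
  have hd : orderOf a ∣ 2 ^ 3 := by rw [show (2:ℕ) ^ 3 = Nat.card G by rw [hG]; rfl]; exact orderOf_dvd_natCard a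
  obtain ⟨j, hj, hj'⟩ := (Nat.dvd_prime_pow Nat.prime_two).mp hd
  have hj2 : 2 ≤ j := by
    by_contra hlt
    apply ha
    rw [← sq, ← orderOf_dvd_iff_pow_eq_one, hj']
    exact pow_dvd_pow 2 (by omega : j ≤ 1)
  have hj3 : j ≠ 3 := by
    rintro rfl
    obtain ⟨x, y, hxy⟩ := hna
    haveI : IsCyclic G := isCyclic_of_orderOf_eq_card a (by rw [hj', hG]; rfl)
    exact hxy (IsCyclic.isMulCommutative.is_comm.comm x y)
  obtain rfl : j = 2 := by omega
  exact ⟨Subgroup.zpowers a, inferInstance, index_zpowers (k := 2) (by rw [hG]; rfl) hj'⟩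

/-- Lifting a cyclic maximal subgroup through a central involution. -/
theorem cyclic_max_lift [Finite G] {z a : G} {k : ℕ} (hk : 2 ≤ k) (hz : orderOf z = 2) [(Subgroup.zpowers z).Normal]
    (hzc : z ∈ Subgroup.center G) (ha : orderOf (QuotientGroup.mk a : G ⧸ Subgroup.zpowers z) = 2 ^ k)
    (hi : (Subgroup.zpowers (QuotientGroup.mk a : G ⧸ Subgroup.zpowers z)).index = 2)
    (hfix : ∀ A : Subgroup G, IsMulCommutative A → A.index = 2 → z ∈ A → a ∈ A →
      ∃ b : G, ∀ u ∈ A, b * u * b⁻¹ = u → u = 1 ∨ u = z) :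
    ∃ C : Subgroup G, IsCyclic C ∧ C.index = 2 := by
  set π := QuotientGroup.mk' (Subgroup.zpowers z)
  set A := (Subgroup.zpowers (π a)).comap π with hA
  have hAi : A.index = 2 := by rw [hA, Subgroup.index_comap_of_surjective _ (QuotientGroup.mk'_surjective _)]; exact hi
  have haA : a ∈ A := Subgroup.mem_zpowers _
  have hzA : z ∈ A := by
    show π z ∈ Subgroup.zpowers (π a)
    rw [show π z = 1 from (QuotientGroup.eq_one_iff z).mpr (Subgroup.mem_zpowers z)]
    exact one_mem _
  have hgen : ∀ u ∈ A, ∃ i j : ℤ, u = a ^ i * z ^ j := by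
    intro u hu
    obtain ⟨i, hi⟩ := Subgroup.mem_zpowers_iff.mp (show π u ∈ Subgroup.zpowers (π a) from hu)
    rw [← map_zpow] at hi
    obtain ⟨j, hj⟩ := Subgroup.mem_zpowers_iff.mp (QuotientGroup.eq.mp hi)
    exact ⟨i, j, by rw [hj, mul_inv_cancel_left]⟩
  haveI hAc : IsMulCommutative A := by
    refine ⟨⟨fun u v => Subtype.ext ?_⟩⟩
    obtain ⟨i, j, hu⟩ := hgen u u.2
    obtain ⟨i', j', hv⟩ := hgen v v.2
    show (u : G) * v = v * u
    rw [hu, hv]
    have hc : ∀ (n : ℤ) (g : G), Commute (z ^ n) g := fun n g =>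
      (show Commute z g from (Subgroup.mem_center_iff.mp hzc g).symm).zpow_left n
    exact ((Commute.zpow_zpow_self a i i').mul_right ((hc j' _).symm)).mul_left ((hc j _).mul_right (hc j _))
  have hzmem : z ∈ Subgroup.zpowers a := by
    by_contra hza
    have hord : orderOf a = 2 ^ k := by
      apply Nat.dvd_antisymm
      · rw [orderOf_dvd_iff_pow_eq_one]
        have h1 : a ^ (2 ^ k) ∈ Subgroup.zpowers z := by
          rw [← QuotientGroup.eq_one_iff, QuotientGroup.mk_pow, ← ha, pow_orderOf_eq_one]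
        obtain ⟨j, hj⟩ := mem_powers_iff_mem_zpowers.mpr h1
        have hj' : z ^ (j % 2) = a ^ 2 ^ k := by
          have := pow_mod_orderOf z j; rw [hz] at this; exact this.trans hj
        rcases Nat.mod_two_eq_zero_or_one j with e | e <;> rw [e] at hj'
        · rw [← hj', pow_zero]
        · exact absurd (by rw [← pow_one z, hj']; exact Subgroup.pow_mem _ (Subgroup.mem_zpowers a) _) hza
      · rw [← ha]; exact orderOf_map_dvd π a
    haveI := Subgroup.normal_of_index_eq_two hAi
    obtain ⟨b, hb⟩ := hfix A hAc hAi hzA haA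
    exact hza (mem_zpowers_of_two_fixed hk haA hgen hzA (by rw [← sq, ← hz, pow_orderOf_eq_one]) hord
      (fun u hu => (inferInstance : A.Normal).conj_mem u hu b) hb)
  refine ⟨Subgroup.zpowers a, inferInstance, ?_⟩
  have : Subgroup.zpowers a = A := by
    refine le_antisymm (Subgroup.zpowers_le.mpr haA) ?_
    intro u hu
    obtain ⟨i, j, rfl⟩ := hgen u hu
    exact mul_mem (Subgroup.zpow_mem _ (Subgroup.mem_zpowers a) i) (Subgroup.zpow_mem _ hzmem j)
  rw [this, hAi]

/-- A nontrivial normal subgroup of a 2-group contains a central involution. -/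
theorem exists_central_involution [Finite G] (hG : IsPGroup 2 G) (N : Subgroup G) [N.Normal] (hN : N ≠ ⊥) :
    ∃ z ∈ N, orderOf z = 2 ∧ z ∈ Subgroup.center G := by
  haveI : Fact (Nat.Prime 2) := ⟨Nat.prime_two⟩
  have hd : 2 ∣ Nat.card N := by
    obtain ⟨n, hn⟩ := (hG.to_subgroup N).exists_card_eq
    rcases n with _ | n
    · exact absurd (Subgroup.eq_bot_of_card_eq _ (by simpa using hn)) hN
    · exact ⟨2 ^ n, by rw [hn, pow_succ']⟩
  have h1 : (1 : N) ∈ MulAction.fixedPoints (ConjAct G) N := fun g => smul_one g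
  obtain ⟨w, hw, hw1⟩ := (hG.of_equiv ConjAct.toConjAct).exists_fixed_point_of_prime_dvd_card_of_fixed_point N hd h1
  have hwc : (w : G) ∈ Subgroup.center G := by
    refine Subgroup.mem_center_iff.mpr fun g => ?_
    have h2 : ((ConjAct.toConjAct g • w : N) : G) = w := congrArg Subtype.val (hw _)
    rw [ConjAct.Subgroup.val_conj_smul, ConjAct.toConjAct_smul] at h2
    exact mul_inv_eq_iff_eq_mul.mp h2
  obtain ⟨n, hn, hn'⟩ : ∃ n, 0 < n ∧ orderOf (w : G) = 2 ^ n := by
    obtain ⟨j, hj⟩ := hG w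
    obtain ⟨n, -, hn⟩ := (Nat.dvd_prime_pow Nat.prime_two).mp (orderOf_dvd_of_pow_eq_one hj)
    exact ⟨n, Nat.pos_of_ne_zero (fun e => hw1 (Subtype.ext (orderOf_eq_one_iff.mp (by rw [hn, e]; rfl)).symm)), hn⟩
  refine ⟨(w : G) ^ 2 ^ (n - 1), pow_mem w.2 _, ?_, pow_mem hwc _⟩
  have h2 : (2:ℕ) ^ n = 2 ^ (n - 1) * 2 := by rw [← pow_succ]; congr 1; omega
  rw [orderOf_pow_of_dvd (by positivity) ⟨2, hn'.trans h2⟩, hn', h2, Nat.mul_div_cancel_left _ (by positivity)]

theorem normal_zpowers_of_central {z : G} (hzc : z ∈ Subgroup.center G) : (Subgroup.zpowers z).Normal :=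
  ⟨fun a ha g => by rw [(Subgroup.mem_center_iff.mp (Subgroup.zpowers_le.mpr hzc ha) g), mul_inv_cancel_right]; exact ha⟩

/-- A non-abelian 2-group whose derived subgroup has index 4 has a cyclic subgroup of index two. -/
theorem cyclic_max_of_commutator : ∀ (n : ℕ) (H : Type*) [Group H] [Finite H], Nat.card H = 2 ^ (n + 3) →
    (commutator H).index = 4 → ∃ C : Subgroup H, IsCyclic C ∧ C.index = 2 := by
  intro n
  induction n with
  | zero =>
    intro H _ _ hH hc
    refine cyclic_max_of_order_eight hH ?_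
    by_contra! hab
    have : commutator H = ⊥ := by
      rw [commutator_def, eq_bot_iff, Subgroup.commutator_le]
      intro x _ y _
      rw [Subgroup.mem_bot, commutatorElement_eq_one_iff_mul_comm]
      exact hab x y
    rw [this, Subgroup.index_bot, hH] at hc
    norm_num at hc
  | succ n ih =>
    intro H _ _ hH hc
    haveI : Fact (Nat.Prime 2) := ⟨Nat.prime_two⟩
    have h2 : IsPGroup 2 H := IsPGroup.of_card hH
    have hne : commutator H ≠ ⊥ := by
      intro h
      rw [h, Subgroup.index_bot, hH] at hc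
      have h8 : 2 ^ 3 ≤ 2 ^ (n + 1 + 3) := Nat.pow_le_pow_right two_pos (by omega)
      omega
    obtain ⟨z, hzD, hz, hzc⟩ := exists_central_involution h2 (commutator H) hne
    haveI := normal_zpowers_of_central hzc
    set π := QuotientGroup.mk' (Subgroup.zpowers z)
    have hsurj : Function.Surjective π := QuotientGroup.mk'_surjective _
    have hq : Nat.card (H ⧸ Subgroup.zpowers z) = 2 ^ (n + 3) := by
      have := Subgroup.card_eq_card_quotient_mul_card_subgroup (Subgroup.zpowers z)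
      rw [Nat.card_zpowers, hz, hH, show n + 1 + 3 = (n + 3) + 1 by omega, pow_succ] at this
      omega
    have hcq : (commutator (H ⧸ Subgroup.zpowers z)).index = 4 := by
      rw [← hc, ← Subgroup.index_map_eq (H := commutator H) hsurj (by rw [QuotientGroup.ker_mk']; exact Subgroup.zpowers_le.mpr hzD),
        commutator_def, commutator_def, Subgroup.map_commutator, Subgroup.map_top_of_surjective _ hsurj]
    obtain ⟨C, hC, hCi⟩ := ih _ hq hcq
    obtain ⟨ā, hā, hord⟩ := exists_generator hC hCi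
    obtain ⟨a, rfl⟩ := hsurj ā
    refine cyclic_max_lift (k := n + 2) (by omega) hz hzc (a := a) ?_ (by rw [← hā] at hCi; exact hCi) ?_
    · rw [hq, show n + 3 = (n + 2) + 1 by omega, pow_succ', Nat.mul_right_inj two_ne_zero] at hord
      exact hord
    intro A hAc hAi hzA haA
    haveI := hAc
    haveI := Subgroup.normal_of_index_eq_two hAi
    obtain ⟨b, hb⟩ : ∃ b : H, b ∉ A := by
      by_contra! h
      rw [(Subgroup.eq_top_iff' _).mpr h] at hAi
      simp at hAi
    refine ⟨b, ?_⟩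
    have cA : ∀ u ∈ A, ∀ v ∈ A, u * v = v * u := fun u hu v hv => setLike_mul_comm hu hv
    -- the commutator map on A
    have hbu : ∀ u : A, b * (u : H) * b⁻¹ * (u : H)⁻¹ ∈ A := fun u =>
      mul_mem ((inferInstance : A.Normal).conj_mem u u.2 b) (inv_mem u.2)
    let f : A →* A := MonoidHom.mk' (fun u => ⟨_, hbu u⟩) (fun u v => by
      apply Subtype.ext
      show b * ((u : H) * v) * b⁻¹ * ((u : H) * v)⁻¹ = (b * u * b⁻¹ * (u : H)⁻¹) * (b * v * b⁻¹ * (v : H)⁻¹)
      have hcomm := cA ((b * (v : H) * b⁻¹) * (v : H)⁻¹) (hbu v) ((u : H)⁻¹) (inv_mem u.2)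
      calc b * ((u : H) * v) * b⁻¹ * ((u : H) * v)⁻¹ = (b * u * b⁻¹) * (((b * v * b⁻¹) * (v : H)⁻¹) * (u : H)⁻¹) := by group
        _ = (b * u * b⁻¹) * ((u : H)⁻¹ * ((b * v * b⁻¹) * (v : H)⁻¹)) := by rw [hcomm]
        _ = _ := by group)
    set I := f.range.map A.subtype with hI
    have hIA : I ≤ A := Subgroup.map_subtype_le _
    have hmulb : ∀ g, g ∈ A ∨ ∃ u ∈ A, g = b * u := by
      intro g
      by_cases hg : g ∈ A
      · exact Or.inl hg
      · exact Or.inr ⟨b⁻¹ * g, (Subgroup.mul_mem_iff_of_index_two hAi).mpr (iff_of_false (by simpa using hb) hg), by group⟩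
    have hIn : I.Normal := by
      refine ⟨fun w hw g => ?_⟩
      have hfixA : ∀ u ∈ A, u * w * u⁻¹ = w := fun u hu => by rw [cA u hu w (hIA hw)]; group
      rcases hmulb g with hg | ⟨u, hu, rfl⟩
      · rw [hfixA g hg]; exact hw
      · rw [show b * u * w * (b * u)⁻¹ = b * (u * w * u⁻¹) * b⁻¹ by group, hfixA u hu]
        obtain ⟨_, ⟨v, rfl⟩, rfl⟩ := hw
        refine ⟨f ⟨b * v * b⁻¹, (inferInstance : A.Normal).conj_mem v v.2 b⟩, ⟨_, rfl⟩, ?_⟩
        show b * (b * v * b⁻¹) * b⁻¹ * (b * v * b⁻¹)⁻¹ = b * (b * v * b⁻¹ * (v : H)⁻¹) * b⁻¹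
        group
    have hDI : commutator H ≤ I := by
      let ρ := QuotientGroup.mk' I
      have hcm : ∀ u ∈ A, Commute (ρ b) (ρ u) := by
        intro u hu
        show ρ b * ρ u = ρ u * ρ b
        rw [← map_mul, ← map_mul]
        apply QuotientGroup.eq.mpr
        have hw : b * u * b⁻¹ * u⁻¹ ∈ I := ⟨f ⟨u, hu⟩, ⟨_, rfl⟩, rfl⟩
        have h1 : (b * u)⁻¹ * (u * b) = (b * u)⁻¹ * (b * u * b⁻¹ * u⁻¹)⁻¹ * ((b * u)⁻¹)⁻¹ := by group
        rw [h1]
        exact hIn.conj_mem _ (inv_mem hw) _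
      have hquot : ∀ p q : H ⧸ I, p * q = q * p := by
        intro p q
        obtain ⟨x, rfl⟩ := QuotientGroup.mk'_surjective I p
        obtain ⟨y, rfl⟩ := QuotientGroup.mk'_surjective I q
        have hAA : ∀ u ∈ A, ∀ v ∈ A, Commute (ρ u) (ρ v) := fun u hu v hv => (show Commute u v from cA u hu v hv).map ρ
        show Commute (ρ x) (ρ y)
        rcases hmulb x with hx | ⟨u, hu, rfl⟩ <;> rcases hmulb y with hy | ⟨v, hv, rfl⟩
        · exact hAA x hx y hy
        · rw [map_mul]; exact (hcm x hx).symm.mul_right (hAA x hx v hv)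
        · rw [map_mul]; exact (hcm y hy).mul_left (hAA u hu y hy)
        · rw [map_mul, map_mul]
          exact ((Commute.refl _).mul_right (hcm v hv)).mul_left ((hcm u hu).symm.mul_right (hAA u hu v hv))
      rw [commutator_def, Subgroup.commutator_le]
      intro x _ y _
      rw [← QuotientGroup.eq_one_iff]
      show QuotientGroup.mk' I ⁅x, y⁆ = 1
      rw [map_commutatorElement, commutatorElement_eq_one_iff_mul_comm]
      exact hquot _ _
    intro u hu hfx
    have hker : (⟨u, hu⟩ : A) ∈ f.ker := by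
      rw [MonoidHom.mem_ker]; apply Subtype.ext
      show b * u * b⁻¹ * u⁻¹ = 1
      rw [hfx, mul_inv_cancel]
    have hzker : (⟨z, hzA⟩ : A) ∈ f.ker := by
      rw [MonoidHom.mem_ker]; apply Subtype.ext
      show b * z * b⁻¹ * z⁻¹ = 1
      rw [Subgroup.mem_center_iff.mp hzc b]; group
    have hc1 : Nat.card f.ker * Nat.card f.range * 2 = 2 ^ (n + 1 + 3) := by
      rw [← Subgroup.index_ker, Subgroup.card_mul_index, ← hH, ← hAi, Subgroup.card_mul_index]
    have hc2 : 2 ^ (n + 1 + 3) ≤ Nat.card f.range * 4 := by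
      have e : Nat.card I = Nat.card f.range := Subgroup.card_map_of_injective A.subtype_injective
      rw [← hH, ← (commutator H).card_mul_index, hc, ← e]
      exact Nat.mul_le_mul_right 4 (Subgroup.card_le_of_le hDI)
    have hle : Nat.card f.ker ≤ 2 := by
      by_contra hgt
      have : Nat.card f.range * 4 < Nat.card f.ker * Nat.card f.range * 2 := by
        have hpos : 0 < Nat.card f.range := Nat.card_pos
        nlinarith
      omega
    by_contra! hne
    have hz1 : z ≠ 1 := fun e => by simp [e] at hz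
    let g : Fin 3 → H := ![1, z, u]
    have hgA : ∀ i, g i ∈ A := fun i => by fin_cases i <;> simp [g, hzA, hu]
    have hgk : ∀ i, (⟨g i, hgA i⟩ : A) ∈ f.ker := fun i => by
      fin_cases i
      · exact one_mem f.ker
      · exact hzker
      · exact hker
    let v : Fin 3 → f.ker := fun i => ⟨⟨g i, hgA i⟩, hgk i⟩
    have hv : Function.Injective v := by
      intro p q h
      have h' : g p = g q := congrArg (fun t : f.ker => ((t : A) : H)) h
      have := hne.1.symm; have := hne.2.symm; have := hz1.symm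
      fin_cases p <;> fin_cases q <;> simp_all [g]
    have := Nat.card_le_card_of_injective v hv
    rw [Nat.card_fin] at this
    omega

end CfsgLib.TwoGroups.Classify
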