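import Mathlib
import Cfsg.Agent.Lib.Involution.RankTwoSylow
import Cfsg.Agent.Lib.Fusion.MaxClass

/-!
Subgroups of metacyclic 2-groups: quaternion, self-centralising four and homocyclic ones.
-/

set_option autoImplicit false
set_option linter.style.haveILetI false

namespace CfsgLib.TwoGroups.MetacyclicSub

theorem mem_zpowers_of_cyclic {C : Type*} [Group C] [Finite C] [IsCyclic C] {x y : C}
    (h : orderOf x ∣ orderOf y) : x ∈ Subgroup.zpowers y := by
  classical
  haveI := Fintype.ofFinite C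
  have hsub : (Finset.univ.filter fun z : C => z ∈ Subgroup.zpowers y) ⊆
      Finset.univ.filter fun z : C => z ^ orderOf y = 1 := by
    intro z hz
    simp only [Finset.mem_filter, Finset.mem_univ, true_and] at hz ⊢
    obtain ⟨i, rfl⟩ := Subgroup.mem_zpowers_iff.mp hz
    rw [← zpow_natCast, ← zpow_mul, mul_comm, zpow_mul, zpow_natCast, pow_orderOf_eq_one, one_zpow]
  have hc : (Finset.univ.filter fun z : C => z ∈ Subgroup.zpowers y).card = orderOf y := by
    rw [← Nat.card_zpowers, Nat.card_eq_fintype_card]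
    exact (Fintype.card_of_subtype _ (fun z => by simp)).symm
  have he := Finset.eq_of_subset_of_card_le hsub
    ((IsCyclic.card_pow_eq_one_le (orderOf_pos y)).trans hc.ge)
  have hx : x ∈ Finset.univ.filter fun z : C => z ^ orderOf y = 1 := by
    simpa using orderOf_dvd_iff_pow_eq_one.mp h
  rw [← he] at hx
  simpa using hx

theorem eq_of_involutions {C : Type*} [Group C] [Finite C] [IsCyclic C] {x y : C}
    (hx : x * x = 1) (hx1 : x ≠ 1) (hy : y * y = 1) (hy1 : y ≠ 1) : x = y := by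
  have ox : orderOf x = 2 := orderOf_eq_prime (by rw [pow_two, hx]) hx1
  have oy : orderOf y = 2 := orderOf_eq_prime (by rw [pow_two, hy]) hy1
  obtain ⟨i, hi⟩ := Subgroup.mem_zpowers_iff.mp (mem_zpowers_of_cyclic (x := x) (y := y) (by rw [ox, oy]))
  rcases Int.even_or_odd i with ⟨k, rfl⟩ | ⟨k, rfl⟩
  · exact absurd (by rw [← hi, zpow_add, ← (Commute.refl y).mul_zpow, hy, one_zpow]) hx1
  · rw [← hi, zpow_add_one, two_mul, zpow_add, ← (Commute.refl y).mul_zpow, hy, one_zpow, one_mul]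

variable {G : Type*} [Group G] [Finite G] {N : Subgroup G} [N.Normal]

theorem exists_gen (hN : IsCyclic N) : ∃ a : G, Subgroup.zpowers a = N := by
  obtain ⟨⟨a, ha⟩, h⟩ := hN.exists_generator
  refine ⟨a, le_antisymm (Subgroup.zpowers_le.mpr ha) fun x hx => ?_⟩
  obtain ⟨i, hi⟩ := Subgroup.mem_zpowers_iff.mp (h ⟨x, hx⟩)
  exact ⟨i, congrArg Subtype.val hi⟩

theorem exists_quaternion_gens (hQ : IsCyclic (G ⧸ N)) {i j : G} (hi : orderOf i = 4)
    (hj : i * i = j * j) (hc : j * i * j⁻¹ = i⁻¹) :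
    ∃ u v : G, u ∈ N ∧ orderOf u = 4 ∧ u * u = v * v ∧ v * u * v⁻¹ = u⁻¹ := by
  letI : CommGroup (G ⧸ N) := IsCyclic.commGroup
  have h4 : i * i * (i * i) = 1 := by
    rw [← mul_assoc, ← pow_three' i, ← pow_succ, show 3 + 1 = orderOf i from hi.symm, pow_orderOf_eq_one]
  have h2 : i * i ≠ 1 := fun e => by
    have := orderOf_dvd_of_pow_eq_one (x := i) (n := 2) (by rw [pow_two, e])
    rw [hi] at this
    norm_num at this
  have ho : ∀ u : G, u * u = i * i → orderOf u = 4 := fun u hu => by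
    have h := orderOf_eq_prime_pow (p := 2) (n := 1) (x := u) (by rwa [pow_one, pow_two, hu])
      (by rw [show 2 ^ (1 + 1) = 2 + 2 from rfl, pow_add, pow_two, hu, h4])
    simpa using h
  by_cases hiN : i ∈ N
  · exact ⟨i, j, hiN, hi, hj, hc⟩
  have hiij : i * j * i = j := by
    calc i * j * i = i * (j * i * j⁻¹) * j := by group
      _ = j := by rw [hc, mul_inv_cancel, one_mul]
  by_cases hjN : j ∈ N
  · refine ⟨j, i, hjN, ho j hj.symm, hj.symm, ?_⟩
    calc i * j * i⁻¹ = (i * j * i) * (i * i)⁻¹ := by group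
      _ = j * (j * j)⁻¹ := by rw [hiij, hj]
      _ = j⁻¹ := by group
  have hk : i * j * (i * j) = j * j := by rw [← mul_assoc, hiij]
  refine ⟨i * j, j, ?_, ho _ (hk.trans hj.symm), hk, ?_⟩
  · have hii : (i : G ⧸ N) * i = 1 := by
      have h := congrArg (fun g : G => (g : G ⧸ N)) hc
      simp only [QuotientGroup.mk_mul, QuotientGroup.mk_inv, mul_inv_cancel_comm] at h
      nth_rewrite 2 [h]
      exact mul_inv_cancel _
    have hjj : (j : G ⧸ N) * j = 1 := by
      rw [← QuotientGroup.mk_mul, ← hj, QuotientGroup.mk_mul, hii]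
    have := eq_of_involutions hii (fun h => hiN ((QuotientGroup.eq_one_iff i).mp h)) hjj
      (fun h => hjN ((QuotientGroup.eq_one_iff j).mp h))
    rw [← QuotientGroup.eq_one_iff, QuotientGroup.mk_mul, this, hjj]
  · have hi3 : i⁻¹ = i * (i * i) := inv_eq_of_mul_eq_one_right (by rw [← mul_assoc]; exact h4)
    calc j * (i * j) * j⁻¹ = j * i := by group
      _ = (j * i * j⁻¹) * j := by group
      _ = i * (i * i) * j := by rw [hc, hi3]
      _ = (i * j) * (j * j) := by rw [mul_assoc i (i * i), hj]; group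
      _ = (i * j)⁻¹ := by
          rw [eq_comm, inv_eq_iff_mul_eq_one, ← mul_assoc, hk, ← hj, h4]

/-- A metacyclic 2-group with a quaternion subgroup has maximal class. -/
theorem quaternion_or_quasiDihedral (hG : IsPGroup 2 G) (hN : IsCyclic N) (hQ : IsCyclic (G ⧸ N))
    {i j : G} (hi : orderOf i = 4) (hj : i * i = j * j) (hc : j * i * j⁻¹ = i⁻¹) :
    (∃ m : ℕ, Nonempty (G ≃* QuaternionGroup m)) ∨ Cfsg.IsQuasiDihedral G := by
  haveI : Fact (Nat.Prime 2) := ⟨Nat.prime_two⟩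
  obtain ⟨i, j, hiN, hi, hj, hc⟩ := exists_quaternion_gens hQ hi hj hc
  obtain ⟨a, ha⟩ := exists_gen hN
  have hne : i⁻¹ ≠ i := fun e => by
    have := orderOf_dvd_of_pow_eq_one (x := i) (n := 2) (by rw [pow_two]; nth_rewrite 1 [← e]; rw [inv_mul_cancel])
    rw [hi] at this
    norm_num at this
  have hNc : ∀ x ∈ N, ∀ y ∈ N, x * y = y * x := fun x hx y hy => by
    rw [← ha] at hx hy
    obtain ⟨p, rfl⟩ := Subgroup.mem_zpowers_iff.mp hx
    obtain ⟨q, rfl⟩ := Subgroup.mem_zpowers_iff.mp hy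
    rw [← zpow_add, ← zpow_add, add_comm]
  have hjN : j ∉ N := fun h => hne (by rw [← hc, hNc j h i hiN, mul_inv_cancel_right])
  -- conjugation acts as `±1` on `i`
  have hpm : ∀ g : G, g * i * g⁻¹ = i ∨ g * i * g⁻¹ = i⁻¹ := by
    intro g
    have hmem : (⟨g * i * g⁻¹, Subgroup.Normal.conj_mem inferInstance i hiN g⟩ : N) ∈
        Subgroup.zpowers (⟨i, hiN⟩ : N) := by
      haveI := hN
      exact mem_zpowers_of_cyclic (dvd_of_eq (by
        rw [← Subgroup.orderOf_coe, ← Subgroup.orderOf_coe]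
        exact (SemiconjBy.conj_mk g i).orderOf_eq.symm))
    obtain ⟨k, hk⟩ := Subgroup.mem_zpowers_iff.mp hmem
    have hk' : i ^ k = g * i * g⁻¹ := congrArg Subtype.val hk
    rw [← zpow_mod_orderOf, hi] at hk'
    have ho : orderOf (g * i * g⁻¹) = 4 := by rw [← (SemiconjBy.conj_mk g i).orderOf_eq, hi]
    rcases (show k % ((4 : ℕ) : ℤ) = 0 ∨ k % ((4 : ℕ) : ℤ) = 1 ∨ k % ((4 : ℕ) : ℤ) = 2 ∨
      k % ((4 : ℕ) : ℤ) = 3 by omega) with h | h | h | h <;> rw [h] at hk'
    · rw [← hk', zpow_zero, orderOf_one] at ho; norm_num at ho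
    · exact Or.inl (by rw [← hk', zpow_one])
    · rw [← hk'] at ho
      have h2 : orderOf (i ^ (2 : ℤ)) ∣ 2 := orderOf_dvd_of_pow_eq_one (by
        rw [← zpow_natCast, ← zpow_mul, show (2 : ℤ) * ((2 : ℕ) : ℤ) = ((4 : ℕ) : ℤ) from rfl, zpow_natCast,
          ← hi, pow_orderOf_eq_one])
      rw [ho] at h2
      norm_num at h2
    · refine Or.inr ?_
      rw [← hk', eq_inv_iff_mul_eq_one, ← zpow_add_one, show (3 : ℤ) + 1 = ((4 : ℕ) : ℤ) from rfl,
        zpow_natCast, ← hi, pow_orderOf_eq_one]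
  -- so squares centralise `i` and `j` generates modulo `N`
  have hsq : ∀ g : G, g * g * i * (g * g)⁻¹ = i := by
    intro g
    rw [show g * g * i * (g * g)⁻¹ = g * (g * i * g⁻¹) * g⁻¹ by group]
    rcases hpm g with h | h
    · rw [h, h]
    · rw [h, show g * i⁻¹ * g⁻¹ = (g * i * g⁻¹)⁻¹ by group, h, inv_inv]
  obtain ⟨b', hb'⟩ := hQ.exists_generator
  obtain ⟨b, rfl⟩ := QuotientGroup.mk'_surjective N b'
  obtain ⟨s, hs⟩ := Subgroup.mem_zpowers_iff.mp (hb' (j : G ⧸ N))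
  obtain ⟨n, hn, hjn⟩ : ∃ n ∈ N, j = b ^ s * n := by
    rw [QuotientGroup.mk'_apply, ← QuotientGroup.mk_zpow] at hs
    exact ⟨_, QuotientGroup.eq.mp hs, (mul_inv_cancel_left _ _).symm⟩
  have hbj : (j : G ⧸ N) * j = 1 := by
    rw [← QuotientGroup.mk_mul, QuotientGroup.eq_one_iff, ← hj]
    exact mul_mem hiN hiN
  obtain ⟨t, rfl⟩ : Odd s := by
    rcases Int.even_or_odd s with ⟨t, rfl⟩ | h
    · exfalso
      apply hne
      rw [← hc, hjn, show b ^ (t + t) * n * i * (b ^ (t + t) * n)⁻¹ =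
        b ^ (t + t) * (n * i * n⁻¹) * (b ^ (t + t))⁻¹ by group, hNc n hn i hiN, mul_inv_cancel_right, zpow_add, hsq]
    · exact h
  have hb2 : QuotientGroup.mk' N b * QuotientGroup.mk' N b = 1 := by
    obtain ⟨k, hk⟩ := IsPGroup.iff_orderOf.mp (hG.to_quotient N) (QuotientGroup.mk' N b)
    have h1 := hbj
    rw [← hs, ← zpow_add, show (2 * t + 1) + (2 * t + 1) = ((2 : ℕ) : ℤ) * (2 * t + 1) by push_cast; ring,
      ← orderOf_dvd_iff_zpow_eq_one, hk] at h1
    rw [← pow_two, ← orderOf_dvd_iff_pow_eq_one, hk]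
    have hcop : Int.gcd ((2 ^ k : ℕ) : ℤ) (2 * t + 1) = 1 := by
      rw [Int.gcd, Int.natAbs_natCast]
      refine Nat.Coprime.pow_left k ((Nat.prime_two.coprime_iff_not_dvd).mpr fun hd => ?_)
      have : (2 : ℤ) ∣ 2 * t + 1 := Int.ofNat_dvd_left.mpr hd
      omega
    exact Int.natCast_dvd_natCast.mp (Int.dvd_of_dvd_mul_left_of_gcd_one h1 hcop)
  have hjb : (j : G ⧸ N) = QuotientGroup.mk' N b := by
    rw [← hs, zpow_add_one, two_mul, zpow_add, ← (Commute.refl _).mul_zpow, hb2, one_zpow, one_mul]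
  have hi2 : N.index = 2 := by
    rw [Subgroup.index_eq_card, ← orderOf_eq_card_of_forall_mem_zpowers hb']
    exact orderOf_eq_prime (by rw [pow_two, hb2]) fun h => hjN ((QuotientGroup.eq_one_iff j).mp (hjb.trans h))
  -- classify
  obtain ⟨k, hk⟩ := IsPGroup.iff_orderOf.mp hG a
  have hcard : Nat.card G = 2 ^ (k + 1) := by
    rw [← N.card_mul_index, hi2, ← ha, Nat.card_zpowers, hk, pow_succ]
  have hk2 : 2 ≤ k := by
    by_contra hlt
    obtain ⟨q, hq⟩ := Subgroup.mem_zpowers_iff.mp (ha.ge hiN)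
    have h : orderOf i ∣ orderOf a := by
      rw [← hq]
      exact orderOf_dvd_of_pow_eq_one (by
        rw [← zpow_natCast, ← zpow_mul, mul_comm, zpow_mul, zpow_natCast, pow_orderOf_eq_one, one_zpow])
    rw [hi, hk] at h
    have := Nat.le_of_dvd (by positivity) h
    have : 2 ^ k ≤ 2 ^ 1 := Nat.pow_le_pow_right two_pos (by omega)
    omega
  obtain ⟨c, hcN, hcases⟩ := Classify.classify hk2 hcard hk
    ⟨j, i, fun e => hne (by rw [← hc, e, mul_inv_cancel_right])⟩
  rw [ha] at hcN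
  obtain ⟨w, hw, hjc⟩ : ∃ w ∈ N, j = c * w :=
    ⟨c⁻¹ * j, (Subgroup.mul_mem_iff_of_index_two hi2).mpr (iff_of_false (by simpa using hcN) hjN),
      (mul_inv_cancel_left _ _).symm⟩
  rcases hcases with ⟨hb2, hba⟩ | ⟨hb2, hba⟩ | ⟨hk3, hb2, hba⟩ | ⟨hk3, hb2, hba⟩
  · exfalso
    obtain ⟨q, hq⟩ := Subgroup.mem_zpowers_iff.mp (ha.ge hw)
    have : j * j = 1 := by
      rw [hjc, ← hq, show c * a ^ q * (c * a ^ q) = (c * a ^ q * c⁻¹) * c ^ 2 * a ^ q by group, hb2, mul_one,
        ← conj_zpow, hba, inv_zpow, inv_mul_cancel]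
    have := orderOf_dvd_of_pow_eq_one (x := i) (n := 2) (by rw [pow_two, hj, this])
    rw [hi] at this
    norm_num at this
  · refine Or.inl ⟨2 ^ (k - 1), CyclicMax.quaternion_iso (by positivity) ?_ ?_ (ha.symm ▸ hcN)
      (by rw [← pow_two, hb2]) hba⟩
    · rw [hk, ← pow_succ']; congr 1; omega
    · rw [hcard, show 4 * 2 ^ (k - 1) = 2 ^ (k - 1 + 2) by ring]; congr 1; omega
  · exfalso
    obtain ⟨q, hq⟩ := Subgroup.mem_zpowers_iff.mp (ha.ge hiN)
    have hci : c * i * c⁻¹ = i := by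
      have h4 : a ^ ((2 ^ (k - 1) : ℕ) * q) = 1 := by
        rw [mul_comm, zpow_mul, hq, zpow_natCast, ← orderOf_dvd_iff_pow_eq_one, hi]
        exact pow_dvd_pow 2 (show 2 ≤ k - 1 by omega)
      rw [← hq, ← conj_zpow, hba, ← zpow_natCast, ← zpow_mul, Nat.cast_add, Nat.cast_one, add_mul, one_mul,
        zpow_add, h4, mul_one]
    apply hne
    rw [← hc, hjc, show c * w * i * (c * w)⁻¹ = c * (w * i * w⁻¹) * c⁻¹ by group, hNc w hw i hiN,
      mul_inv_cancel_right, hci]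
  · refine Or.inr ⟨k, hk3, hcard, a, c, hk, orderOf_eq_prime hb2 ?_, hba⟩
    rintro rfl
    exact hcN N.one_mem

/-- A metacyclic 2-group with a self-centralising four subgroup is dihedral or quasi-dihedral. -/
theorem dihedral_or_quasiDihedral (hG : IsPGroup 2 G) (hN : IsCyclic N) (hQ : IsCyclic (G ⧸ N))
    {R : Subgroup G} (hR : Nat.card R = 4) (hexp : ∀ x ∈ R, x * x = 1)
    (hcent : Subgroup.centralizer (R : Set G) ≤ R) :
    (∃ m : ℕ, Nonempty (G ≃* DihedralGroup m)) ∨ Cfsg.IsQuasiDihedral G := by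
  haveI : Fact (Nat.Prime 2) := ⟨Nat.prime_two⟩
  haveI hRab : IsMulCommutative R := IsPGroup.isMulCommutative_of_card_eq_prime_sq (p := 2) (by simpa using hR)
  obtain ⟨z, hzR, hzN, hz1⟩ : ∃ z, z ∈ R ∧ z ∈ N ∧ z ≠ 1 := by
    by_contra hno
    push Not at hno
    haveI := hQ
    haveI : IsCyclic R := isCyclic_of_injective ((QuotientGroup.mk' N).comp R.subtype) (by
      rw [injective_iff_map_eq_one]
      intro x hx
      exact Subtype.ext (hno x x.2 ((QuotientGroup.eq_one_iff _).mp hx)))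
    have h2 : Monoid.exponent R ∣ 2 := Monoid.exponent_dvd_of_forall_pow_eq_one fun x => Subtype.ext (by
      rw [Subgroup.coe_pow, pow_two]; exact hexp _ x.2)
    rw [IsCyclic.exponent_eq_card, hR] at h2
    norm_num at h2
  obtain ⟨t, htR, htz⟩ : ∃ t ∈ R, t ∉ Subgroup.zpowers z := by
    by_contra hno
    push Not at hno
    have := Subgroup.card_le_of_le (hno : R ≤ Subgroup.zpowers z)
    rw [hR, Nat.card_zpowers, orderOf_eq_prime (by rw [pow_two, hexp z hzR]) hz1] at this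
    omega
  have ht1 : t ≠ 1 := fun h => htz (h ▸ Subgroup.one_mem _)
  have hto : orderOf t = 2 := orderOf_eq_prime (by rw [pow_two, hexp t htR]) ht1
  by_cases hRt : R = ⊤
  · left
    refine ⟨2, CyclicMax.dihedral_iso (a := z) (b := t) (orderOf_eq_prime (by rw [pow_two, hexp z hzR]) hz1)
      (by rw [← Subgroup.card_top (G := G), ← hRt, hR]) htz (hexp t htR) ?_⟩
    rw [inv_eq_of_mul_eq_one_right (hexp z hzR)]
    exact mul_inv_eq_iff_eq_mul.mpr
      (congrArg Subtype.val ((inferInstance : IsMulCommutative R).1.1 ⟨t, htR⟩ ⟨z, hzR⟩))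
  have hzc : ∀ g : G, g * z = z * g := by
    intro g
    haveI := hN
    have h : g * z * g⁻¹ = z := congrArg Subtype.val (eq_of_involutions
      (x := (⟨g * z * g⁻¹, Subgroup.Normal.conj_mem inferInstance z hzN g⟩ : N)) (y := ⟨z, hzN⟩)
      (Subtype.ext (show g * z * g⁻¹ * (g * z * g⁻¹) = 1 by
        rw [show g * z * g⁻¹ * (g * z * g⁻¹) = g * (z * z) * g⁻¹ by group, hexp z hzR, mul_one, mul_inv_cancel]))
      (fun h => hz1 (conj_eq_one_iff.mp (congrArg Subtype.val h)))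
      (Subtype.ext (hexp z hzR)) (fun h => hz1 (congrArg Subtype.val h)))
    exact mul_inv_eq_iff_eq_mul.mp h
  have hgen : R ≤ Subgroup.zpowers z ⊔ Subgroup.zpowers t := by
    refine (Subgroup.eq_of_le_of_card_ge (sup_le (Subgroup.zpowers_le.mpr hzR) (Subgroup.zpowers_le.mpr htR)) ?_).ge
    have hlt : Subgroup.zpowers z < Subgroup.zpowers z ⊔ Subgroup.zpowers t := lt_of_le_of_ne le_sup_left
      fun h => htz (h ▸ Subgroup.mem_sup_right (Subgroup.mem_zpowers t))
    have h1 := CfsgLib.Fusion.MaxClass.card_mul_le_of_lt (p := 2) hG hlt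
    rw [Nat.card_zpowers, orderOf_eq_prime (by rw [pow_two, hexp z hzR]) hz1] at h1
    rw [hR]
    simpa using h1
  have hCt : Subgroup.centralizer ({t} : Set G) = R := by
    refine le_antisymm (fun g hg => hcent (Subgroup.mem_centralizer_iff.mpr fun x hx => ?_)) fun g hg =>
      Subgroup.mem_centralizer_singleton_iff.mpr
        (congrArg Subtype.val ((inferInstance : IsMulCommutative R).1.1 ⟨g, hg⟩ ⟨t, htR⟩))
    have hle : Subgroup.zpowers z ⊔ Subgroup.zpowers t ≤ Subgroup.centralizer ({g} : Set G) :=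
      sup_le (Subgroup.zpowers_le.mpr (Subgroup.mem_centralizer_singleton_iff.mpr (hzc g).symm))
        (Subgroup.zpowers_le.mpr (Subgroup.mem_centralizer_singleton_iff.mpr
          (Subgroup.mem_centralizer_singleton_iff.mp hg).symm))
    exact Subgroup.mem_centralizer_singleton_iff.mp (hle (hgen hx))
  rcases Involution.RankTwoSylow.maximal_class hG hto (by rw [hCt, hR])
    (fun h => hRt (by rw [← hCt, Subgroup.centralizer_eq_top_iff_subset]; simpa using h))
    ⟨z, t, hexp z hzR, hexp t htR, hz1, ht1, fun h => htz (h ▸ Subgroup.mem_zpowers z)⟩ with ⟨m, -, hm⟩ | h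
  · exact Or.inl ⟨m, hm⟩
  · exact Or.inr h

/-- An element outside a homocyclic subgroup of rank two acts trivially modulo squares, if its square lies inside. -/
theorem square_mod (hG : IsPGroup 2 G) (hN : IsCyclic N) (hQ : IsCyclic (G ⧸ N)) {R : Subgroup G} {n : ℕ}
    (hn : 2 ≤ n) (hcard : Nat.card R = 2 ^ (2 * n)) (hcomm : ∀ x ∈ R, ∀ y ∈ R, x * y = y * x)
    (hexp : ∀ x ∈ R, x ^ 2 ^ n = 1) {t : G} (htR : t ∉ R) (ht2 : t * t ∈ R)
    (htn : ∀ x ∈ R, t * x * t⁻¹ ∈ R) {x : G} (hx : x ∈ R) : ∃ y ∈ R, t * x * t⁻¹ * x⁻¹ = y * y := by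
  haveI : Fact (Nat.Prime 2) := ⟨Nat.prime_two⟩
  set K := N ⊓ R
  haveI : IsCyclic K := isCyclic_of_injective (Subgroup.inclusion (inf_le_left : K ≤ N))
    (Subgroup.inclusion_injective _)
  set π := QuotientGroup.mk' N
  set B := R.map π
  haveI : IsCyclic B := isCyclic_of_injective B.subtype B.subtype_injective
  have hKle : Nat.card K ∣ 2 ^ n := by
    rw [← IsCyclic.exponent_eq_card]
    exact Monoid.exponent_dvd_of_forall_pow_eq_one fun x => Subtype.ext (by simpa using hexp _ x.2.2)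
  have hBle : Nat.card B ∣ 2 ^ n := by
    rw [← IsCyclic.exponent_eq_card]
    refine Monoid.exponent_dvd_of_forall_pow_eq_one ?_
    rintro ⟨_, y, hy, rfl⟩
    exact Subtype.ext (by simp [← map_pow, hexp y hy])
  have hmul : Nat.card B * Nat.card K = Nat.card R := by
    rw [← Subgroup.relIndex_bot_left, ← Subgroup.relIndex_bot_left, ← Subgroup.relIndex_bot_left,
      ← Subgroup.relIndex_comap, MonoidHom.comap_bot, QuotientGroup.ker_mk', ← Subgroup.inf_relIndex_right N R,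
      mul_comm, Subgroup.relIndex_mul_relIndex _ _ _ bot_le inf_le_right]
  have hpos : 0 < 2 ^ n := pow_pos two_pos n
  have hKc : Nat.card K = 2 ^ n ∧ Nat.card B = 2 ^ n := by
    have h1 := Nat.le_of_dvd hpos hKle
    have h2 := Nat.le_of_dvd hpos hBle
    rw [hcard, show 2 ^ (2 * n) = 2 ^ n * 2 ^ n by rw [← pow_add, two_mul]] at hmul
    constructor <;> nlinarith
  obtain ⟨⟨g, hgK⟩, hg⟩ := IsCyclic.exists_generator (α := K)
  have hgo : orderOf g = 2 ^ n := by
    rw [← hKc.1, ← orderOf_eq_card_of_forall_mem_zpowers hg]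
    exact Subgroup.orderOf_coe (⟨g, hgK⟩ : K)
  have hgmem : ∀ y ∈ K, ∃ s : ℤ, g ^ s = y := fun y hy => by
    obtain ⟨s, hs⟩ := Subgroup.mem_zpowers_iff.mp (hg ⟨y, hy⟩)
    exact ⟨s, congrArg Subtype.val hs⟩
  have hgn : g ^ 2 ^ (n - 1) ≠ 1 := fun h => by
    rw [← orderOf_dvd_iff_pow_eq_one, hgo, Nat.pow_dvd_pow_iff_le_right (by norm_num)] at h
    omega
  by_cases hcase : ∃ u ∈ N, u⁻¹ * t ∈ R
  · obtain ⟨u, huN, hur⟩ := hcase
    obtain ⟨r, hr, rfl⟩ : ∃ r ∈ R, t = u * r := ⟨_, hur, (mul_inv_cancel_left _ _).symm⟩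
    have huR : u ∉ R := fun h => htR (R.mul_mem h hr)
    have hun : ∀ y ∈ R, u * y * u⁻¹ ∈ R := fun y hy => by
      have := htn y hy
      rwa [show u * r * y * (u * r)⁻¹ = u * (r * y * r⁻¹) * u⁻¹ by group, hcomm r hr y hy,
        mul_inv_cancel_right] at this
    have hu2 : u * u ∈ R := by
      have h1 := R.mul_mem (R.inv_mem (hun r hr)) (R.mul_mem ht2 (R.inv_mem hr))
      rwa [show (u * r * u⁻¹)⁻¹ * (u * r * (u * r) * r⁻¹) = u * u by group] at h1
    have hu2N : u * u ∈ N := N.mul_mem huN huN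
    have huo : orderOf u = 2 ^ (n + 1) := by
      refine orderOf_eq_prime_pow (fun h => huR ?_) (by
        rw [pow_succ', pow_mul, pow_two]; exact hexp _ hu2)
      haveI := hN
      obtain ⟨s, hs⟩ := Subgroup.mem_zpowers_iff.mp (mem_zpowers_of_cyclic (x := (⟨u, huN⟩ : N))
        (y := ⟨g, hgK.1⟩) (by
          rw [← Subgroup.orderOf_coe, ← Subgroup.orderOf_coe]
          show orderOf u ∣ orderOf g
          rw [hgo]; exact orderOf_dvd_of_pow_eq_one h))
      rw [show u = g ^ s from (congrArg Subtype.val hs).symm]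
      exact R.zpow_mem hgK.2 s
    have huuo : orderOf (u * u) = 2 ^ n := by
      rw [← pow_two, orderOf_pow_of_dvd two_ne_zero (huo ▸ dvd_pow_self 2 (by omega)), huo, pow_succ,
        Nat.mul_div_cancel _ two_pos]
    have hmemN : x * u * x⁻¹ * u⁻¹ ∈ K :=
      ⟨N.mul_mem (Subgroup.Normal.conj_mem inferInstance u huN x) (N.inv_mem huN), by
        rw [show x * u * x⁻¹ * u⁻¹ = x * (u * x⁻¹ * u⁻¹) by group]
        exact R.mul_mem hx (hun _ (R.inv_mem hx))⟩
    obtain ⟨q, hq⟩ := Subgroup.mem_zpowers_iff.mp (mem_zpowers_of_cyclic (x := (⟨_, hmemN⟩ : K))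
      (y := ⟨u * u, hu2N, hu2⟩) (by
        rw [← Subgroup.orderOf_coe, ← Subgroup.orderOf_coe]
        show _ ∣ orderOf (u * u)
        rw [huuo]
        exact orderOf_dvd_of_pow_eq_one (hexp _ hmemN.2)))
    have hq' : (u * u) ^ q = x * u * x⁻¹ * u⁻¹ := congrArg Subtype.val hq
    have hxu : x * u * x⁻¹ = u ^ (2 * q + 1) := by
      rw [zpow_add_one, two_mul, zpow_add, ← (Commute.refl u).mul_zpow, hq', inv_mul_cancel_right]
    obtain ⟨q', rfl⟩ : Even q := by
      have h1 : (x * u * x⁻¹) ^ (2 : ℕ) = u ^ (2 : ℕ) := by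
        rw [conj_pow, pow_two, hcomm x hx _ hu2, mul_inv_cancel_right]
      rw [hxu, ← zpow_natCast, ← zpow_natCast, ← zpow_mul, zpow_eq_zpow_iff_modEq, Int.modEq_comm,
        Int.modEq_iff_dvd, huo, Nat.cast_pow] at h1
      rw [even_iff_two_dvd]
      have h8 : (2 : ℤ) ^ 3 ∣ (2 * q + 1) * ((2 : ℕ) : ℤ) - ((2 : ℕ) : ℤ) :=
        dvd_trans (pow_dvd_pow _ (by omega : 3 ≤ n + 1)) (by simpa using h1)
      push_cast at h8
      omega
    refine ⟨(u * u) ^ (-q'), R.zpow_mem hu2 _, ?_⟩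
    rw [← zpow_add, ← neg_add, zpow_neg, hq',
      show u * r * x * (u * r)⁻¹ * x⁻¹ = u * (r * x * r⁻¹) * u⁻¹ * x⁻¹ by group, hcomm r hr x hx,
      mul_inv_cancel_right]
    group
  · have htB : π t ∉ B := by
      rintro ⟨r, hr, hrt⟩
      refine hcase ⟨t * r⁻¹, ?_, by rwa [mul_inv_rev, inv_inv, inv_mul_cancel_right]⟩
      rw [← QuotientGroup.eq_one_iff, QuotientGroup.mk_mul, QuotientGroup.mk_inv, mul_inv_eq_one]
      exact hrt.symm
    obtain ⟨m, hm⟩ := IsPGroup.iff_orderOf.mp (hG.to_quotient N) (π t)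
    obtain ⟨⟨b0, hb0B⟩, hb0⟩ := IsCyclic.exists_generator (α := B)
    have hb0o : orderOf b0 = 2 ^ n := by
      rw [← hKc.2, ← orderOf_eq_card_of_forall_mem_zpowers hb0]
      exact Subgroup.orderOf_coe (⟨b0, hb0B⟩ : B)
    haveI := hQ
    have hmn : n < m := by
      by_contra h
      exact htB (Subgroup.zpowers_le.mpr hb0B (mem_zpowers_of_cyclic (by
        rw [hm, hb0o]; exact pow_dvd_pow 2 (by omega))))
    obtain ⟨s, hs⟩ := Subgroup.mem_zpowers_iff.mp (mem_zpowers_of_cyclic (x := π x) (y := π (t * t)) (by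
      rw [← pow_two, map_pow, orderOf_pow_of_dvd two_ne_zero (hm ▸ dvd_pow_self 2 (by omega)), hm]
      refine (orderOf_dvd_of_pow_eq_one (by rw [← map_pow, hexp x hx, map_one])).trans ?_
      rw [show m = m - 1 + 1 by omega, pow_succ, Nat.mul_div_cancel _ two_pos]
      exact pow_dvd_pow 2 (by omega)))
    have hts : (t * t) ^ s ∈ R := R.zpow_mem ht2 s
    obtain ⟨q, hq⟩ := hgmem (x * ((t * t) ^ s)⁻¹) ⟨(QuotientGroup.eq_one_iff _).mp (by
      show π (x * ((t * t) ^ s)⁻¹) = 1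
      rw [map_mul, map_inv, map_zpow, hs, mul_inv_cancel]), R.mul_mem hx (R.inv_mem hts)⟩
    obtain ⟨w, hw⟩ := hgmem (t * g * t⁻¹) ⟨Subgroup.Normal.conj_mem inferInstance g hgK.1 t, htn g hgK.2⟩
    obtain ⟨w', rfl⟩ : Odd w := by
      rcases Int.even_or_odd w with ⟨w', rfl⟩ | h
      · exfalso
        apply hgn
        have h1 : (t * g * t⁻¹) ^ 2 ^ (n - 1) = 1 := by
          rw [← hw, ← zpow_natCast, ← zpow_mul, show (w' + w') * ((2 ^ (n - 1) : ℕ) : ℤ) =
            ((2 ^ (n - 1) * 2 : ℕ) : ℤ) * w' by push_cast; ring, zpow_mul, zpow_natCast, ← pow_succ,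
            show n - 1 + 1 = n by omega, ← hgo, pow_orderOf_eq_one, one_zpow]
        rwa [conj_pow, conj_eq_one_iff] at h1
      · exact h
    refine ⟨g ^ (w' * q), R.zpow_mem hgK.2 _, ?_⟩
    have hx' : x = g ^ q * (t * t) ^ s := by rw [hq, inv_mul_cancel_right]
    have hc2 : t * (t * t) ^ s * t⁻¹ = (t * t) ^ s := by
      rw [← conj_zpow]; congr 1; group
    rw [hx', show t * (g ^ q * (t * t) ^ s) * t⁻¹ * (g ^ q * (t * t) ^ s)⁻¹ =
      t * g ^ q * t⁻¹ * (t * (t * t) ^ s * t⁻¹) * ((t * t) ^ s)⁻¹ * (g ^ q)⁻¹ by group, hc2,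
      mul_inv_cancel_right, ← conj_zpow, ← hw, ← zpow_mul, ← zpow_neg, ← zpow_add, ← zpow_add]
    congr 1
    ring

end CfsgLib.TwoGroups.MetacyclicSub
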