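import Cfsg.Agent.S3742
import Cfsg.Agent.Lib.Fusion.PSolvable
import Cfsg.Agent.Lib.FrobRealize.Quaternion
import Cfsg.Agent.Lib.Perm.Zassenhaus.Existence
import Mathlib.GroupTheory.SpecificGroups.Quaternion
import Mathlib.LinearAlgebra.Matrix.GeneralLinearGroup.Card

/-!
# Solvable groups whose 2-core has rank one

A solvable group with trivial odd core and 2-core of rank one has a normal Sylow 2-subgroup or is
one of the two representation groups of the symmetric group of degree 4.
-/

set_option autoImplicit false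

namespace CfsgLib.TwoGroups.SolvableQuaternionCore

open Subgroup Equiv

abbrev Q8 : Type := QuaternionGroup 2

abbrev rot := Cfsg.Agent.S3742.rot

/-- The rotations as automorphisms of `Q₈`. -/
noncomputable def rotHom : Perm (Fin 4) →* MulAut Q8 :=
  have hmul : ∀ π : Perm (Fin 4), ∀ x y, rot π (x * y) = rot π x * rot π y := by decide +kernel
  have hinj : ∀ π : Perm (Fin 4), ∀ x y, rot π x = rot π y → x = y := by decide +kernel
  have hcomp : ∀ π ρ : Perm (Fin 4), ∀ x, rot (π * ρ) x = rot π (rot ρ x) := by decide +kernel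
  MonoidHom.mk' (fun π => MulEquiv.ofBijective (MonoidHom.mk' (rot π) (hmul π))
      (Finite.injective_iff_bijective.1 fun x y => hinj π x y)) fun π ρ =>
    MulEquiv.ext fun x => hcomp π ρ x

theorem rotHom_apply (π : Perm (Fin 4)) (x : Q8) : rotHom π x = rot π x := rfl

theorem rotHom_bijective : Function.Bijective rotHom := by
  have hfaith : ∀ π : Perm (Fin 4), (∀ x, rot π x = x) → π = 1 := by decide +kernel
  have hinj : Function.Injective rotHom := (injective_iff_map_eq_one rotHom).2 fun π h =>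
    hfaith π fun x => by rw [← rotHom_apply, h]; rfl
  obtain ⟨e⟩ := Cfsg.Agent.S3742.result
  haveI : Finite (MulAut Q8) := Finite.of_equiv _ e.toEquiv.symm
  exact ⟨hinj, hinj.surjective_of_finite e.toEquiv.symm⟩

variable {Q : Type*} [Group Q] {R : Subgroup Q} [R.Normal]

/-- The action of `Q` on `R ≅ Q₈`. -/
noncomputable def act (e : R ≃* Q8) : Q →* MulAut Q8 :=
  (MulAut.congr e).toMonoidHom.comp MulAut.conjNormal

theorem act_apply (e : R ≃* Q8) (g : Q) (r : R) :
    act e g (e r) = e ⟨g * r * g⁻¹, Subgroup.Normal.conj_mem ‹R.Normal› r r.2 g⟩ := by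
  show e (MulAut.conjNormal g (e.symm (e r))) = _
  rw [e.symm_apply_apply]
  rfl

theorem ker_act (e : R ≃* Q8) : (act e).ker = centralizer (R : Set Q) := by
  ext g
  rw [MonoidHom.mem_ker, mem_centralizer_iff]
  constructor
  · intro h r hr
    have h1 := congrArg (fun φ : MulAut Q8 => φ (e ⟨r, hr⟩)) h
    simp only [act_apply, MulAut.one_apply] at h1
    have h2 : g * r * g⁻¹ = r := congrArg Subtype.val (e.injective h1)
    exact (mul_inv_eq_iff_eq_mul.1 h2).symm
  · intro h
    refine MulEquiv.ext fun x => ?_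
    obtain ⟨r, rfl⟩ := e.surjective x
    rw [act_apply, MulAut.one_apply]
    congr 1
    exact Subtype.ext (by show g * r * g⁻¹ = r; rw [← h r r.2, mul_inv_cancel_right])

/-- The kernel of the action, inside `R`. -/
theorem exists_center (e : R ≃* Q8) (hC : centralizer (R : Set Q) ≤ R) :
    ∃ z : Q, z ≠ 1 ∧ z ∈ R ∧ z * z = 1 ∧ (∀ g, g ∈ (act e).ker ↔ g = 1 ∨ g = z) ∧
      ∀ r ∈ R, r * r = 1 → r = 1 ∨ r = z := by
  have hZ : ∀ x : Q8, (∀ y, x * y = y * x) ↔ x = 1 ∨ x = .a 2 := by decide
  have hI : ∀ x : Q8, x * x = 1 → x = 1 ∨ x = .a 2 := by decide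
  refine ⟨(e.symm (.a 2) : R), ?_, SetLike.coe_mem _, ?_, fun g => ?_, fun r hr hr2 => ?_⟩
  · intro h
    have := congrArg e (show e.symm (.a 2) = 1 from Subtype.ext h)
    rw [e.apply_symm_apply, map_one] at this
    exact absurd this (by decide)
  · rw [← coe_mul, ← map_mul, show (QuaternionGroup.a 2 : Q8) * .a 2 = 1 by decide, map_one, coe_one]
  · rw [ker_act]
    constructor
    · intro hg
      have hgR := hC hg
      have hc : ∀ y, e ⟨g, hgR⟩ * y = y * e ⟨g, hgR⟩ := fun y => by
        obtain ⟨r, rfl⟩ := e.surjective y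
        rw [← map_mul, ← map_mul]
        exact congrArg e (Subtype.ext (mem_centralizer_iff.1 hg r r.2).symm)
      rcases (hZ _).1 hc with h | h
      · exact Or.inl (congrArg Subtype.val (e.injective (h.trans (map_one e).symm)))
      · exact Or.inr (by rw [← h, e.symm_apply_apply])
    · rintro (rfl | rfl)
      · exact one_mem _
      · refine mem_centralizer_iff.2 fun r hr => ?_
        have := congrArg e.symm ((hZ (.a 2)).2 (Or.inr rfl) (e ⟨r, hr⟩))
        rw [map_mul, map_mul, e.symm_apply_apply] at this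
        exact (congrArg Subtype.val this).symm
  · rcases hI (e ⟨r, hr⟩) (by
      rw [← map_mul, show (⟨r, hr⟩ : R) * ⟨r, hr⟩ = 1 from Subtype.ext hr2, map_one]) with h | h
    · exact Or.inl (congrArg Subtype.val (e.injective (h.trans (map_one e).symm)))
    · exact Or.inr (by rw [← h, e.symm_apply_apply])

theorem zmod_two_cases : ∀ j : ZMod 2, j = 0 ∨ j = 1 := by decide

/-- The multiplication table of the split extension of `Q₈` by the symmetric group of degree 3. -/
noncomputable def tableMul (a b : Q8 × ZMod 3 × ZMod 2) : Q8 × ZMod 3 × ZMod 2 :=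
  (a.1 * rotHom ((swap (0 : Fin 4) 1 * swap 1 2) ^ a.2.1.val * swap 0 1 ^ a.2.2.val) b.1,
    a.2.1 + (if a.2.2 = 0 then b.2.1 else -b.2.1), a.2.2 + b.2.2)

/-- The split case is determined by a multiplication table. -/
theorem exists_word [Finite Q] (e₀ : R ≃* Q8) (hC : centralizer (R : Set Q) ≤ R)
    (hcard : Nat.card Q = 48) {t : Q} (ht2 : t * t = 1) (htR : t ∉ R) :
    ∃ w : Q8 × ZMod 3 × ZMod 2 → Q, Function.Bijective w ∧
      ∀ a b, w a * w b = w (tableMul a b) := by
  classical
  -- the action of `t` is a transposition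
  have hcases : ∀ π : Perm (Fin 4), π * π = 1 → π = 1 ∨ (∃ c, c * π * c⁻¹ = swap 0 1) ∨
      ∃ r : Q8, ∀ x, rot π x = r * x * r⁻¹ := by decide +kernel
  obtain ⟨π, hπ⟩ := rotHom_bijective.2 (act e₀ t)
  obtain ⟨z₀, hz₀, hz₀R, -, hker₀, -⟩ := exists_center e₀ hC
  have hker : ∀ g, act e₀ g = 1 → g ∈ R := fun g hg => by
    rcases (hker₀ g).1 hg with rfl | rfl
    · exact R.one_mem
    · exact hz₀R
  have hπ2 : π * π = 1 := rotHom_bijective.1 (by
    rw [map_mul, hπ, ← map_mul, ht2, map_one, map_one])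
  obtain ⟨c, hc⟩ : ∃ c, c * π * c⁻¹ = swap 0 1 := by
    rcases hcases π hπ2 with h | h | ⟨r, hr⟩
    · exact absurd (hker t (by rw [← hπ, h, map_one])) htR
    · exact h
    · refine absurd ?_ htR
      obtain ⟨r₀, rfl⟩ := e₀.surjective r
      have h1 : act e₀ t = act e₀ r₀ := MulEquiv.ext fun x => by
        obtain ⟨s, rfl⟩ := e₀.surjective x
        rw [← hπ, rotHom_apply, hr, act_apply, ← map_inv, ← map_mul, ← map_mul]
        rfl
      have h2 : t * (r₀ : Q)⁻¹ ∈ R := hker _ (by rw [map_mul, map_inv, h1, mul_inv_cancel])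
      simpa using R.mul_mem h2 r₀.2
  let e : R ≃* Q8 := e₀.trans (rotHom c)
  have hact : ∀ g, act e g = rotHom c * act e₀ g * (rotHom c)⁻¹ := fun g => MulEquiv.ext fun x => rfl
  have hτ : act e t = rotHom (swap 0 1) := by
    rw [hact, ← hπ, ← map_inv, ← map_mul, ← map_mul, hc]
  obtain ⟨z, hz1, hzR, hz2, hkerz, hinvR⟩ := exists_center e hC
  have hkcard : Nat.card (act e).ker = 2 := by
    have : ((act e).ker : Set Q) = {1, z} := Set.ext fun g => by simpa using hkerz g
    rw [← SetLike.coe_sort_coe, this, Nat.card_coe_set_eq, Set.ncard_pair hz1.symm]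
  have hsurj : Function.Surjective (act e) := by
    rw [← MonoidHom.range_eq_top]
    refine Subgroup.eq_top_of_card_eq _ ?_
    have h1 := (act e).ker.card_mul_index
    rw [hkcard, hcard, Subgroup.index_ker] at h1
    rw [← Nat.card_congr (Equiv.ofBijective _ rotHom_bijective), Nat.card_perm, Nat.card_fin]
    show Nat.card (act e).range = 24
    omega
  have hzc : ∀ g, g * z = z * g := fun g => by
    have hmem : g * z * g⁻¹ ∈ (act e).ker := (act e).normal_ker.conj_mem z ((hkerz z).2 (Or.inr rfl)) g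
    rcases (hkerz _).1 hmem with h | h
    · exact absurd (conj_eq_one_iff.1 h) hz1
    · exact mul_inv_eq_iff_eq_mul.1 h
  -- an element of order three inverted by `t`
  set σ : Perm (Fin 4) := swap 0 1 * swap 1 2 with hσ
  have hσ3 : σ ^ 3 = 1 := by rw [hσ]; decide +kernel
  obtain ⟨g, hg⟩ := hsurj (rotHom σ)
  set x := g ^ 4 with hx
  have hxσ : act e x = rotHom σ := by
    rw [hx, map_pow, hg, ← map_pow, pow_succ, hσ3, one_mul]
  have hx3 : x ^ 3 = 1 := by
    have h3 : g ^ 3 ∈ (act e).ker := by rw [MonoidHom.mem_ker, map_pow, hg, ← map_pow, hσ3, map_one]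
    have h6 : (g ^ 3) * g ^ 3 = 1 := by
      rcases (hkerz _).1 h3 with h | h <;> rw [h]
      · exact one_mul 1
      · exact hz2
    rw [hx, ← pow_mul, show 4 * 3 = 3 + 3 + (3 + 3) by rfl, pow_add, pow_add, h6, one_mul]
  have htinv : t⁻¹ = t := inv_eq_of_mul_eq_one_right ht2
  have hinv : t * x * t = x⁻¹ := by
    have hk : t * x * t * x ∈ (act e).ker := by
      rw [MonoidHom.mem_ker]
      rw [map_mul, map_mul, map_mul, hτ, hxσ, ← map_mul, ← map_mul, ← map_mul]
      rw [show swap (0 : Fin 4) 1 * σ * swap 0 1 * σ = 1 by rw [hσ]; decide +kernel, map_one]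
    rcases (hkerz _).1 hk with h | h
    · exact eq_inv_of_mul_eq_one_left h
    · exfalso
      have hy : t * x * t = x⁻¹ * z := by
        rw [eq_inv_mul_iff_mul_eq, ← mul_right_inj (x⁻¹), inv_mul_cancel_left]
        rw [show t * x * t = t * x * t * x * x⁻¹ by group, h, hzc]
      have h3 : (t * x * t) ^ 3 = 1 := by
        have : (t * x * t) ^ 3 = t * x ^ 3 * t := by
          have := conj_pow (i := 3) (a := t) (b := x)
          rwa [htinv] at this
        rw [this, hx3, mul_one, ht2]
      rw [hy, (show Commute x⁻¹ z from hzc _).mul_pow, inv_pow, hx3, inv_one, one_mul,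
        pow_succ, pow_two, hz2, one_mul] at h3
      exact hz1 h3
  let S : ZMod 3 × ZMod 2 → Q := fun p => x ^ p.1.val * t ^ p.2.val
  have hpx : ∀ i j : ZMod 3, x ^ i.val * x ^ j.val = x ^ (i + j).val := fun i j => by
    rw [← pow_add, ZMod.val_add, ← pow_eq_pow_mod _ hx3]
  have hxneg : ∀ j : ZMod 3, t * x ^ j.val = x ^ (-j).val * t := fun j => by
    have h1 : (t * x * t) ^ j.val = t * x ^ j.val * t := by
      have := conj_pow (i := j.val) (a := t) (b := x)
      rwa [htinv] at this
    rw [hinv, inv_pow] at h1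
    have h2 : (x ^ j.val)⁻¹ = x ^ (-j).val := inv_eq_of_mul_eq_one_right (by
      rw [hpx, add_neg_cancel, ZMod.val_zero, pow_zero])
    rw [← h2, h1, mul_assoc, ht2, mul_one]
  have hpt : ∀ i j : ZMod 2, t ^ i.val * t ^ j.val = t ^ (i + j).val := fun i j => by
    rw [← pow_add, ZMod.val_add, ← pow_eq_pow_mod _ (by rw [pow_two]; exact ht2)]
  have hS : ∀ p q : ZMod 3 × ZMod 2,
      S p * S q = S (p.1 + (if p.2 = 0 then q.1 else -q.1), p.2 + q.2) := by
    rintro ⟨i, j⟩ ⟨k, l⟩
    show x ^ i.val * t ^ j.val * (x ^ k.val * t ^ l.val) = x ^ _ * t ^ (j + l).val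
    rw [← hpt]
    obtain rfl | rfl : j = 0 ∨ j = 1 := zmod_two_cases j
    · rw [if_pos rfl, ← hpx]; simp [mul_assoc]
    · rw [if_neg (show (1 : ZMod 2) ≠ 0 by decide), ← hpx, show (1 : ZMod 2).val = 1 from rfl, pow_one]
      simp only [mul_assoc]
      rw [← mul_assoc t, hxneg, mul_assoc]
  have hSact : ∀ p : ZMod 3 × ZMod 2, act e (S p) = rotHom (σ ^ p.1.val * swap 0 1 ^ p.2.val) :=
    fun p => by simp only [S, map_mul, map_pow, hxσ, hτ]
  let w : Q8 × ZMod 3 × ZMod 2 → Q := fun a => (e.symm a.1 : Q) * S a.2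
  have hmul : ∀ a b, w a * w b = w (tableMul a b) := by
    rintro ⟨r, p⟩ ⟨s, q⟩
    show (e.symm r : Q) * S p * ((e.symm s : Q) * S q) = _
    have h1 : (e.symm (act e (S p) s) : Q) = S p * (e.symm s : Q) * (S p)⁻¹ := by
      conv_lhs => rw [← e.apply_symm_apply s, act_apply, e.symm_apply_apply]
    rw [hSact] at h1
    simp only [w, tableMul]
    rw [← hS p q, map_mul e.symm, coe_mul, ← hσ, h1]
    group
  refine ⟨w, ?_, hmul⟩
  have hfaith : ∀ p : ZMod 3 × ZMod 2, σ ^ p.1.val * swap (0 : Fin 4) 1 ^ p.2.val = 1 → p = 0 := by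
    rw [hσ]; decide +kernel
  have hSR : ∀ p : ZMod 3 × ZMod 2, S p ∈ R → p = 0 := by
    rintro ⟨i, j⟩ hp
    obtain rfl | rfl : j = 0 ∨ j = 1 := zmod_two_cases j
    · have h3 : S (i, 0) ^ 3 = 1 := by
        show (x ^ i.val * t ^ (0 : ZMod 2).val) ^ 3 = 1
        rw [ZMod.val_zero, pow_zero, mul_one, ← pow_mul, mul_comm, pow_mul, hx3, one_pow]
      have h8 : (⟨S (i, 0), hp⟩ : R) ^ 8 = 1 := by
        have : Nat.card R = 8 := by rw [Nat.card_congr e.toEquiv, Nat.card_eq_fintype_card]; rfl
        exact this ▸ pow_card_eq_one'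
      have h81 : S (i, 0) ^ 8 = 1 := congrArg Subtype.val h8
      have h1 : S (i, 0) = 1 := by
        rw [show 8 = 3 + 3 + 2 by rfl, pow_add, pow_add, h3, one_mul, one_mul] at h81
        calc S (i, 0) = S (i, 0) ^ 3 := by rw [pow_succ, h81, one_mul]
          _ = 1 := h3
      exact hfaith _ (rotHom_bijective.1 (by rw [← hSact, h1, map_one, map_one]))
    · have h2 : S (i, 1) * S (i, 1) = 1 := by
        rw [hS, if_neg (show (1 : ZMod 2) ≠ 0 by decide), add_neg_cancel,
          show (1 : ZMod 2) + 1 = 0 by decide]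
        simp [S]
      have hk : S (i, 1) ∈ (act e).ker := (hkerz _).2 (hinvR _ hp h2)
      exact hfaith _ (rotHom_bijective.1 (by rw [← hSact, MonoidHom.mem_ker.1 hk, map_one]))
  rw [Nat.bijective_iff_injective_and_card]
  refine ⟨?_, by rw [hcard]; simp [Nat.card_eq_fintype_card, Fintype.card_prod]; rfl⟩
  rintro ⟨r, p⟩ ⟨s, q⟩ h
  simp only [w] at h
  obtain ⟨p', hp'⟩ : ∃ p', S p' = S p * (S q)⁻¹ := by
    have hleft : ∀ p q : ZMod 3 × ZMod 2, ∃ p' : ZMod 3 × ZMod 2,
        (p'.1 + (if p'.2 = 0 then q.1 else -q.1), p'.2 + q.2) = p := by decide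
    obtain ⟨p', hp'⟩ := hleft p q
    exact ⟨p', eq_mul_inv_of_mul_eq (by rw [hS, hp'])⟩
  have hp0 : p' = 0 := hSR p' (by
    rw [hp', show S p * (S q)⁻¹ = (e.symm r : Q)⁻¹ * (e.symm s : Q) by
      rw [eq_inv_mul_iff_mul_eq, ← mul_assoc, h, mul_inv_cancel_right]]
    exact R.mul_mem (R.inv_mem (SetLike.coe_mem _)) (SetLike.coe_mem _))
  have hpq : S p = S q := by
    rw [← mul_inv_eq_one, ← hp', hp0]; simp [S]
  obtain rfl : p = q := by
    have hinj : ∀ p q : ZMod 3 × ZMod 2,
        σ ^ p.1.val * swap (0 : Fin 4) 1 ^ p.2.val = σ ^ q.1.val * swap 0 1 ^ q.2.val → p = q := by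
      rw [hσ]; decide +kernel
    exact hinj _ _ (rotHom_bijective.1 (by rw [← hSact, ← hSact, hpq]))
  obtain rfl : r = s := e.symm.injective (Subtype.ext (mul_right_cancel h))
  rfl

abbrev GL23 : Type := GL (Fin 2) (ZMod 3)

/-- The quaternion subgroup of `GL(2, 3)`. -/
def qA : GL23 := ⟨!![0, 2; 1, 0], !![0, 1; 2, 0], by decide, by decide⟩

/-- The second generator. -/
def qB : GL23 := ⟨!![1, 1; 1, 2], !![2, 2; 2, 1], by decide, by decide⟩

/-- An outer involution. -/
def qT : GL23 := ⟨!![1, 0; 0, 2], !![1, 0; 0, 2], by decide, by decide⟩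

/-- The embedding of `Q₈`. -/
def q8Map : Q8 → GL23
  | .a i => qA ^ i.val
  | .xa i => qB * qA ^ i.val

theorem gl_data : ∃ (R : Subgroup GL23) (_ : R.Normal) (_ : R ≃* Q8),
    centralizer (R : Set GL23) ≤ R ∧ qT * qT = 1 ∧ qT ∉ R := by
  have hmul : ∀ x y, q8Map (x * y) = q8Map x * q8Map y := by decide +kernel
  have hinj : ∀ x y, q8Map x = q8Map y → x = y := by decide +kernel
  let f : Q8 →* GL23 := MonoidHom.mk' q8Map hmul
  refine ⟨f.range, ⟨?_⟩, (MonoidHom.ofInjective (f := f) fun x y => hinj x y).symm, fun g hg => ?_,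
    by decide +kernel, ?_⟩
  · have : ∀ (g : GL23) (x : Q8), ∃ y, q8Map y = g * q8Map x * g⁻¹ := by decide +kernel
    rintro _ ⟨x, rfl⟩ g
    exact this g x
  · have : ∀ g : GL23, (∀ x : Q8, q8Map x * g = g * q8Map x) → ∃ y, q8Map y = g := by decide +kernel
    exact this g fun x => mem_centralizer_iff.1 hg (q8Map x) ⟨x, rfl⟩
  · have : ∀ x : Q8, q8Map x ≠ qT := by decide +kernel
    rintro ⟨x, hx⟩
    exact this x hx

theorem equiv_gl23 [Finite Q] (e : R ≃* Q8) (hC : centralizer (R : Set Q) ≤ R)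
    (hcard : Nat.card Q = 48) {t : Q} (ht2 : t * t = 1) (htR : t ∉ R) :
    Nonempty (Q ≃* GL23) := by
  obtain ⟨R', hn, e', hC', h2, hR'⟩ := gl_data
  obtain ⟨w, hw, hwm⟩ := exists_word e hC hcard ht2 htR
  obtain ⟨w', hw', hwm'⟩ := @exists_word GL23 _ R' hn _ e' hC'
    (by rw [Matrix.card_GL_field]; simp [Fin.prod_univ_two]) qT h2 hR'
  refine ⟨{ toEquiv := (Equiv.ofBijective w hw).symm.trans (Equiv.ofBijective w' hw'), map_mul' := ?_ }⟩
  intro a b
  obtain ⟨a, rfl⟩ := hw.2 a
  obtain ⟨b, rfl⟩ := hw.2 b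
  have key : ∀ c, ((Equiv.ofBijective w hw).symm.trans (Equiv.ofBijective w' hw')) (w c) = w' c :=
    fun c => by
      show w' ((Equiv.ofBijective w hw).symm ((Equiv.ofBijective w hw) c)) = _
      rw [Equiv.symm_apply_apply]
  show _ = _ * _
  simp only [Equiv.toFun_as_coe]
  rw [key, key, hwm, key, hwm']

theorem quaternion_one_cyclic : IsCyclic (QuaternionGroup (2 ^ 0)) := by
  refine isCyclic_of_orderOf_eq_card (QuaternionGroup.xa 0) ?_
  rw [QuaternionGroup.orderOf_xa, Nat.card_eq_fintype_card]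
  rfl

variable (Q) in
/-- A solvable group with trivial odd core and 2-core of rank one. -/
theorem classify [Finite Q] [Group.IsSolvable Q] (hO : Cfsg.pPrimeCore 2 Q = ⊥)
    (hr : Cfsg.PRankLE 2 1 ↥(Cfsg.pCore 2 Q)) :
    (∃ P : Sylow 2 Q, (P : Subgroup Q).Normal) ∨ Nonempty (Q ≃* GL23) ∨
      (Nat.card Q = 48 ∧ Nat.card (center Q) = 2 ∧
        Nonempty (Q ⧸ center Q ≃* Perm (Fin 4)) ∧
        ∀ P : Sylow 2 Q, Nonempty ((P : Subgroup Q) ≃* QuaternionGroup 4)) := by
  classical
  haveI : Fact (Nat.Prime 2) := ⟨Nat.prime_two⟩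
  have hC := Fusion.PSolvable.centralizer_pCore_le (p := 2) Fusion.PSolvable.psolvable_of_solvable hO
  set R := Cfsg.pCore 2 Q with hRdef
  haveI : R.Normal := CfsgLib.Solvable.Cores.pCore_normal 2
  have hRp : IsPGroup 2 R := CfsgLib.Solvable.Cores.isPGroup_pCore 2
  by_cases h2 : IsPGroup 2 Q
  · obtain ⟨P⟩ : Nonempty (Sylow 2 Q) := inferInstance
    have htop : (P : Subgroup Q) = ⊤ :=
      P.3 (h2.to_subgroup ⊤) le_top |>.symm
    exact Or.inl ⟨P, htop ▸ inferInstance⟩
  -- odd order elements act faithfully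
  have hodd : ¬ ∀ g : Q, ∀ m, Odd m → g ^ m = 1 → g ∈ centralizer (R : Set Q) := by
    intro h
    refine h2 fun g => ?_
    obtain ⟨k, m, hm, hkm⟩ := Nat.exists_eq_two_pow_mul_odd (orderOf_pos g).ne'
    refine ⟨k, ?_⟩
    have h1 : g ^ 2 ^ k ∈ R := hC (h _ m hm (by rw [← pow_mul, ← hkm, pow_orderOf_eq_one]))
    obtain ⟨j, hj⟩ := hRp ⟨_, h1⟩
    have hj' : g ^ (2 ^ k * 2 ^ j) = 1 := by rw [pow_mul]; exact congrArg Subtype.val hj
    have hd : m ∣ 2 ^ k * 2 ^ j := (dvd_of_mul_left_eq _ hkm.symm).trans (orderOf_dvd_of_pow_eq_one hj')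
    rw [← pow_add] at hd
    obtain ⟨i, -, hi⟩ := (Nat.dvd_prime_pow Nat.prime_two).1 hd
    rw [hi] at hm
    obtain rfl : i = 0 := by
      by_contra hne
      exact Nat.not_even_iff_odd.2 hm (Nat.even_pow.2 ⟨even_two, hne⟩)
    rw [hi, pow_zero, mul_one] at hkm
    rw [← hkm, pow_orderOf_eq_one]
  have hfew : Nat.card {x : R // x ^ 2 = 1} ≤ 2 := by
    rcases subsingleton_or_nontrivial R with hs | hs
    · exact le_trans (Finite.card_le_one_iff_subsingleton.2 inferInstance) one_le_two
    obtain ⟨z, hz, hz2⟩ : ∃ z : center R, z ≠ 1 ∧ z ^ 2 = 1 := by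
      haveI := hRp.center_nontrivial
      obtain ⟨z, hz⟩ := exists_prime_orderOf_dvd_card' (G := center R) 2 (by
        obtain ⟨n, hcn⟩ := (hRp.to_subgroup (center R)).exists_card_eq
        refine hcn ▸ dvd_pow_self 2 ?_
        rintro rfl
        rw [pow_zero, Nat.card_eq_one_iff_unique] at hcn
        exact not_subsingleton (center R) hcn.1)
      exact ⟨z, fun h => by simp [h] at hz, by rw [← hz]; exact pow_orderOf_eq_one z⟩
    by_contra hbig
    obtain ⟨y, hy2, hy1, hyz⟩ : ∃ y : R, y ^ 2 = 1 ∧ y ≠ 1 ∧ y ≠ z := by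
      by_contra hall
      push Not at hall
      refine hbig ?_
      refine le_trans (Nat.card_le_card_of_injective
        (fun x : {x : R // x ^ 2 = 1} => decide (x.1 = 1)) fun a b hab => ?_) (by simp)
      apply Subtype.ext
      simp only [decide_eq_decide] at hab
      by_cases ha : a.1 = 1
      · rw [ha, hab.1 ha]
      · rw [hall a a.2 ha, hall b b.2 fun hb => ha (hab.2 hb)]
    let A : Subgroup R := closure {(z : R), y}
    have hcomm : ∀ a ∈ ({(z : R), y} : Set R), ∀ b ∈ ({(z : R), y} : Set R), a * b = b * a := by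
      intro a ha b hb
      simp only [Set.mem_insert_iff, Set.mem_singleton_iff] at ha hb
      have hzy := mem_center_iff.1 z.2 y
      rcases ha with rfl | rfl <;> rcases hb with rfl | rfl <;> simp [hzy]
    haveI hA : IsMulCommutative A := Subgroup.isMulCommutative_closure hcomm
    have hexp : ∀ a ∈ A, a ^ 2 = 1 := by
      intro a ha
      suffices a ^ 2 = 1 ∧ a ∈ A from this.1
      induction ha using closure_induction with
      | mem a ha =>
        refine ⟨?_, subset_closure ha⟩
        simp only [Set.mem_insert_iff, Set.mem_singleton_iff] at ha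
        rcases ha with rfl | rfl
        · exact congrArg Subtype.val hz2
        · exact hy2
      | one => exact ⟨one_pow 2, one_mem _⟩
      | mul a b _ _ ha hb =>
        refine ⟨?_, mul_mem ha.2 hb.2⟩
        have : (⟨a, ha.2⟩ : A) * ⟨b, hb.2⟩ = ⟨b, hb.2⟩ * ⟨a, ha.2⟩ := mul_comm' _ _
        rw [(show Commute a b from congrArg Subtype.val this).mul_pow, ha.1, hb.1, one_mul]
      | inv a _ ha => exact ⟨by rw [inv_pow, ha.1, inv_one], inv_mem ha.2⟩
    have h3 : 3 ≤ Nat.card A := by
      let f : Fin 3 → A := ![1, ⟨z, subset_closure (by simp)⟩, ⟨y, subset_closure (by simp)⟩]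
      have hf : Function.Injective f := by
        intro i j h
        have hzc : (z : R) ≠ 1 := fun h => hz (Subtype.ext h)
        fin_cases i <;> fin_cases j <;>
          first
            | rfl
            | exfalso; simp [f, Subtype.ext_iff, hy1, hy1.symm, hyz, hyz.symm, hzc, hzc.symm] at h
      simpa using Nat.card_le_card_of_injective f hf
    have := hr A hA hexp
    omega
  -- the core is not cyclic, and is `Q₈`
  have hshape : IsCyclic R ∨ ∃ k, 0 < k ∧ Nonempty (R ≃* QuaternionGroup (2 ^ k)) := by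
    rcases FrobRealize.Quaternion.cyclic_or_quaternion hRp hfew with h | ⟨-, k, hk⟩
    · exact Or.inl h
    · rcases Nat.eq_zero_or_pos k with rfl | hpos
      · obtain ⟨e₁⟩ := hk
        haveI : IsCyclic (QuaternionGroup (2 ^ 0)) := quaternion_one_cyclic
        exact Or.inl (isCyclic_of_surjective e₁.symm.toMonoidHom e₁.symm.surjective)
      · exact Or.inr ⟨k, hpos, hk⟩
  obtain hcyc | ⟨k, hkpos, ⟨e₁⟩⟩ := hshape
  · exfalso
    apply hodd
    intro g m hm hgm
    obtain ⟨n, hn⟩ := hRp.exists_card_eq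
    have h1 : (MulAut.conjNormal g : MulAut R) = 1 := by
      refine orderOf_eq_one_iff.1 (Nat.eq_one_of_dvd_coprimes (a := m) (b := 2 ^ n) ?_ ?_ ?_)
      · exact (Nat.coprime_two_left.2 hm).symm.pow_right n
      · exact orderOf_dvd_of_pow_eq_one (by rw [← map_pow, hgm, map_one])
      · refine (_root_.orderOf_dvd_natCard (MulAut.conjNormal g : MulAut R)).trans ?_
        rw [IsCyclic.card_mulAut, hn]
        rcases n with _ | n
        · simp
        · rw [Nat.totient_prime_pow_succ Nat.prime_two]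
          simpa using pow_dvd_pow 2 n.le_succ
    refine mem_centralizer_iff.2 fun r hr => ?_
    have h2 : g * r * g⁻¹ = r := congrArg (fun φ : MulAut R => ((φ ⟨r, hr⟩ : R) : Q)) h1
    exact (mul_inv_eq_iff_eq_mul.1 h2).symm
  obtain rfl : k = 1 := by
    by_contra hk1
    apply hodd
    intro g m hm hgm
    have h2 : MulAut.congr e₁ (MulAut.conjNormal g) = 1 :=
      CfsgLib.Perm.Zassenhaus.aut_quaternion_odd (by omega) _ hm
        (by rw [← map_pow, ← map_pow, hgm, map_one, map_one])
    refine mem_centralizer_iff.2 fun r hr => ?_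
    have h3 := congrArg (fun φ : MulAut R => ((φ ⟨r, hr⟩ : R) : Q))
      ((MulEquiv.map_eq_one_iff (MulAut.congr e₁)).1 h2)
    exact (mul_inv_eq_iff_eq_mul.1 (show g * r * g⁻¹ = r from h3)).symm
  let e : R ≃* Q8 := e₁
  have hR8 : Nat.card R = 8 := by rw [Nat.card_congr e.toEquiv, Nat.card_eq_fintype_card]; rfl
  obtain ⟨z, hz1, hzR, hz2, hker, hinvR⟩ := exists_center e hC
  have hkcard : Nat.card (act e).ker = 2 := by
    have : ((act e).ker : Set Q) = {1, z} := Set.ext fun g => by simpa using hker g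
    rw [← SetLike.coe_sort_coe, this, Nat.card_coe_set_eq, Set.ncard_pair hz1.symm]
  have h24 : Nat.card (MulAut Q8) = 24 := by
    rw [← Nat.card_congr (Equiv.ofBijective _ rotHom_bijective), Nat.card_perm, Nat.card_fin]; rfl
  have hrange : Nat.card (act e).range ∣ 24 := h24 ▸ Subgroup.card_subgroup_dvd_card _
  have hQ : Nat.card Q = 2 * Nat.card (act e).range := by
    rw [← Subgroup.index_ker]
    have h := (act e).ker.card_mul_index
    rw [hkcard] at h
    exact h.symm
  by_cases hn24 : Nat.card (act e).range = 24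
  swap
  · left
    obtain ⟨P⟩ : Nonempty (Sylow 2 Q) := inferInstance
    have hd : 8 ∣ Nat.card Q := hR8 ▸ R.card_subgroup_dvd_card
    have hsur : (act e).range = (act e).range := rfl
    have hle : R ≤ (P : Subgroup Q) := CfsgLib.Solvable.Cores.pCore_le_sylow P
    obtain ⟨j, hj⟩ := P.2.exists_card_eq
    have hPd : Nat.card (P : Subgroup Q) ∣ Nat.card Q := Subgroup.card_subgroup_dvd_card _
    have hmem : Nat.card (act e).range ∈ Nat.divisors 24 := Nat.mem_divisors.2 ⟨hrange, by norm_num⟩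
    have hne : ∀ i, Nat.card Q ≠ 2 ^ i := fun i hi => h2 (IsPGroup.of_card hi)
    rw [show Nat.divisors 24 = {1, 2, 3, 4, 6, 8, 12, 24} by decide] at hmem
    have hQ24 : Nat.card Q = 24 := by
      simp only [Finset.mem_insert, Finset.mem_singleton] at hmem
      rcases hmem with h | h | h | h | h | h | h | h <;> rw [h] at hQ <;>
        first
          | omega
          | exact absurd hQ (hne 1)
          | exact absurd hQ (hne 2)
          | exact absurd hQ (hne 3)
          | exact absurd hQ (hne 4)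
    have hPR : (P : Subgroup Q) = R := by
      refine (Subgroup.eq_of_le_of_card_ge hle ?_).symm
      rw [hR8, hj]
      rw [hj, hQ24] at hPd
      have hj3 : j ≤ 3 := by
        by_contra hlt
        have : 16 ∣ 24 := (pow_dvd_pow 2 (show 4 ≤ j by omega)).trans hPd
        omega
      exact Nat.pow_le_pow_right two_pos hj3
    exact ⟨P, hPR ▸ inferInstance⟩
  right
  have h48 : Nat.card Q = 48 := by rw [hQ, hn24]
  by_cases hinv : ∃ t, t * t = 1 ∧ t ∉ R
  · obtain ⟨t, ht2, htR⟩ := hinv
    exact Or.inl (equiv_gl23 e hC h48 ht2 htR)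
  push Not at hinv
  right
  have hcent : center Q = (act e).ker := by
    refine le_antisymm (fun g hg => ?_) fun g hg => ?_
    · rw [ker_act]; exact Subgroup.center_le_centralizer _ hg
    · rcases (hker g).1 hg with rfl | rfl
      · exact one_mem _
      · refine mem_center_iff.2 fun h => ?_
        rcases (hker _).1 ((act e).normal_ker.conj_mem g hg h) with h' | h'
        · exact absurd (conj_eq_one_iff.1 h') hz1
        · exact mul_inv_eq_iff_eq_mul.1 h'
  refine ⟨h48, by rw [hcent, hkcard], ?_, fun P => ?_⟩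
  · have hsurj : Function.Surjective (act e) := by
      rw [← MonoidHom.range_eq_top]
      haveI : Finite (MulAut Q8) := Nat.finite_of_card_ne_zero (by omega)
      exact Subgroup.eq_top_of_card_eq _ (hn24.trans h24.symm)
    exact ⟨(QuotientGroup.quotientMulEquivOfEq hcent).trans
      ((QuotientGroup.quotientKerEquivOfSurjective _ hsurj).trans
        (MulEquiv.ofBijective _ rotHom_bijective).symm)⟩
  have hle : R ≤ (P : Subgroup Q) := CfsgLib.Solvable.Cores.pCore_le_sylow P
  have hP16 : Nat.card (P : Subgroup Q) = 16 := by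
    have h4 : (48 : ℕ).factorization 2 = 4 := by
      rw [show (48 : ℕ) = 2 ^ 4 * 3 by rfl, Nat.factorization_mul (by norm_num) (by norm_num)]
      simp [-Nat.reducePow, Nat.prime_two.factorization_pow, Nat.prime_three.factorization]
    rw [P.card_eq_multiplicity, h48, h4]
    rfl
  have hfewP : Nat.card {x : (P : Subgroup Q) // x ^ 2 = 1} ≤ 2 := by
    refine le_trans (Nat.card_le_card_of_injective
      (fun x : {x : (P : Subgroup Q) // x ^ 2 = 1} => decide ((x.1 : Q) = 1)) fun a b hab => ?_) (by simp)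
    have key : ∀ x : {x : (P : Subgroup Q) // x ^ 2 = 1}, (x.1 : Q) = 1 ∨ (x.1 : Q) = z := fun x => by
      have h : (x.1 : Q) * x.1 = 1 := by
        have := congrArg Subtype.val x.2
        rwa [SubgroupClass.coe_pow, pow_two] at this
      exact hinvR _ (hinv _ h) h
    simp only [decide_eq_decide] at hab
    apply Subtype.ext; apply Subtype.ext
    rcases key a with ha | ha
    · rw [ha, hab.1 ha]
    · rcases key b with hb | hb
      · exact absurd (hab.2 hb) (by rw [ha]; exact hz1)
      · rw [ha, hb]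
  rcases FrobRealize.Quaternion.cyclic_or_quaternion P.2 hfewP with hc | ⟨-, n, ⟨f⟩⟩
  · exfalso
    haveI := hc
    letI : CommGroup (P : Subgroup Q) := IsCyclic.commGroup
    have hij : (QuaternionGroup.a 1 : Q8) * .xa 0 ≠ .xa 0 * .a 1 := by decide
    apply hij
    apply e.symm.injective
    rw [map_mul, map_mul]
    apply Subgroup.inclusion_injective hle
    rw [map_mul, map_mul, mul_comm]
  · have hn : Nat.card (P : Subgroup Q) = 4 * 2 ^ n := by
      rw [Nat.card_congr f.toEquiv]
      haveI : NeZero (2 ^ n) := ⟨by positivity⟩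
      rw [Nat.card_eq_fintype_card, QuaternionGroup.card]
    have hn2 : 2 ^ n = 4 := by omega
    exact hn2 ▸ ⟨f⟩

end CfsgLib.TwoGroups.SolvableQuaternionCore
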