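import Cfsg.Agent.Lib.TwoGroups.CyclicMax
import Cfsg.Agent.Lib.Fusion.NormalRankTwo
import Cfsg.Prelude.Def_Transfer

/-!
# Normal subgroups of 2-groups containing no invariant four-group

If `S` is a normal subgroup of a 2-group `P`, contains a four-group, but contains no four-group normal in `P`,
then `S` is dihedral or semidihedral, its cyclic maximal subgroup being normal in `P`.  Also: a four-group of
automorphisms of such a group has a non-identity element which fixes a non-central involution or acts as an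
inner automorphism.
-/

set_option autoImplicit false
set_option linter.style.haveILetI false

namespace CfsgLib.TwoGroups.InvariantFour

open CfsgLib.TwoGroups.CyclicMax

variable {G : Type*} [Group G] {k : ℕ}

theorem two_zero : (2 : ZMod 2) = 0 := by decide

theorem zmod_two_cases : ∀ i : ZMod (2 ^ 1), i = 0 ∨ i = 1 := fun i => by
  change Fin 2 at i
  match i with
  | ⟨0, _⟩ => exact Or.inl rfl
  | ⟨1, _⟩ => exact Or.inr rfl

/-- The middle element `2^(k-1)` of `ZMod (2^k)`. -/
def hh (k : ℕ) : ZMod (2 ^ k) := 2 ^ (k - 1)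

/-- Reduction modulo two. -/
noncomputable def red {k : ℕ} (hk : 1 ≤ k) : ZMod (2 ^ k) →+* ZMod 2 :=
  ZMod.castHom (dvd_pow_self 2 (by omega)) (ZMod 2)

theorem hh_two (hk : 1 ≤ k) : 2 * hh k = 0 := by
  obtain ⟨l, rfl⟩ : ∃ l, k = l + 1 := ⟨k - 1, by omega⟩
  have h := ZMod.natCast_self (2 ^ (l + 1))
  push_cast at h
  rw [hh, Nat.add_sub_cancel, ← pow_succ', h]

theorem hh_ne_zero (hk : 1 ≤ k) : hh k ≠ 0 := by
  intro h
  rw [hh, show (2 : ZMod (2 ^ k)) ^ (k - 1) = ((2 ^ (k - 1) : ℕ) : ZMod (2 ^ k)) by push_cast; rfl,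
    ZMod.natCast_eq_zero_iff] at h
  have := Nat.le_of_dvd (by positivity) h
  have := (Nat.pow_le_pow_iff_right (Nat.lt_succ_self 1)).1 this
  omega

theorem hh_eq (hk : 2 ≤ k) : hh k = 2 * 2 ^ (k - 2) := by
  rw [hh, ← pow_succ']; congr 1; omega

theorem red_hh (hk : 2 ≤ k) : red (k := k) (by omega) (hh k) = 0 := by
  rw [hh_eq hk, map_mul, map_ofNat]
  rw [two_zero, zero_mul]

theorem isUnit_of_red (hk : 1 ≤ k) {x : ZMod (2 ^ k)} (h : red hk x = 1) : IsUnit x := by
  haveI : NeZero (2 ^ k) := ⟨by positivity⟩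
  have hv : ((x.val : ℕ) : ZMod 2) = 1 := by
    rw [← h, red, ← map_natCast (ZMod.castHom (dvd_pow_self 2 (show k ≠ 0 by omega)) (ZMod 2)),
      ZMod.natCast_zmod_val]
  rw [← ZMod.natCast_zmod_val x, ZMod.isUnit_iff_coprime]
  have h1 : x.val % 2 = 1 := by
    have := (ZMod.natCast_eq_natCast_iff' x.val 1 2).1 (by simpa using hv)
    simpa using this
  exact Nat.Coprime.pow_right _ (Nat.coprime_two_right.2 (Nat.odd_iff.2 h1))

theorem red_eq_one_of_isUnit (hk : 1 ≤ k) {x : ZMod (2 ^ k)} (h : IsUnit x) : red hk x = 1 := by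
  have h2 : IsUnit (red hk x) := h.map _
  revert h2
  generalize red hk x = y
  revert y
  decide

theorem exists_half (hk : 1 ≤ k) {x : ZMod (2 ^ k)} (h : red hk x = 0) : ∃ y, x = 2 * y := by
  haveI : NeZero (2 ^ k) := ⟨by positivity⟩
  have hv : ((x.val : ℕ) : ZMod 2) = 0 := by
    rw [← h, red, ← map_natCast (ZMod.castHom (dvd_pow_self 2 (show k ≠ 0 by omega)) (ZMod 2)),
      ZMod.natCast_zmod_val]
  obtain ⟨c, hc⟩ := (ZMod.natCast_eq_zero_iff x.val 2).1 hv
  exact ⟨(c : ZMod (2 ^ k)), by rw [← ZMod.natCast_zmod_val x, hc]; push_cast; rfl⟩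

theorem two_mul_eq_zero (hk : 1 ≤ k) {x : ZMod (2 ^ k)} (h : 2 * x = 0) : x = 0 ∨ x = hh k := by
  obtain ⟨l, rfl⟩ : ∃ l, k = l + 1 := ⟨k - 1, by omega⟩
  haveI : NeZero (2 ^ (l + 1)) := ⟨by positivity⟩
  suffices key : ∀ v : ℕ, v < 2 ^ (l + 1) → 2 * (v : ZMod (2 ^ (l + 1))) = 0 →
      (v : ZMod (2 ^ (l + 1))) = 0 ∨ (v : ZMod (2 ^ (l + 1))) = hh (l + 1) by
    have := key x.val (ZMod.val_lt x) (by rwa [ZMod.natCast_zmod_val])
    rwa [ZMod.natCast_zmod_val] at this
  clear h
  intro v hlt h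
  rw [show (2 : ZMod (2 ^ (l + 1))) = ((2 : ℕ) : ZMod (2 ^ (l + 1))) by rfl, ← Nat.cast_mul,
    ZMod.natCast_eq_zero_iff, pow_succ'] at h
  rw [pow_succ'] at hlt
  obtain ⟨c, hc⟩ := h
  have hc2 : c < 2 := by
    by_contra hge
    have hm := Nat.mul_le_mul (le_refl (2 * 2 ^ l)) (not_lt.1 hge)
    omega
  interval_cases c
  · left
    rw [show v = 0 by omega, Nat.cast_zero]
  · right
    rw [hh, Nat.add_sub_cancel, show v = 2 ^ l by omega]
    push_cast; rfl

theorem mul_hh (hk : 1 ≤ k) {x : ZMod (2 ^ k)} : x * hh k = if red hk x = 0 then 0 else hh k := by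
  split_ifs with h
  · obtain ⟨y, rfl⟩ := exists_half hk h
    rw [mul_comm 2 y, mul_assoc, hh_two hk, mul_zero]
  · have h1 : red hk (x - 1) = 0 := by
      rw [map_sub, map_one]
      revert h
      generalize red hk x = z
      revert z
      decide
    obtain ⟨y, hy⟩ := exists_half hk h1
    rw [eq_add_of_sub_eq hy, add_mul, one_mul, mul_comm 2 y, mul_assoc, hh_two hk, mul_zero, zero_add]

/-- Square roots of one. -/
theorem sq_one (hk : 2 ≤ k) {x : ZMod (2 ^ k)} (h : x * x = 1) :
    x = 1 ∨ x = -1 ∨ x = 1 + hh k ∨ x = hh k - 1 := by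
  obtain ⟨r, rfl⟩ := ZMod.intCast_surjective x
  have hd : (2:ℤ) ^ k ∣ (r - 1) * (r + 1) := by
    have h0 : (((r - 1) * (r + 1) : ℤ) : ZMod (2 ^ k)) = 0 := by push_cast; linear_combination h
    rw [ZMod.intCast_zmod_eq_zero_iff_dvd] at h0
    exact_mod_cast h0
  exact sq_one_exponent hk hd

theorem pw_mul_conj {a g : G} {m : ℕ} (ha : orderOf a = m) {i : ZMod m} (hg : g * a * g⁻¹ = pw a i)
    (x : ZMod m) : g * pw a x * g⁻¹ = pw a (i * x) := by
  rw [pw, ← conj_zpow, hg, pw, ← zpow_mul, pw, zpow_eq_iff ha]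
  simp [ZMod.intCast_zmod_cast]

theorem pw_one {a : G} {m : ℕ} (ha : orderOf a = m) : pw a (1 : ZMod m) = a := by
  rw [← Int.cast_one, pw_intCast ha, zpow_one]

theorem pw_zero {a : G} {m : ℕ} (ha : orderOf a = m) : pw a (0 : ZMod m) = 1 := by
  rw [← Int.cast_zero, pw_intCast ha, zpow_zero]

theorem exists_pw {a g : G} {m : ℕ} (ha : orderOf a = m) (hg : g ∈ Subgroup.zpowers a) :
    ∃ i : ZMod m, g = pw a i := by
  obtain ⟨i, rfl⟩ := Subgroup.mem_zpowers_iff.1 hg
  exact ⟨i, (pw_intCast ha i).symm⟩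

/-- A dihedral or semidihedral shape: `f` an involution outside `zpowers a` inverting or semi-inverting it. -/
structure Shape (S : Subgroup G) (a f : G) (k : ℕ) (j : ZMod (2 ^ k)) : Prop where
  two_le : 2 ≤ k
  order : orderOf a = 2 ^ k
  mem_a : a ∈ S
  mem_f : f ∈ S
  sq_f : f * f = 1
  notMem : f ∉ Subgroup.zpowers a
  cover : ∀ x ∈ S, x ∈ Subgroup.zpowers a ∨ f * x ∈ Subgroup.zpowers a
  act : f * a * f⁻¹ = pw a j
  j_eq : j = -1 ∨ (3 ≤ k ∧ j = hh k - 1)

/-- A normal subgroup of a 2-group with a four-group but no invariant one is dihedral or semidihedral. -/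
theorem exists_shape {P : Type*} [Group P] [Finite P] (hP : IsPGroup 2 P) (S : Subgroup P) [hS : S.Normal]
    (hno : ∀ W : Subgroup P, W ≤ S → W.Normal → Nat.card W = 4 → (∀ w ∈ W, w ^ 2 = 1) → False)
    {e₁ e₂ : P} (h₁ : e₁ ∈ S) (h₂ : e₂ ∈ S) (o₁ : orderOf e₁ = 2) (o₂ : orderOf e₂ = 2) (hne : e₁ ≠ e₂)
    (hc : Commute e₁ e₂) :
    ∃ (a f : P) (k : ℕ) (j : ZMod (2 ^ k)), Shape S a f k j ∧ (Subgroup.zpowers a).Normal := by
  classical
  haveI : Fact (Nat.Prime 2) := ⟨Nat.prime_two⟩
  obtain ⟨A, ⟨hAS, hAn, hAab⟩, hmax⟩ := Set.Finite.exists_maximal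
    (Set.toFinite {A : Subgroup P | A ≤ S ∧ A.Normal ∧ IsMulCommutative A})
    ⟨⊥, bot_le, inferInstance, inferInstance⟩
  haveI := hAn
  have hcyc : IsCyclic A := by
    by_contra hnc
    obtain ⟨U, hUA, hUn, hUe, hUc⟩ := CfsgLib.Fusion.NormalRankTwo.exists_of_abelian hP hAab hnc
    exact hno U (hUA.trans hAS) hUn (by simpa using hUc) hUe.2
  obtain ⟨a, ha⟩ := (Subgroup.isCyclic_iff_exists_zpowers_eq_top A).1 hcyc
  subst ha
  have haA : a ∈ Subgroup.zpowers a := Subgroup.mem_zpowers a
  have haS : a ∈ S := hAS haA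
  haveI hCn : (S ⊓ Subgroup.centralizer (Subgroup.zpowers a : Set P)).Normal :=
    Subgroup.normal_inf_normal _ _
  have hself : ∀ g ∈ S, Commute g a → g ∈ Subgroup.zpowers a := by
    have hle : S ⊓ Subgroup.centralizer (Subgroup.zpowers a : Set P) ≤ Subgroup.zpowers a := by
      by_contra hle
      obtain ⟨x, hxN, hxA, -, hxc⟩ := CfsgLib.Fusion.NormalRankTwo.exists_central_of_lt hP hle
      obtain ⟨hxS, hxC⟩ := Subgroup.mem_inf.1 hxN
      haveI := CfsgLib.Fusion.NormalRankTwo.sup_zpowers_normal hxc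
      have hax : Commute a x := (Subgroup.mem_centralizer_iff.1 hxC a haA)
      have hcomm : IsMulCommutative (Subgroup.zpowers a ⊔ Subgroup.zpowers x : Subgroup P) := by
        rw [Subgroup.zpowers_eq_closure, Subgroup.zpowers_eq_closure, ← Subgroup.closure_union]
        refine Subgroup.isMulCommutative_closure ?_
        intro u hu v hv
        simp only [Set.mem_union, Set.mem_singleton_iff] at hu hv
        rcases hu with rfl | rfl <;> rcases hv with rfl | rfl <;>
          first
          | rfl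
          | exact hax.eq
          | exact hax.eq.symm
      exact hxA (hmax ⟨sup_le hAS (Subgroup.zpowers_le.2 hxS), inferInstance, hcomm⟩ le_sup_left
        (Subgroup.mem_sup_right (Subgroup.mem_zpowers x)))
    intro g hgS hg
    refine hle (Subgroup.mem_inf.2 ⟨hgS, Subgroup.mem_centralizer_iff.2 fun y hy => ?_⟩)
    obtain ⟨i, rfl⟩ := Subgroup.mem_zpowers_iff.1 hy
    exact ((hg.zpow_right i).eq).symm
  -- an involution outside the cyclic group
  obtain ⟨f, hfS, hff, hfA⟩ : ∃ f ∈ S, f * f = 1 ∧ f ∉ Subgroup.zpowers a := by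
    by_contra! hall
    have hs : ∀ e : P, orderOf e = 2 → e * e = 1 := fun e he => by
      rw [← pow_two, ← he, pow_orderOf_eq_one]
    have m₁ := hall e₁ h₁ (hs e₁ o₁)
    have m₂ := hall e₂ h₂ (hs e₂ o₂)
    have hu : ∀ e ∈ Subgroup.zpowers a, orderOf e = 2 → e = a ^ (orderOf a / 2) := by
      intro e he hoe
      have hd : 2 ∣ orderOf a := by
        rw [← hoe]
        rw [← Nat.card_zpowers a, show e = ((⟨e, he⟩ : Subgroup.zpowers a) : P) from rfl, Subgroup.orderOf_coe]
        exact orderOf_dvd_natCard _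
      obtain ⟨i, rfl⟩ := exists_pw (m := 2 * (orderOf a / 2)) (a := a) (by omega) he
      obtain ⟨i, rfl⟩ := ZMod.intCast_surjective i
      rw [pw_intCast (by omega)] at hoe ⊢
      have h2 : a ^ i * a ^ i = 1 := hs _ hoe
      have h1 : a ^ i ≠ 1 := fun h => by rw [h, orderOf_one] at hoe; omega
      rw [← zpow_add, ← orderOf_dvd_iff_zpow_eq_one] at h2
      have hM : orderOf a = 2 * (orderOf a / 2) := by omega
      generalize orderOf a / 2 = M at hM
      rw [hM] at h2
      push_cast at h2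
      rw [← two_mul] at h2
      obtain ⟨c, hc'⟩ := Int.dvd_of_mul_dvd_mul_left two_ne_zero h2
      rcases Int.even_or_odd' c with ⟨t, rfl | rfl⟩
      · exfalso; apply h1
        rw [← orderOf_dvd_iff_zpow_eq_one, hM]; push_cast
        exact ⟨t, by rw [hc']; ring⟩
      · rw [← zpow_natCast, zpow_eq_zpow_iff_modEq, hM, Int.modEq_iff_dvd]; push_cast
        exact ⟨-t, by rw [hc']; ring⟩
    exact hne ((hu _ m₁ o₁).trans (hu _ m₂ o₂).symm)
  obtain ⟨k, hk⟩ := (IsPGroup.iff_orderOf.1 hP) a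
  have hcomm_small : k ≤ 1 → Commute f a := by
    intro hk1
    have hconj : f * a * f⁻¹ ∈ Subgroup.zpowers a := hAn.conj_mem a haA f
    obtain ⟨i, hi⟩ := exists_pw hk hconj
    refine mul_inv_eq_iff_eq_mul.1 ?_
    interval_cases k
    · rw [pow_zero] at hk; rw [orderOf_eq_one_iff.1 hk]; group
    · haveI : NeZero (2 ^ 1) := ⟨by norm_num⟩
      rcases zmod_two_cases i with rfl | rfl
      · exfalso
        rw [pw_zero hk] at hi
        rw [show a = f⁻¹ * (f * a * f⁻¹) * f by group, hi] at hk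
        simp at hk
      · rw [hi, pw_one hk]
  have hk2 : 2 ≤ k := by
    by_contra h
    exact hfA (hself f hfS (hcomm_small (by omega)))
  -- the action on the cyclic group
  have hχ : ∀ g : P, ∃ i : ZMod (2 ^ k), g * a * g⁻¹ = pw a i := fun g =>
    exists_pw hk (hAn.conj_mem a haA g)
  choose χ hχ using hχ
  have hχmul : ∀ g g', χ (g * g') = χ g * χ g' := fun g g' => by
    apply pw_injective hk
    rw [← hχ, ← pw_mul_conj hk (hχ g) (χ g'), ← hχ g']
    group
  have hχ1 : χ 1 = 1 := pw_injective hk (by rw [← hχ, pw_one hk]; group)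
  have hχu : ∀ g, IsUnit (χ g) := fun g => IsUnit.of_mul_eq_one (χ g⁻¹) (by rw [← hχmul, mul_inv_cancel, hχ1])
  have hχcomm : ∀ g p, χ (p * g * p⁻¹) = χ g := fun g p => by
    rw [hχmul, hχmul, mul_comm (χ p), mul_assoc, ← hχmul, mul_inv_cancel, hχ1, mul_one]
  have hmemA : ∀ g ∈ S, (g ∈ Subgroup.zpowers a ↔ χ g = 1) := by
    refine fun g hg => ⟨fun h => ?_, fun h => hself g hg (mul_inv_eq_iff_eq_mul.1 ?_)⟩
    · apply pw_injective hk
      obtain ⟨i, rfl⟩ := Subgroup.mem_zpowers_iff.1 h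
      rw [← hχ, pw_one hk]; group
    · rw [hχ, h, pw_one hk]
  have hno1 : 3 ≤ k → ∀ g ∈ S, χ g ≠ 1 + hh k := by
    intro hk3 g hgS hg
    set z : P := pw a (hh k) with hz
    obtain ⟨s, hs⟩ : ∃ s, g * g = pw a s := exists_pw hk ((hmemA _ (mul_mem hgS hgS)).2 (by
      rw [hχmul, hg, mul_add, add_mul, one_mul, mul_one, hh_eq hk2]
      have : (2 : ZMod (2 ^ k)) ^ k = 0 := by exact_mod_cast ZMod.natCast_self (2 ^ k)
      have h22 : (2 : ZMod (2 ^ k)) * 2 ^ (k - 2) * (2 * 2 ^ (k - 2)) = 0 := by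
        rw [show (2 : ZMod (2 ^ k)) * 2 ^ (k - 2) * (2 * 2 ^ (k - 2)) = 2 ^ (2 + (k - 2) + (k - 2)) by
          rw [pow_add, pow_add]; ring, show 2 + (k - 2) + (k - 2) = k + (k - 2) by omega, pow_add, this, zero_mul]
      have := hh_two (k := k) (by omega)
      rw [hh_eq hk2] at this
      linear_combination h22 + this))
    have hs0 : hh k * s = 0 := by
      have h := pw_mul_conj hk ((hχ g).trans (congrArg _ hg)) s
      rw [← hs, show g * (g * g) * g⁻¹ = g * g by group, hs] at h
      linear_combination (pw_injective hk h).symm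
    have hsev : red (by omega) s = 0 := by
      by_contra hne0
      have h := mul_hh (k := k) (by omega) (x := s)
      rw [if_neg hne0, mul_comm, hs0] at h
      exact hh_ne_zero (by omega) h.symm
    obtain ⟨t, rfl⟩ := exists_half (by omega) hsev
    have hwu : IsUnit (1 + (2 : ZMod (2 ^ k)) ^ (k - 2)) := by
      apply isUnit_of_red (show 1 ≤ k by omega)
      rw [map_add, map_one, map_pow, map_ofNat, two_zero, zero_pow (by omega), add_zero]
    set u : ZMod (2 ^ k) := 1 + 2 ^ (k - 2) with hu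
    have h2u : 2 + hh k = 2 * u := by rw [hh_eq hk2, hu]; ring
    obtain ⟨x, hx⟩ : ∃ x, u * x = -t := ⟨hwu.unit⁻¹ * -t, by rw [← mul_assoc, hwu.mul_val_inv, one_mul]⟩
    set b : P := g * pw a x with hb
    have hga : g * a * g⁻¹ = pw a (1 + hh k) := (hχ g).trans (congrArg _ hg)
    have hbb : b * b = 1 := by
      rw [hb, show g * pw a x * (g * pw a x) = (g * pw a x * g⁻¹) * (g * g) * pw a x by group,
        pw_mul_conj hk hga, hs, ← pw_add hk, ← pw_add hk,
        show (1 + hh k) * x + 2 * t + x = 0 by linear_combination x * h2u + 2 * hx, pw_zero hk]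
    have hba : b * a * b⁻¹ = pw a (1 + hh k) := by
      rw [hb, ← hga]
      have hax : Commute (pw a x) a := (Commute.refl a).zpow_left _
      calc g * pw a x * a * (g * pw a x)⁻¹ = g * (pw a x * a * (pw a x)⁻¹) * g⁻¹ := by group
        _ = g * a * g⁻¹ := by rw [hax.eq]; group
    have hzz : z * z = 1 := by rw [hz, ← pw_add hk, ← two_mul, hh_two (by omega), pw_zero hk]
    have hbz : Commute b z := by
      refine mul_inv_eq_iff_eq_mul.1 ?_
      rw [hz, pw_mul_conj hk hba, mul_hh (k := k) (by omega) (x := 1 + hh k),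
        if_neg (by rw [map_add, map_one, red_hh hk2, add_zero]; exact one_ne_zero)]
    have hbS : b ∈ S := mul_mem hgS (hAS (pw_mem a x))
    have hbA : b ∉ Subgroup.zpowers a := by
      intro h
      have := (hmemA b hbS).1 h
      have h1 : χ b = 1 + hh k := pw_injective hk ((hχ b).symm.trans hba)
      rw [h1] at this
      exact hh_ne_zero (show 1 ≤ k by omega) (by linear_combination this)
    have hz1 : z ≠ 1 := fun h => hh_ne_zero (show 1 ≤ k by omega) (pw_injective hk (h.trans (pw_zero hk).symm))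
    have hzA : z ∈ Subgroup.zpowers a := pw_mem a _
    let W : Subgroup P :=
      { carrier := {1, z, b, b * z}
        one_mem' := by simp
        inv_mem' := by
          intro w hw
          have iz : z⁻¹ = z := inv_eq_of_mul_eq_one_right hzz
          have ib : b⁻¹ = b := inv_eq_of_mul_eq_one_right hbb
          simp only [Set.mem_insert_iff, Set.mem_singleton_iff] at hw ⊢
          rcases hw with rfl | rfl | rfl | rfl
          · simp
          · simp [iz]
          · simp [ib]
          · rw [mul_inv_rev, iz, ib, hbz.eq]; simp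
        mul_mem' := by
          intro w w' hw hw'
          have e1 : z * b = b * z := hbz.symm.eq
          have e2 : b * z * z = b := by rw [mul_assoc, hzz, mul_one]
          have e3 : b * (b * z) = z := by rw [← mul_assoc, hbb, one_mul]
          have e4 : z * (b * z) = b := by rw [← mul_assoc, e1, e2]
          have e5 : b * z * b = z := by rw [mul_assoc, e1, e3]
          have e6 : b * z * (b * z) = 1 := by rw [← mul_assoc, e5, hzz]
          simp only [Set.mem_insert_iff, Set.mem_singleton_iff] at hw hw' ⊢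
          rcases hw with rfl | rfl | rfl | rfl <;> rcases hw' with rfl | rfl | rfl | rfl <;>
            simp [hzz, hbb, e1, e2, e3, e4, e5, e6] }
    have hWsq : ∀ w ∈ W, w ^ 2 = 1 := by
      intro w hw
      rw [pow_two]
      change w ∈ ({1, z, b, b * z} : Set P) at hw
      simp only [Set.mem_insert_iff, Set.mem_singleton_iff] at hw
      rcases hw with rfl | rfl | rfl | rfl
      · simp
      · exact hzz
      · exact hbb
      · clear_value z
        have : ∀ b z : P, b * b = 1 → z * z = 1 → Commute b z → b * z * (b * z) = 1 := fun b z hb hz hc => by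
          rw [mul_assoc, ← mul_assoc z, hc.symm.eq, mul_assoc, hz, mul_one, hb]
        exact this b z hbb hzz hbz
    have hWcard : Nat.card W = 4 := by
      change Nat.card ({1, z, b, b * z} : Set P) = 4
      have n1 : b ≠ 1 := fun h => hbA (h ▸ one_mem _)
      have n2 : b ≠ z := fun h => hbA (h ▸ hzA)
      have n3 : b * z ≠ 1 := fun h => hbA (by rw [eq_inv_of_mul_eq_one_left h]; exact inv_mem hzA)
      have n4 : b * z ≠ z := by simpa using n1
      have n5 : b ≠ b * z := by simpa using hz1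
      rw [Nat.card_coe_set_eq, Set.ncard_insert_of_notMem (by simp [hz1.symm, n1.symm, n3.symm]),
        Set.ncard_insert_of_notMem (by simp [n2.symm, n4.symm]),
        Set.ncard_insert_of_notMem (by simp [n5]), Set.ncard_singleton]
    have hWn : W.Normal := by
      refine ⟨fun w hw p => ?_⟩
      have hp : ∀ i : ZMod (2 ^ k), p * pw a i * p⁻¹ = pw a (χ p * i) := pw_mul_conj hk (hχ p)
      have hpz : p * z * p⁻¹ = z := by
        rw [hz, hp, mul_hh (k := k) (by omega) (x := χ p),
          if_neg (by rw [red_eq_one_of_isUnit _ (hχu p)]; exact one_ne_zero)]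
      have hcb : p * b * p⁻¹ = b ∨ p * b * p⁻¹ = b * z := by
        have hd : b⁻¹ * (p * b * p⁻¹) ∈ Subgroup.zpowers a := by
          refine (hmemA _ (mul_mem (inv_mem hbS) (hS.conj_mem b hbS p))).2 ?_
          rw [hχmul, hχcomm, ← hχmul, inv_mul_cancel, hχ1]
        obtain ⟨y, hy⟩ := exists_pw hk hd
        have hy' : p * b * p⁻¹ = b * pw a y := by rw [← hy]; group
        have h2 : b * pw a y * (b * pw a y) = 1 := by
          rw [← hy', show p * b * p⁻¹ * (p * b * p⁻¹) = p * (b * b) * p⁻¹ by group, hbb]; group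
        rw [show b * pw a y * (b * pw a y) = (b * pw a y * b⁻¹) * (b * b) * pw a y by group,
          pw_mul_conj hk hba, hbb, mul_one, ← pw_add hk] at h2
        have h3 : 2 * (u * y) = 0 := by
          have h0 := pw_injective hk (h2.trans (pw_zero hk).symm)
          linear_combination h0 - y * h2u
        rw [hy']
        rcases two_mul_eq_zero (show 1 ≤ k by omega) (x := y) ((hwu.mul_right_eq_zero).1 (by linear_combination h3))
          with rfl | rfl
        · left; rw [pw_zero hk, mul_one]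
        · right; rfl
      change w ∈ ({1, z, b, b * z} : Set P) at hw
      change p * w * p⁻¹ ∈ ({1, z, b, b * z} : Set P)
      simp only [Set.mem_insert_iff, Set.mem_singleton_iff] at hw ⊢
      rcases hw with rfl | rfl | rfl | rfl
      · simp
      · simp [hpz]
      · rcases hcb with h | h <;> simp [h]
      · rw [show p * (b * z) * p⁻¹ = (p * b * p⁻¹) * (p * z * p⁻¹) by group, hpz]
        rcases hcb with h | h <;> simp [h, mul_assoc, hzz]
    refine hno W ?_ hWn hWcard hWsq
    intro w hw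
    change w ∈ ({1, z, b, b * z} : Set P) at hw
    simp only [Set.mem_insert_iff, Set.mem_singleton_iff] at hw
    rcases hw with rfl | rfl | rfl | rfl
    · exact one_mem _
    · exact hAS hzA
    · exact hbS
    · exact mul_mem hbS (hAS hzA)
  -- every element of `S` acts with order at most two
  have hsq : ∀ g ∈ S, χ g * χ g = 1 := by
    by_contra hcon
    push Not at hcon
    obtain ⟨g, hgS, hg⟩ := hcon
    let m : P → ℕ → P := fun g n => g ^ 2 ^ n
    have hex : ∃ n, χ (g ^ 2 ^ n) = 1 := by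
      obtain ⟨n, hn⟩ := IsPGroup.iff_orderOf.1 hP g
      exact ⟨n, by rw [← hn, pow_orderOf_eq_one, hχ1]⟩
    have hstep : ∀ n, χ (g ^ 2 ^ (n + 1)) = χ (g ^ 2 ^ n) * χ (g ^ 2 ^ n) := fun n => by
      rw [pow_succ, pow_mul, pow_two, hχmul]
    classical
    obtain ⟨n, hn, hmin⟩ : ∃ n, χ (g ^ 2 ^ n) = 1 ∧ ∀ l < n, χ (g ^ 2 ^ l) ≠ 1 :=
      ⟨Nat.find hex, Nat.find_spec hex, fun l hl => Nat.find_min hex hl⟩
    match n, hn, hmin with
    | 0, hn, _ => exact hg (by rw [pow_zero, pow_one] at hn; rw [hn, one_mul])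
    | 1, hn, _ => exact hg (by rw [hstep, pow_zero, pow_one] at hn; exact hn)
    | n + 2, hn, hmin =>
      set y := χ (g ^ 2 ^ (n + 1)) with hy
      have hy1 : y ≠ 1 := hmin (n + 1) (by omega)
      have hy2 : y * y = 1 := by rw [hy, ← hstep]; exact hn
      have hsqy : y = χ (g ^ 2 ^ n) * χ (g ^ 2 ^ n) := hstep n
      have h4 : (4 : ℕ) ∣ 2 ^ k := pow_dvd_pow 2 hk2
      let π : ZMod (2 ^ k) →+* ZMod 4 := ZMod.castHom h4 (ZMod 4)
      have hπy : π y ≠ -1 := by
        rw [hsqy, map_mul]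
        generalize π (χ (g ^ 2 ^ n)) = w
        revert w
        decide
      rcases sq_one hk2 hy2 with h | h | h | h
      · exact hy1 h
      · exact hπy (by rw [h, map_neg, map_one])
      · rcases Nat.lt_or_ge k 3 with h3 | h3
        · exfalso
          obtain rfl : k = 2 := by omega
          exact hπy (by rw [h, map_add, map_one, hh, map_pow, map_ofNat]; decide)
        · exact hno1 h3 _ (pow_mem hgS _) h
      · rcases Nat.lt_or_ge k 3 with h3 | h3
        · obtain rfl : k = 2 := by omega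
          exact hy1 (by rw [h, hh]; decide)
        · refine hπy ?_
          rw [h, map_sub, map_one, hh, map_pow, map_ofNat,
            show (2 : ZMod 4) ^ (k - 1) = 0 from by
              rw [show k - 1 = 2 + (k - 3) by omega, pow_add, show (2 : ZMod 4) ^ 2 = 0 by decide, zero_mul],
            zero_sub]
  have hval : ∀ g ∈ S, χ g ≠ 1 → χ g = -1 ∨ (3 ≤ k ∧ χ g = hh k - 1) := by
    intro g hg h1
    rcases sq_one hk2 (hsq g hg) with h | h | h | h
    · exact absurd h h1
    · exact Or.inl h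
    · rcases Nat.lt_or_ge k 3 with h3 | h3
      · obtain rfl : k = 2 := by omega
        exact Or.inl (by rw [h, hh]; decide)
      · exact absurd h (hno1 h3 g hg)
    · rcases Nat.lt_or_ge k 3 with h3 | h3
      · obtain rfl : k = 2 := by omega
        exact absurd (by rw [h, hh]; decide) h1
      · exact Or.inr ⟨h3, h⟩
  have hf1 : χ f ≠ 1 := fun h => hfA ((hmemA f hfS).2 h)
  refine ⟨a, f, k, χ f, ⟨hk2, hk, haS, hfS, hff, hfA, fun x hx => ?_, hχ f, hval f hfS hf1⟩, hAn⟩
  by_cases h1 : χ x = 1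
  · exact Or.inl ((hmemA x hx).2 h1)
  · right
    refine (hmemA _ (mul_mem hfS hx)).2 ?_
    by_contra hne'
    rw [hχmul] at hne'
    rcases hval f hfS hf1 with e | ⟨h3, e⟩ <;> rcases hval x hx h1 with e' | ⟨h3', e'⟩
    · exact hne' (by rw [e, e']; ring)
    · refine hno1 h3' (f * x) (mul_mem hfS hx) ?_
      rw [hχmul, e, e']
      linear_combination -(hh_two (k := k) (by omega))
    · refine hno1 h3 (f * x) (mul_mem hfS hx) ?_
      rw [hχmul, e, e']
      linear_combination -(hh_two (k := k) (by omega))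
    · exact hne' (by rw [e, ← e', hsq x hx])

variable {S : Subgroup G} {a f : G} {j : ZMod (2 ^ k)}

theorem Shape.red_j (h : Shape S a f k j) : red (k := k) (by have := h.two_le; omega) j = 1 := by
  have h2 := h.two_le
  rcases h.j_eq with rfl | ⟨-, rfl⟩
  · rw [map_neg, map_one]; decide
  · rw [map_sub, map_one, red_hh h2]; decide

theorem Shape.inner_of_half (h : Shape S a f k j) {m : ZMod (2 ^ k)}
    (hm : red (k := k) (by have := h.two_le; omega) m = 0) : ∃ y, (j - 1) * y = m := by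
  have hk := h.two_le
  obtain ⟨t, rfl⟩ := exists_half (by omega) hm
  obtain ⟨w, hw, hwu⟩ : ∃ w : ZMod (2 ^ k), j - 1 = 2 * w ∧ IsUnit w := by
    rcases h.j_eq with e | ⟨h3, e⟩
    · exact ⟨-1, by rw [e]; ring, isUnit_one.neg⟩
    · refine ⟨2 ^ (k - 2) - 1, by rw [e, hh_eq hk]; ring, isUnit_of_red (show 1 ≤ k by omega) ?_⟩
      rw [map_sub, map_one, map_pow, map_ofNat, two_zero, zero_pow (by omega)]
      decide
  exact ⟨hwu.unit⁻¹ * t, by rw [hw, mul_assoc, ← mul_assoc w, hwu.mul_val_inv, one_mul]⟩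

/-- An automorphism `(i, m)` with `i ∈ {1, j}` and `m` even is inner. -/
theorem Shape.exists_inner (h : Shape S a f k j) {i m : ZMod (2 ^ k)} (hi : i = 1 ∨ i = j)
    (hm : red (k := k) (by have := h.two_le; omega) m = 0) :
    ∃ s ∈ S, s * a * s⁻¹ = pw a i ∧ s * f * s⁻¹ = f * pw a m := by
  obtain ⟨y, hy⟩ := h.inner_of_half hm
  have hk := h.order
  have hfi : f⁻¹ = f := inv_eq_of_mul_eq_one_right h.sq_f
  have e1 : pw a y * f * (pw a y)⁻¹ = f * pw a m := by
    calc pw a y * f * (pw a y)⁻¹ = f * (f * pw a y * f⁻¹) * (pw a y)⁻¹ := by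
          rw [hfi, ← mul_assoc, ← mul_assoc, h.sq_f, one_mul]
      _ = f * (pw a (j * y) * pw a (-y)) := by rw [pw_mul_conj hk h.act, pw_neg hk, mul_assoc]
      _ = f * pw a m := by rw [← pw_add hk, ← hy]; congr 2; ring
  have hax : pw a y * a * (pw a y)⁻¹ = a := by
    have hc : pw a y * a = a * pw a y := ((Commute.refl a).zpow_left _).eq
    rw [hc]; group
  rcases hi with rfl | rfl
  · exact ⟨pw a y, (Subgroup.zpowers_le.2 h.mem_a) (pw_mem a y), by rw [hax, pw_one hk], e1⟩
  · refine ⟨pw a y * f, mul_mem ((Subgroup.zpowers_le.2 h.mem_a) (pw_mem a y)) h.mem_f, ?_, ?_⟩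
    · rw [show pw a y * f * a * (pw a y * f)⁻¹ = pw a y * (f * a * f⁻¹) * (pw a y)⁻¹ by group, h.act]
      have hc : pw a y * pw a i = pw a i * pw a y := ((Commute.refl a).zpow_zpow _ _).eq
      rw [hc]; group
    · rw [show pw a y * f * f * (pw a y * f)⁻¹ = pw a y * f * (pw a y)⁻¹ by
        rw [mul_inv_rev, mul_assoc _ f f, h.sq_f, hfi]; group, e1]

/-- A four-group `U` normalising a dihedral or semidihedral group `S`: some non-identity element centralises an
involution outside the cyclic maximal subgroup or induces an inner automorphism. -/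
theorem Shape.exists_good_or_inner (h : Shape S a f k j) {U : Subgroup G} (hU4 : 2 < Nat.card U)
    (hU2 : ∀ u ∈ U, u * u = 1)
    (hUa : ∀ u ∈ U, u * a * u⁻¹ ∈ Subgroup.zpowers a) (hUS : ∀ u ∈ U, u * f * u⁻¹ ∈ S) :
    ∃ u ∈ U, u ≠ 1 ∧ ((∃ w ∈ S, w * w = 1 ∧ w ∉ Subgroup.zpowers a ∧ Commute u w) ∨
      ∃ s ∈ S, u * a * u⁻¹ = s * a * s⁻¹ ∧ u * f * u⁻¹ = s * f * s⁻¹) := by
  have hk := h.order
  have h2 := h.two_le
  have h1 : 1 ≤ k := by omega
  obtain ⟨⟨u, hu⟩, ⟨v, hv⟩, hu1', hv1', huv'⟩ : ∃ u v : U, u ≠ 1 ∧ v ≠ 1 ∧ u ≠ v := by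
    haveI : Finite U := Nat.finite_of_card_ne_zero (by omega)
    haveI := Fintype.ofFinite U
    classical
    rw [Nat.card_eq_fintype_card] at hU4
    obtain ⟨x, y, z, hxy, hxz, hyz⟩ := Fintype.two_lt_card_iff.1 hU4
    rcases eq_or_ne x 1 with rfl | hx
    · exact ⟨y, z, hxy.symm, hxz.symm, hyz⟩
    rcases eq_or_ne y 1 with rfl | hy
    · exact ⟨x, z, hx, hyz.symm, hxz⟩
    exact ⟨x, y, hx, hy, hxy⟩
  have hu1 : u ≠ 1 := fun e => hu1' (Subtype.ext e)
  have hv1 : v ≠ 1 := fun e => hv1' (Subtype.ext e)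
  have huv : u ≠ v := fun e => huv' (Subtype.ext e)
  have huv1 : u * v ≠ 1 := fun e => huv (by
    rw [eq_inv_of_mul_eq_one_left e]; exact inv_eq_of_mul_eq_one_right (hU2 v hv))
  -- coordinates
  have hcoord : ∀ w ∈ U, ∃ i m : ZMod (2 ^ k), w * a * w⁻¹ = pw a i ∧ w * f * w⁻¹ = f * pw a m ∧
      i * i = 1 ∧ (i + 1) * m = 0 ∧ (j + 1) * m = 0 := by
    intro w hw
    obtain ⟨i, hi⟩ := exists_pw hk (hUa w hw)
    have hnot : w * f * w⁻¹ ∉ Subgroup.zpowers a := by
      intro hmem
      apply h.notMem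
      obtain ⟨x, hx⟩ := Subgroup.mem_zpowers_iff.1 hmem
      have hw' := hUa w⁻¹ (inv_mem hw)
      rw [show f = w⁻¹ * (w * f * w⁻¹) * w⁻¹⁻¹ by group, ← hx, ← conj_zpow]
      exact Subgroup.zpow_mem _ hw' x
    obtain ⟨m, hm⟩ := exists_pw hk ((h.cover _ (hUS w hw)).resolve_left hnot)
    have hm' : w * f * w⁻¹ = f * pw a m := by
      rw [← hm, ← mul_assoc, h.sq_f, one_mul]
    have hwi : w⁻¹ = w := inv_eq_of_mul_eq_one_right (hU2 w hw)
    refine ⟨i, m, hi, hm', ?_, ?_, ?_⟩
    · apply pw_injective hk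
      rw [← pw_mul_conj hk hi i, ← hi, pw_one hk, hwi]
      simp [mul_assoc, hU2 w hw, ← mul_assoc w w]
    · apply pw_injective hk
      rw [add_mul, one_mul, pw_add hk, pw_zero hk, ← pw_mul_conj hk hi m, hm.symm]
      have : f * (f * (w * f * w⁻¹)) = w * f * w⁻¹ := by rw [← mul_assoc, h.sq_f, one_mul]
      calc w * (f * (w * f * w⁻¹)) * w⁻¹ * (f * (w * f * w⁻¹))
          = (w * f * w⁻¹) * ((w * w) * f * (w * w)⁻¹) * (f * (w * f * w⁻¹)) := by group
        _ = (w * f * w⁻¹) * (f * (f * (w * f * w⁻¹))) := by rw [hU2 w hw]; group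
        _ = 1 := by
          rw [this]
          calc (w * f * w⁻¹) * (w * f * w⁻¹) = w * (f * f) * w⁻¹ := by group
            _ = 1 := by rw [h.sq_f]; group
    · apply pw_injective hk
      rw [add_mul, one_mul, pw_add hk, pw_zero hk, ← pw_mul_conj hk h.act m,
        inv_eq_of_mul_eq_one_right h.sq_f]
      calc f * pw a m * f * pw a m = (w * f * w⁻¹) * (w * f * w⁻¹) := by rw [hm']; group
        _ = w * (f * f) * w⁻¹ := by group
        _ = 1 := by rw [h.sq_f]; group
  obtain ⟨i, m, hi, hm, hii, him, hjm⟩ := hcoord u hu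
  obtain ⟨i', m', hi', hm', hii', him', hjm'⟩ := hcoord v hv
  have hia : (u * v) * a * (u * v)⁻¹ = pw a (i * i') := by
    rw [← pw_mul_conj hk hi i', ← hi']; group
  have hmf : (u * v) * f * (u * v)⁻¹ = f * pw a (m + i * m') := by
    rw [show (u * v) * f * (u * v)⁻¹ = u * (v * f * v⁻¹) * u⁻¹ by group, hm',
      show u * (f * pw a m') * u⁻¹ = (u * f * u⁻¹) * (u * pw a m' * u⁻¹) by group, hm,
      pw_mul_conj hk hi, mul_assoc, ← pw_add hk]
  have hred : ∀ {i : ZMod (2 ^ k)}, i * i = 1 → red h1 i = 1 := fun {i} hh' =>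
    red_eq_one_of_isUnit h1 (IsUnit.of_mul_eq_one i hh')
  have finish : ∀ w ∈ U, w ≠ 1 → ∀ i m : ZMod (2 ^ k), w * a * w⁻¹ = pw a i →
      w * f * w⁻¹ = f * pw a m → (i = 1 ∨ i = j) → red h1 m = 0 →
      ∃ u ∈ U, u ≠ 1 ∧ ((∃ w ∈ S, w * w = 1 ∧ w ∉ Subgroup.zpowers a ∧ Commute u w) ∨
        ∃ s ∈ S, u * a * u⁻¹ = s * a * s⁻¹ ∧ u * f * u⁻¹ = s * f * s⁻¹) := by
    intro w hw hw1 i m hwa hwf hij hmev
    obtain ⟨s, hs, hsa, hsf⟩ := h.exists_inner hij hmev
    exact ⟨w, hw, hw1, Or.inr ⟨s, hs, hwa.trans hsa.symm, hwf.trans hsf.symm⟩⟩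
  rcases h.j_eq with hj | ⟨h3, hj⟩
  · -- dihedral
    obtain ⟨w, hw, hw1, I, M, hI, hM, hII, hIM, hMev⟩ : ∃ w ∈ U, w ≠ 1 ∧ ∃ I M : ZMod (2 ^ k),
        w * a * w⁻¹ = pw a I ∧ w * f * w⁻¹ = f * pw a M ∧ I * I = 1 ∧ (I + 1) * M = 0 ∧ red h1 M = 0 := by
      by_cases hme : red h1 m = 0
      · exact ⟨u, hu, hu1, i, m, hi, hm, hii, him, hme⟩
      by_cases hme' : red h1 m' = 0
      · exact ⟨v, hv, hv1, i', m', hi', hm', hii', him', hme'⟩
      refine ⟨u * v, mul_mem hu hv, huv1, i * i', m + i * m', hia, hmf, by rw [mul_mul_mul_comm, hii, hii', one_mul],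
        ?_, ?_⟩
      · obtain ⟨I, M, hI, hM, -, hIM, -⟩ := hcoord (u * v) (mul_mem hu hv)
        rw [pw_injective hk (hia.symm.trans hI), pw_injective hk (mul_left_cancel (hmf.symm.trans hM))]
        exact hIM
      · rw [map_add, map_mul, hred hii, one_mul]
        revert hme hme'
        generalize red h1 m = x
        generalize red h1 m' = y
        revert x y
        decide
    rcases sq_one h2 hII with e | e | e | e
    · exact finish w hw hw1 I M hI hM (Or.inl e) hMev
    · exact finish w hw hw1 I M hI hM (Or.inr (e.trans hj.symm)) hMev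
    all_goals
      rcases Nat.lt_or_ge k 3 with h3 | h3
      · obtain rfl : k = 2 := by omega
        refine finish w hw hw1 I M hI hM ?_ hMev
        rw [e, hj, hh]
        decide
      obtain ⟨x, hx⟩ : ∃ x, M + I * x = x := by
        rw [e]
        first
        | (have hu2 : IsUnit (1 + (2 : ZMod (2 ^ k)) ^ (k - 2)) := by
            apply isUnit_of_red h1
            rw [map_add, map_one, map_pow, map_ofNat, two_zero,
              zero_pow (by omega), add_zero]
           have h2M : 2 * M = 0 := by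
            refine hu2.mul_right_eq_zero.1 ?_
            rw [e, hh_eq h2] at hIM
            linear_combination hIM
           rcases two_mul_eq_zero h1 h2M with hM0 | hM0
           · exact ⟨0, by rw [hM0]; ring⟩
           · exact ⟨1, by rw [hM0]; linear_combination hh_two (k := k) h1⟩)
        | (obtain ⟨t, ht⟩ := exists_half h1 hMev
           obtain ⟨wu, hwu⟩ : IsUnit ((2 : ZMod (2 ^ k)) ^ (k - 2) - 1) := by
            apply isUnit_of_red h1
            rw [map_sub, map_one, map_pow, map_ofNat, two_zero, zero_pow (by omega)]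
            decide
           refine ⟨(wu⁻¹ : (ZMod (2 ^ k))ˣ) * -t, ?_⟩
           rw [ht, hh_eq h2]
           have hinv : ((2 : ZMod (2 ^ k)) ^ (k - 2) - 1) * ((wu⁻¹ : (ZMod (2 ^ k))ˣ) : ZMod (2 ^ k)) = 1 := by
            rw [← hwu, Units.mul_inv]
           linear_combination (-2 * t) * hinv)
      refine ⟨w, hw, hw1, Or.inl ⟨f * pw a x, mul_mem h.mem_f ((Subgroup.zpowers_le.2 h.mem_a) (pw_mem a x)),
        ?_, fun hmem => h.notMem ?_, ?_⟩⟩
      · rw [show f * pw a x * (f * pw a x) = (f * pw a x * f⁻¹) * (f * f) * pw a x by group, h.sq_f, mul_one,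
          pw_mul_conj hk h.act, hj, ← pw_add hk, neg_one_mul, neg_add_cancel, pw_zero hk]
      · simpa using mul_mem hmem (inv_mem (pw_mem a x))
      · refine mul_inv_eq_iff_eq_mul.1 ?_
        rw [show w * (f * pw a x) * w⁻¹ = (w * f * w⁻¹) * (w * pw a x * w⁻¹) by group, hM,
          pw_mul_conj hk hI, mul_assoc, ← pw_add hk, hx]
  · -- semidihedral
    have hev : ∀ {m : ZMod (2 ^ k)}, (j + 1) * m = 0 → red h1 m = 0 := by
      intro m hm0
      by_contra hne
      have := mul_hh (k := k) h1 (x := m)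
      rw [if_neg hne, mul_comm, show hh k = j + 1 by rw [hj]; ring, hm0] at this
      exact hh_ne_zero h1 (by rw [show hh k = j + 1 by rw [hj]; ring]; exact this.symm)
    by_cases hi1 : i = 1 ∨ i = j
    · exact finish u hu hu1 i m hi hm hi1 (hev hjm)
    by_cases hi1' : i' = 1 ∨ i' = j
    · exact finish v hv hv1 i' m' hi' hm' hi1' (hev hjm')
    refine finish (u * v) (mul_mem hu hv) huv1 _ _ hia hmf ?_ ?_
    · have hout : ∀ i : ZMod (2 ^ k), i * i = 1 → ¬ (i = 1 ∨ i = j) → i = -1 ∨ i = 1 + hh k := by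
        intro i hii hn
        rcases sq_one h2 hii with e | e | e | e
        · exact absurd (Or.inl e) hn
        · exact Or.inl e
        · exact Or.inr e
        · exact absurd (Or.inr (e.trans hj.symm)) hn
      have h22 := hh_two (k := k) h1
      rcases hout i hii hi1 with e | e <;> rcases hout i' hii' hi1' with e' | e' <;> subst e <;> subst e'
      · left; ring
      · right; rw [hj]; linear_combination -h22
      · right; rw [hj]; linear_combination -h22
      · left; exact hii
    · rw [map_add, map_mul, hev hjm, hev hjm', mul_zero, add_zero]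

end CfsgLib.TwoGroups.InvariantFour

namespace CfsgLib.TwoGroups.InvariantFour

open CfsgLib.TwoGroups.CyclicMax

variable {G : Type*} [Group G] {k : ℕ} {S : Subgroup G} {a f : G} {j : ZMod (2 ^ k)}

theorem Shape.map_subtype {H : Subgroup G} {S : Subgroup H} {a f : H} (h : Shape S a f k j) :
    Shape (S.map H.subtype) (a : G) (f : G) k j where
  two_le := h.two_le
  order := (Subgroup.orderOf_coe a).trans h.order
  mem_a := Subgroup.mem_map_of_mem H.subtype h.mem_a
  mem_f := Subgroup.mem_map_of_mem H.subtype h.mem_f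
  sq_f := congrArg Subtype.val h.sq_f
  notMem := by
    rw [show (a : G) = H.subtype a from rfl, ← MonoidHom.map_zpowers]
    exact fun hm => h.notMem ((Subgroup.mem_map_iff_mem H.subtype_injective).1 hm)
  cover := by
    rintro _ ⟨x, hx, rfl⟩
    rw [show (a : G) = H.subtype a from rfl, ← MonoidHom.map_zpowers]
    exact (h.cover x hx).imp (Subgroup.mem_map_of_mem H.subtype) (Subgroup.mem_map_of_mem H.subtype)
  act := by
    have e := congrArg (Subtype.val : H → G) h.act
    simpa [pw] using e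
  j_eq := h.j_eq

theorem Shape.j_ne_one (h : Shape S a f k j) : j ≠ 1 := by
  intro e
  have h2 := h.two_le
  let π : ZMod (2 ^ k) →+* ZMod 4 := ZMod.castHom (show (4:ℕ) ∣ 2 ^ k from pow_dvd_pow 2 h2) (ZMod 4)
  rcases h.j_eq with e' | ⟨h3, e'⟩
  · have := congrArg π (e'.symm.trans e)
    rw [map_neg, map_one] at this
    exact absurd this (by decide)
  · have := congrArg π (e'.symm.trans e)
    rw [map_sub, map_one, hh, map_pow, map_ofNat, show k - 1 = 2 + (k - 3) by omega, pow_add,
      show (2 : ZMod 4) ^ 2 = 0 by decide, zero_mul] at this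
    exact absurd this (by decide)

/-- The fixed powers of `a` under `f`. -/
theorem Shape.fixed (h : Shape S a f k j) {x : ZMod (2 ^ k)} (hx : j * x = x) : x = 0 ∨ x = hh k := by
  have h2 := h.two_le
  have h1 : 1 ≤ k := by omega
  refine two_mul_eq_zero h1 ?_
  rcases h.j_eq with e | ⟨h3, e⟩
  · rw [e] at hx; linear_combination -hx
  · rw [e] at hx
    have hmul := mul_hh (k := k) h1 (x := x)
    by_cases hr : red h1 x = 0
    · rw [if_pos hr] at hmul; linear_combination hmul - hx
    · exfalso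
      rw [if_neg hr] at hmul
      have h0 : 2 * (x - 2 ^ (k - 2)) = 0 := by
        have e3 := hh_eq h2
        linear_combination hmul - hx + e3
      apply hr
      rcases two_mul_eq_zero h1 h0 with e0 | e0
      · rw [show x = 2 ^ (k - 2) by linear_combination e0, map_pow, map_ofNat, two_zero, zero_pow (by omega)]
      · rw [show x = hh k + 2 ^ (k - 2) by linear_combination e0, map_add, red_hh h2, map_pow, map_ofNat,
          two_zero, zero_pow (by omega), add_zero]

end CfsgLib.TwoGroups.InvariantFour
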