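import Cfsg.Agent.Lib.TwoGroups.Classify
import Cfsg.Agent.Lib.Involution.TwoTimesPSL.DihedralBasic

/-!
# The number of solutions of `w * w = 1` modulo four

A four group of involutions centralised by all the solutions of `w * w = 1` makes their number a
multiple of four.  So does a normal four group in a 2-group, unless the group is dihedral of order
eight.
-/

set_option autoImplicit false
set_option linter.style.haveILetI false

namespace CfsgLib.TwoGroups.InvolutionParity

open Subgroup

variable {T : Type*} [Group T]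

/-- `a` generates a cyclic subgroup inverted by the involution `f` outside it, and they cover. -/
structure DihedralPair (a f : T) : Prop where
  order : ∃ k : ℕ, 2 ≤ k ∧ orderOf a = 2 ^ k
  sq_f : f * f = 1
  notMem : f ∉ zpowers a
  inv : f * a * f⁻¹ = a⁻¹
  cover : ∀ w : T, w ∈ zpowers a ∨ f * w ∈ zpowers a

/-- A set invariant under multiplication by a subgroup has its order as a divisor of its size. -/
theorem card_dvd_of_mul_mem [Finite T] (V : Subgroup T) (s : Set T)
    (hs : ∀ w ∈ s, ∀ v ∈ V, w * v ∈ s) : Nat.card V ∣ Nat.card s := by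
  have h : QuotientGroup.mk ⁻¹' ((QuotientGroup.mk : T → T ⧸ V) '' s) = s := by
    ext w
    refine ⟨?_, fun hw => ⟨w, hw, rfl⟩⟩
    rintro ⟨u, hu, he⟩
    have h1 := hs u hu (u⁻¹ * w) (QuotientGroup.eq.1 he)
    rwa [mul_inv_cancel_left] at h1
  rw [← h, Nat.card_congr (QuotientGroup.preimageMkEquivSubgroupProdSet V _), Nat.card_prod]
  exact dvd_mul_right _ _

/-- A subgroup of exponent two and order four commuting with all `w` with `w * w = 1`. -/
theorem four_dvd_of_four [Finite T] (V : Subgroup T) (hV : Nat.card V = 4)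
    (hsq : ∀ v ∈ V, v * v = 1) (hc : ∀ w : T, w * w = 1 → ∀ v ∈ V, Commute w v) :
    4 ∣ Nat.card {w : T | w * w = 1} := by
  rw [← hV]
  refine card_dvd_of_mul_mem V _ fun w hw v hv => ?_
  show w * v * (w * v) = 1
  rw [(hc w hw v hv).symm.mul_mul_mul_comm, hsq v hv, show w * w = 1 from hw, one_mul]

/-- The involutions of a group of even order are odd in number. -/
theorem even_sq_eq_one [Finite T] (h : 2 ∣ Nat.card T) : 2 ∣ Nat.card {w : T | w * w = 1} := by
  classical
  haveI : Fact (Nat.Prime 2) := ⟨Nat.prime_two⟩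
  haveI := Fintype.ofFinite T
  have h1 : Fintype.card T ≡ Fintype.card (Function.fixedPoints fun w : T => w⁻¹) [MOD 2] :=
    Equiv.Perm.card_fixedPoints_modEq (f := fun w : T => w⁻¹) (p := 2) (n := 1)
      (funext fun w => inv_inv w)
  have h2 : Nat.card {w : T | w * w = 1} = Nat.card (Function.fixedPoints fun w : T => w⁻¹) :=
    Nat.card_congr (Equiv.subtypeEquivRight fun w => by
      show w * w = 1 ↔ w⁻¹ = w
      exact ⟨inv_eq_of_mul_eq_one_right, fun e => by
        conv_lhs => arg 1; rw [← e]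
        exact inv_mul_cancel w⟩)
  rw [h2, Nat.card_eq_fintype_card]
  rw [Nat.card_eq_fintype_card] at h
  exact Nat.modEq_zero_iff_dvd.1 (h1.symm.trans (Nat.modEq_zero_iff_dvd.2 h))

/-- A normal four group: the count is a multiple of four or the group is dihedral of order eight. -/
theorem four_dvd_or_dihedral [Finite T] (hT : IsPGroup 2 T) (V : Subgroup T) [V.Normal]
    (hV : Nat.card V = 4) (hsq : ∀ v ∈ V, v * v = 1) :
    4 ∣ Nat.card {w : T | w * w = 1} ∨ ∃ a f : T, DihedralPair a f := by
  classical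
  haveI : Fact (Nat.Prime 2) := ⟨Nat.prime_two⟩
  by_cases hall : ∀ w : T, w * w = 1 → ∀ v ∈ V, Commute w v
  · exact Or.inl (four_dvd_of_four V hV hsq hall)
  push Not at hall
  obtain ⟨d₀, hd₀, s, hs, hds⟩ := hall
  set H := centralizer (V : Set T) with hH
  have hd₀H : d₀ ∉ H := fun hh => hds (mem_centralizer_iff.1 hh s hs).symm
  have hsH : ∀ v ∈ V, v ∈ H := fun v hv => mem_centralizer_iff.2 fun u hu => by
    have h1 : ∀ t ∈ V, t⁻¹ = t := fun t ht => inv_eq_of_mul_eq_one_right (hsq t ht)
    calc u * v = (u * v)⁻¹ := (h1 _ (mul_mem hu hv)).symm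
      _ = v * u := by rw [mul_inv_rev, h1 u hu, h1 v hv]
  have hs1 : s ≠ 1 := fun e => hds (e ▸ Commute.one_right d₀)
  -- a central involution in `V` and the others
  haveI hVnt : Nontrivial V := Finite.one_lt_card_iff_nontrivial.1 (by omega)
  obtain ⟨z, hz, hz2, hzc⟩ := Classify.exists_central_involution hT V
    ((V.nontrivial_iff_ne_bot).1 hVnt)
  have hzc' : ∀ w : T, Commute w z := fun w => mem_center_iff.1 hzc w
  have hz1 : z ≠ 1 := fun e => by simp [e] at hz2
  have hzz : z * z = 1 := hsq z hz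
  have hss : s * s = 1 := hsq s hs
  have hsz : s ≠ z := fun e => hds (e ▸ hzc' d₀)
  have hV4 : ∀ v ∈ V, v = 1 ∨ v = z ∨ v = s ∨ v = s * z := by
    intro v hv
    by_contra hne
    push Not at hne
    obtain ⟨h1, h2, h3, h4⟩ := hne
    have hsub : ({1, z, s, s * z, v} : Finset T) ⊆ (Set.toFinite (V : Set T)).toFinset := by
      intro u hu
      simp only [Finset.mem_insert, Finset.mem_singleton] at hu
      rw [Set.Finite.mem_toFinset, SetLike.mem_coe]
      rcases hu with rfl | rfl | rfl | rfl | rfl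
      exacts [one_mem V, hz, hs, mul_mem hs hz, hv]
    have hle := Finset.card_le_card hsub
    rw [← Set.ncard_eq_toFinset_card _ (Set.toFinite _), ← Nat.card_coe_set_eq,
      show Nat.card (V : Set T) = Nat.card V from rfl, hV] at hle
    have n1 : s * z ≠ 1 := fun e => hsz (by
      rw [eq_inv_of_mul_eq_one_left e, inv_eq_of_mul_eq_one_right hzz])
    have n2 : s * z ≠ z := fun e => hs1 (mul_eq_right.1 e)
    have n3 : s ≠ s * z := fun e => hz1 (mul_eq_left.1 e.symm)
    rw [Finset.card_insert_of_notMem (by simp [hz1.symm, hs1.symm, n1.symm, h1.symm]),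
      Finset.card_insert_of_notMem (by simp [hsz.symm, n2.symm, h2.symm]),
      Finset.card_insert_of_notMem (by simp [n3, h3.symm]),
      Finset.card_insert_of_notMem (by simp [h4.symm]), Finset.card_singleton] at hle
    omega
  have hconj : ∀ g : T, g ∉ H → g * s * g⁻¹ = s * z := by
    intro g hg
    rcases hV4 _ ((inferInstance : V.Normal).conj_mem s hs g) with e | e | e | e
    · exact absurd (conj_eq_one_iff.1 e) hs1
    · refine absurd ?_ hsz
      calc s = g⁻¹ * (g * s * g⁻¹) * g := by group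
        _ = z := by rw [e, mul_assoc, ← (hzc' g).eq, inv_mul_cancel_left]
    · refine absurd (mem_centralizer_iff.2 fun v hv => ?_) hg
      have hgs : Commute g s := mul_inv_eq_iff_eq_mul.1 e
      rcases hV4 v hv with rfl | rfl | rfl | rfl
      exacts [(Commute.one_right g).eq.symm, (hzc' g).eq.symm, hgs.eq.symm,
        (hgs.mul_right (hzc' g)).eq.symm]
    · exact e
  have hswap : ∀ g g' : T, g ∉ H → g' ∉ H → g * g' ∈ H := by
    intro g g' hg hg'
    refine mem_centralizer_iff.2 fun v hv => ?_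
    have h1 : Commute (g * g') s := mul_inv_eq_iff_eq_mul.1 (by
      calc g * g' * s * (g * g')⁻¹ = g * (g' * s * g'⁻¹) * g⁻¹ := by group
        _ = (g * s * g⁻¹) * (g * z * g⁻¹) := by rw [hconj g' hg']; group
        _ = s := by rw [hconj g hg, (hzc' g).eq, mul_inv_cancel_right, mul_assoc, hzz, mul_one])
    rcases hV4 v hv with rfl | rfl | rfl | rfl
    exacts [(Commute.one_right _).eq.symm, (hzc' _).eq.symm, h1.eq.symm,
      (h1.mul_right (hzc' _)).eq.symm]
  -- the solutions inside and outside `H`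
  set sH : Set T := {w | w * w = 1 ∧ w ∈ H} with hsH'
  set sO : Set T := {w | w * w = 1 ∧ w ∉ H} with hsO'
  have hsum : Nat.card {w : T | w * w = 1} = Nat.card sH + Nat.card sO := by
    rw [Nat.card_coe_set_eq, Nat.card_coe_set_eq, Nat.card_coe_set_eq,
      ← Set.ncard_union_eq (by
        rw [Set.disjoint_left]
        exact fun w hw hw' => hw'.2 hw.2) (Set.toFinite _) (Set.toFinite _)]
    congr 1
    ext w
    simp only [hsH', hsO', Set.mem_union, Set.mem_setOf_eq]
    tauto
  have h4H : 4 ∣ Nat.card sH := hV ▸ card_dvd_of_mul_mem V sH fun w hw v hv => by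
    have hc : Commute w v := (mem_centralizer_iff.1 hw.2 v hv).symm
    exact ⟨by rw [hc.symm.mul_mul_mul_comm, hsq v hv, hw.1, one_mul], mul_mem hw.2 (hsH v hv)⟩
  by_cases hbig : ∀ d ∈ sO, 2 * Nat.card (H ⊓ centralizer ({d} : Set T) : Subgroup T) < Nat.card H
  · left
    rw [hsum]
    refine dvd_add h4H (Involution.TwoTimesPSL.four_dvd_of_orbits (hT.to_subgroup H) sO
      (fun g hg w hw => ⟨?_, fun hh => hw.2 ?_⟩) hbig)
    · rw [show g * w * g⁻¹ * (g * w * g⁻¹) = g * (w * w) * g⁻¹ by group, hw.1]; group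
    · rw [show w = g⁻¹ * (g * w * g⁻¹) * g by group]
      exact mul_mem (mul_mem (inv_mem hg) hh) hg
  push Not at hbig
  obtain ⟨d, ⟨hdd, hdH⟩, hdle⟩ := hbig
  set A := H ⊓ centralizer ({d} : Set T) with hA
  have hmemA : ∀ g, g ∈ A ↔ g ∈ H ∧ Commute g d := fun g => by
    rw [hA, mem_inf, mem_centralizer_singleton_iff]
    exact Iff.rfl
  have hzA : z ∈ A := (hmemA z).2 ⟨hsH z hz, (hzc' d).symm⟩
  have hsA : s ∉ A := fun hh => hz1 (by
    have h1 := hconj d hdH
    rw [((hmemA s).1 hh).2.symm.eq, mul_inv_cancel_right] at h1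
    exact mul_eq_left.1 h1.symm)
  have hidx : (A.subgroupOf H).index = 2 := by
    have h1 := Subgroup.card_mul_index (A.subgroupOf H)
    rw [Nat.card_congr (subgroupOfEquivOfLe (inf_le_left : A ≤ H)).toEquiv] at h1
    have h2 : (A.subgroupOf H).index ≠ 1 := fun e =>
      hsA (relIndex_eq_one.1 e (hsH s hs))
    have h3 : (A.subgroupOf H).index ≤ 2 := Nat.le_of_mul_le_mul_left
      (by rw [h1, mul_comm]; exact hdle) Nat.card_pos
    have h4 : (A.subgroupOf H).index ≠ 0 := Subgroup.FiniteIndex.index_ne_zero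
    omega
  have hHA : ∀ g ∈ H, g ∉ A → s * g ∈ A := by
    intro g hg hgA
    have := (Subgroup.mul_mem_iff_of_index_two hidx (a := (⟨s, hsH s hs⟩ : H))
      (b := (⟨g, hg⟩ : H))).2
      (iff_of_false (fun hh => hsA (mem_subgroupOf.1 hh)) (fun hh => hgA (mem_subgroupOf.1 hh)))
    exact mem_subgroupOf.1 this
  have hdsd : d * s * d = s * z := by
    have h1 := hconj d hdH
    rwa [inv_eq_of_mul_eq_one_right hdd] at h1
  -- squares in `A d` and `s A d`
  have hsq1 : ∀ b ∈ A, b * d * (b * d) = b * b := fun b hb => by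
    rw [((hmemA b).1 hb).2.symm.mul_mul_mul_comm, hdd, mul_one]
  have hsq2 : ∀ b ∈ A, s * b * d * (s * b * d) = b * b * z := fun b hb => by
    obtain ⟨hbH, hbd⟩ := (hmemA b).1 hb
    have hbs : Commute b s := (mem_centralizer_iff.1 hbH s hs).symm
    calc s * b * d * (s * b * d) = s * b * (d * s * d) * (d⁻¹ * b * d) := by group
      _ = s * b * (s * z) * b := by rw [hdsd, mul_assoc d⁻¹ b d, hbd.eq, inv_mul_cancel_left]
      _ = (s * s) * b * (z * b) := by
          rw [show s * b * (s * z) * b = s * (b * s) * (z * b) by group, hbs.eq]; group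
      _ = b * b * z := by rw [hss, one_mul, ← (hzc' b).eq, ← mul_assoc]
  set P₀ : Set T := {b | b ∈ A ∧ (b * b = 1 ∨ b * b = z)} with hP₀
  have hcard : Nat.card sO = Nat.card P₀ := by
    refine (Nat.card_eq_of_bijective (fun b : P₀ =>
      (⟨if (b : T) * b = 1 then (b : T) * d else s * b * d, ?_⟩ : sO)) ⟨?_, ?_⟩).symm
    · obtain ⟨hb, hb2⟩ := b.2
      have hbH := ((hmemA _).1 hb).1
      split_ifs with h1
      · exact ⟨(hsq1 _ hb).trans h1, fun hh => hdH ((H.mul_mem_cancel_left hbH).1 hh)⟩
      · refine ⟨?_, fun hh => hdH ((H.mul_mem_cancel_left (mul_mem (hsH s hs) hbH)).1 hh)⟩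
        rw [hsq2 _ hb, hb2.resolve_left h1, hzz]
    · intro b c e
      have e' := congrArg Subtype.val e
      simp only at e'
      split_ifs at e' with h1 h2 h2
      · exact Subtype.ext (mul_right_cancel e')
      · refine absurd ?_ hsA
        rw [show s = (b : T) * (c : T)⁻¹ by rw [mul_right_cancel e']; group]
        exact mul_mem b.2.1 (inv_mem c.2.1)
      · refine absurd ?_ hsA
        rw [show s = (c : T) * (b : T)⁻¹ by rw [← mul_right_cancel e']; group]
        exact mul_mem c.2.1 (inv_mem b.2.1)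
      · exact Subtype.ext (mul_left_cancel (mul_right_cancel e'))
    · rintro ⟨w, hw2, hwH⟩
      have hb : w * d ∈ H := hswap w d hwH hdH
      have hwb : w = w * d * d := by rw [mul_assoc, hdd, mul_one]
      by_cases hbA : w * d ∈ A
      · have h1 : w * d * (w * d) = 1 := by rw [← hsq1 _ hbA, ← hwb, hw2]
        refine ⟨⟨w * d, hbA, Or.inl h1⟩, Subtype.ext ?_⟩
        show (if w * d * (w * d) = 1 then w * d * d else s * (w * d) * d) = w
        rw [if_pos h1, ← hwb]
      · have hc := hHA _ hb hbA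
        have hwc : w = s * (s * (w * d)) * d := by rw [← mul_assoc s s, hss, one_mul, ← hwb]
        have h1 : s * (w * d) * (s * (w * d)) = z := by
          have h0 := hsq2 _ hc
          rw [← hwc, hw2] at h0
          rw [eq_inv_of_mul_eq_one_left h0.symm, inv_eq_of_mul_eq_one_right hzz]
        refine ⟨⟨s * (w * d), hc, Or.inr h1⟩, Subtype.ext ?_⟩
        show (if s * (w * d) * (s * (w * d)) = 1 then s * (w * d) * d
          else s * (s * (w * d)) * d) = w
        rw [if_neg (by rw [h1]; exact hz1), ← hwc]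
  -- either `A` is `⟨z⟩` or the count outside `H` is a multiple of four
  set Z₀ := zpowers z with hZ₀
  have hZ₀2 : Nat.card Z₀ = 2 := by rw [Nat.card_zpowers, hz2]
  haveI : Z₀.Normal := ⟨fun u hu g => by
    obtain ⟨i, rfl⟩ := mem_zpowers_iff.1 hu
    rw [((hzc' g).zpow_right i).eq, mul_inv_cancel_right]
    exact zpow_mem (mem_zpowers z) i⟩
  have hZ₀A : Z₀ ≤ A := zpowers_le.2 hzA
  have hZ₀mem : ∀ u : T, u ∈ Z₀ ↔ u = 1 ∨ u = z := fun u => by
    refine ⟨fun hu => ?_, ?_⟩
    · obtain ⟨i, rfl⟩ := mem_zpowers_iff.1 hu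
      rcases Int.even_or_odd' i with ⟨t, rfl | rfl⟩
      · left; rw [zpow_mul, zpow_two, hzz, one_zpow]
      · right; rw [zpow_add, zpow_mul, zpow_two, hzz, one_zpow, one_mul, zpow_one]
    · rintro (rfl | rfl)
      exacts [one_mem _, mem_zpowers _]
  by_cases hAZ : A = Z₀
  · right
    have haa : s * d * (s * d) = z := by
      have := hsq2 1 (one_mem A)
      rwa [mul_one, one_mul, one_mul] at this
    refine ⟨s * d, s, ⟨⟨2, le_rfl, orderOf_eq_prime_pow (p := 2) (n := 1) ?_ ?_⟩, hss, ?_, ?_,
      fun w => ?_⟩⟩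
    · rw [pow_one, pow_two, haa]; exact hz1
    · rw [pow_succ, pow_one, pow_mul, pow_two (s * d), haa, pow_two, hzz]
    · intro hh
      obtain ⟨i, hi⟩ := mem_zpowers_iff.1 hh
      have hc : Commute s (s * d) := by
        have h0 := (Commute.refl (s * d)).zpow_left i
        rwa [hi] at h0
      refine hsA ((hmemA s).2 ⟨hsH s hs, ?_⟩)
      have h1 := hc.eq
      rw [mul_assoc s d s] at h1
      exact mul_left_cancel h1
    · rw [mul_inv_rev, inv_eq_of_mul_eq_one_right hdd, inv_eq_of_mul_eq_one_right hss,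
        ← mul_assoc, hss, one_mul]
    · have hz' : z ∈ zpowers (s * d) := haa ▸ mul_mem (mem_zpowers _) (mem_zpowers _)
      have hA' : ∀ b ∈ A, b ∈ zpowers (s * d) := fun b hb => by
        rw [hAZ] at hb
        exact (zpowers_le.2 hz') hb
      by_cases hw : w ∈ H
      · by_cases hwA : w ∈ A
        · exact Or.inl (hA' w hwA)
        · exact Or.inr (hA' _ (hHA w hw hwA))
      · have hb := hswap w d hw hdH
        have hwb : w = w * d * d := by rw [mul_assoc, hdd, mul_one]
        by_cases hbA : w * d ∈ A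
        · right
          rw [hwb, ← mul_assoc s, ← (mem_centralizer_iff.1 ((hmemA _).1 hbA).1 s hs).symm,
            mul_assoc]
          exact mul_mem (hA' _ hbA) (mem_zpowers _)
        · left
          have hc := hHA _ hb hbA
          rw [show w = s * (s * (w * d)) * d by rw [← mul_assoc s s, hss, one_mul, ← hwb],
            (mem_centralizer_iff.1 ((hmemA _).1 hc).1 s hs), mul_assoc]
          exact mul_mem (hA' _ hc) (mem_zpowers _)
  left
  rw [hsum, hcard]
  refine dvd_add h4H ?_
  set ZA := Z₀.subgroupOf A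
  haveI : ZA.Normal := Normal.subgroupOf inferInstance A
  have hpre : Nat.card P₀ = Nat.card (QuotientGroup.mk ⁻¹' {q : A ⧸ ZA | q * q = 1}) :=
    Nat.card_congr
      { toFun := fun b => ⟨⟨b.1, b.2.1⟩, by
          show ((⟨b.1, b.2.1⟩ : A) : A ⧸ ZA) * ((⟨b.1, b.2.1⟩ : A) : A ⧸ ZA) = 1
          rw [← QuotientGroup.mk_mul]
          exact (QuotientGroup.eq_one_iff _).2 (mem_subgroupOf.2 ((hZ₀mem _).2 b.2.2))⟩
        invFun := fun b => ⟨(b.1 : T), b.1.2, (hZ₀mem _).1 (mem_subgroupOf.1
          ((QuotientGroup.eq_one_iff (N := ZA) (b.1 * b.1)).1 (by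
            rw [QuotientGroup.mk_mul]; exact b.2)))⟩
        left_inv := fun _ => rfl
        right_inv := fun _ => rfl }
  rw [hpre, Nat.card_congr (QuotientGroup.preimageMkEquivSubgroupProdSet ZA _), Nat.card_prod,
    Nat.card_congr (subgroupOfEquivOfLe hZ₀A).toEquiv, hZ₀2, show (4 : ℕ) = 2 * 2 from rfl]
  refine mul_dvd_mul_left 2 (even_sq_eq_one ?_)
  obtain ⟨n, hn⟩ := ((hT.to_subgroup A).to_quotient ZA).exists_card_eq
  rcases n with _ | n
  · refine absurd ?_ hAZ
    rw [pow_zero] at hn
    refine le_antisymm (relIndex_eq_one.1 ?_) hZ₀A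
    exact hn
  · rw [hn]; exact dvd_pow_self 2 n.succ_ne_zero

end CfsgLib.TwoGroups.InvolutionParity
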