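import Mathlib
import Cfsg.Prelude.Def_CaseTheorems
import Cfsg.Prelude.Def_OddOrderLocal
import Cfsg.Agent.Lib.Fusion.NormalRankTwo
import Cfsg.Agent.S4398

/-!
Two-groups of sectional rank at most two are metacyclic.
-/

set_option autoImplicit false
set_option linter.style.haveILetI false

open scoped commutatorElement

namespace CfsgLib.TwoGroups.SectionalTwo

universe u

variable {S : Type u} [Group S]

/-- A group generated by pairwise commuting elements is commutative. -/
theorem comm_of_generators {T : Set S} (hT : Subgroup.closure T = ⊤) (h : ∀ x ∈ T, ∀ y ∈ T, x * y = y * x)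
    (g k : S) : g * k = k * g := by
  have h1 : Subgroup.closure T ≤ Subgroup.centralizer T :=
    (Subgroup.closure_le _).2 fun x hx => Subgroup.mem_centralizer_iff.2 fun y hy => h y hy x hx
  have h2 : Subgroup.closure T ≤ Subgroup.centralizer ((⊤ : Subgroup S) : Set S) :=
    (Subgroup.closure_le _).2 fun x hx => Subgroup.mem_centralizer_iff.2 fun y _ =>
      (Subgroup.mem_centralizer_iff.1 (h1 (hT.ge (Subgroup.mem_top y))) x hx).symm
  exact (Subgroup.mem_centralizer_iff.1 (h2 (hT.ge (Subgroup.mem_top g))) k trivial).symm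

theorem isMetacyclic_of_gen [Finite S] {x y : S} (hgen : Subgroup.closure {x, y} = (⊤ : Subgroup S))
    (h : y * x * y⁻¹ ∈ Subgroup.zpowers x) : Cfsg.IsMetacyclic S := by
  haveI hN : (Subgroup.zpowers x).Normal := by
    rw [← Subgroup.normalizer_eq_top_iff, eq_top_iff, ← hgen, Subgroup.closure_le]
    rintro g (rfl | rfl)
    · exact Subgroup.le_normalizer (Subgroup.mem_zpowers g)
    · refine Subgroup.mem_normalizer_fintype fun n hn => ?_
      obtain ⟨i, rfl⟩ := Subgroup.mem_zpowers_iff.1 hn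
      rw [← conj_zpow]
      exact zpow_mem h i
  refine ⟨Subgroup.zpowers x, hN, inferInstance, ⟨(y : S ⧸ Subgroup.zpowers x), fun q => ?_⟩⟩
  obtain ⟨g, rfl⟩ := QuotientGroup.mk_surjective q
  have h1 : Subgroup.closure {x, y} ≤
      (Subgroup.zpowers (QuotientGroup.mk' (Subgroup.zpowers x) y)).comap (QuotientGroup.mk' _) := by
    rw [Subgroup.closure_le]
    rintro g (rfl | rfl)
    · rw [SetLike.mem_coe, Subgroup.mem_comap]
      rw [show QuotientGroup.mk' (Subgroup.zpowers g) g = 1 from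
        (QuotientGroup.eq_one_iff g).2 (Subgroup.mem_zpowers g)]
      exact one_mem _
    · exact Subgroup.mem_zpowers _
  exact h1 (hgen.ge (Subgroup.mem_top g))

/-- Sectional rank passes to quotient groups. -/
theorem sectional_quotient {p k : ℕ} (h : Cfsg.SectionalPRankLE p k S) (N : Subgroup S) [N.Normal] :
    Cfsg.SectionalPRankLE p k (S ⧸ N) := by
  intro H M _ A hA hAp
  let f : ↥(H.comap (QuotientGroup.mk' N)) →* ↥H ⧸ M :=
    (QuotientGroup.mk' M).comp ((QuotientGroup.mk' N).subgroupComap H)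
  have hf : Function.Surjective f := by
    intro q
    obtain ⟨⟨y, hy⟩, rfl⟩ := QuotientGroup.mk_surjective q
    obtain ⟨x, rfl⟩ := QuotientGroup.mk'_surjective N y
    exact ⟨⟨x, hy⟩, rfl⟩
  let e := QuotientGroup.quotientKerEquivOfSurjective f hf
  have hB := h (H.comap (QuotientGroup.mk' N)) f.ker (A.map e.symm.toMonoidHom) ⟨⟨?_⟩⟩ ?_
  · rwa [← Nat.card_congr (A.equivMapOfInjective e.symm.toMonoidHom e.symm.injective).toEquiv] at hB
  · rintro ⟨_, a, ha, rfl⟩ ⟨_, b, hb, rfl⟩
    refine Subtype.ext ?_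
    show e.symm.toMonoidHom a * e.symm.toMonoidHom b = e.symm.toMonoidHom b * e.symm.toMonoidHom a
    rw [← map_mul, ← map_mul]
    exact congrArg _ (congrArg Subtype.val (hA.is_comm.comm ⟨a, ha⟩ ⟨b, hb⟩))
  · rintro _ ⟨a, ha, rfl⟩
    rw [← map_pow, hAp a ha, map_one]

variable [Finite S]

/-- Three independent commuting involutions do not exist. -/
theorem no_three (hr : Cfsg.SectionalPRankLE 2 2 S) {u v w : S} (hu : u * u = 1)
    (hv : v * v = 1) (hw : w * w = 1) (huv : u * v = v * u) (huw : u * w = w * u) (hvw : v * w = w * v)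
    (hu1 : u ≠ 1) (hv' : v ∉ Subgroup.zpowers u) (hw' : w ∉ Subgroup.closure {u, v}) : False := by
  let W : Subgroup S := Subgroup.closure {u, v, w}
  let V : Subgroup S := Subgroup.closure {u, v}
  have huW : u ∈ W := Subgroup.subset_closure (by simp)
  have hvW : v ∈ W := Subgroup.subset_closure (by simp)
  have hwW : w ∈ W := Subgroup.subset_closure (by simp)
  have hUV : Subgroup.zpowers u < V := lt_of_le_not_ge
    (Subgroup.zpowers_le.2 (Subgroup.subset_closure (by simp)))
    fun hle => hv' (hle (Subgroup.subset_closure (by simp)))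
  have hVW : V < W := lt_of_le_not_ge (Subgroup.closure_mono (by intro x hx; simp at hx ⊢; tauto))
    fun hle => hw' (hle hwW)
  have hlt : ∀ {A B : Subgroup S}, A < B → 2 * Nat.card A ≤ Nat.card B := by
    intro A B hAB
    have hr1 : A.relIndex B ≠ 1 := fun e => hAB.not_ge (Subgroup.relIndex_eq_one.1 e)
    have hr0 : A.relIndex B ≠ 0 := Subgroup.FiniteIndex.index_ne_zero
    rw [← Subgroup.relIndex_bot_left B, ← Subgroup.relIndex_mul_relIndex ⊥ A B bot_le hAB.le,
      Subgroup.relIndex_bot_left, mul_comm]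
    exact Nat.mul_le_mul_left _ (by omega)
  have hu2 : Nat.card (Subgroup.zpowers u) = 2 := by
    rw [Nat.card_zpowers, orderOf_eq_prime (by rw [pow_two, hu]) hu1]
  have hW8 : 8 ≤ Nat.card W := by
    have := hlt hUV
    have := hlt hVW
    omega
  have hcomm : ∀ x : W, (x : S) * x = 1 := by
    rintro ⟨x, hx⟩
    show x * x = 1
    have hW : W ≤ Subgroup.centralizer (W : Set S) :=
      Subgroup.le_centralizer_iff_isMulCommutative.2 (Subgroup.isMulCommutative_closure (by
        simp only [Set.mem_insert_iff, Set.mem_singleton_iff]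
        rintro _ (rfl | rfl | rfl) _ (rfl | rfl | rfl) <;>
          first | rfl | exact huv | exact huw | exact hvw | exact huv.symm | exact huw.symm | exact hvw.symm))
    induction hx using Subgroup.closure_induction with
    | mem y hy => rcases hy with rfl | rfl | rfl <;> assumption
    | one => exact mul_one 1
    | mul y y' hy hy' e e' =>
      have hc : y * y' = y' * y := (Subgroup.mem_centralizer_iff.1 (hW hy') y hy)
      calc y * y' * (y * y') = y * (y' * y) * y' := by simp only [mul_assoc]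
        _ = (y * y) * (y' * y') := by rw [← hc]; simp only [mul_assoc]
        _ = 1 := by rw [e, e', one_mul]
    | inv y _ e => rw [← mul_inv_rev, e, inv_one]
  exact Cfsg.Agent.S4398.section_bound hr W ⊥ (by rw [Subgroup.card_bot, mul_one]; exact hW8)
    fun x => Subgroup.mem_bot.2 (Subtype.ext (hcomm x))

omit [Finite S] in
/-- A power with odd exponent generates. -/
theorem mem_zpowers_odd (h2 : IsPGroup 2 S) (a : S) {j : ℤ} (hj : Odd j) : a ∈ Subgroup.zpowers (a ^ j) := by
  obtain ⟨m, hm⟩ := IsPGroup.iff_orderOf.1 h2 a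
  obtain ⟨t, rfl⟩ := hj
  have hc : IsCoprime (2 * t + 1) ((orderOf a : ℕ) : ℤ) := by
    rw [hm]
    push_cast
    exact IsCoprime.pow_right ⟨1, -t, by ring⟩
  obtain ⟨x, y, hxy⟩ := hc
  refine ⟨x, ?_⟩
  show (a ^ (2 * t + 1)) ^ x = a
  rw [← zpow_mul, show (2 * t + 1) * x = 1 + (orderOf a : ℤ) * (-y) by linarith, zpow_add, zpow_one,
    zpow_mul, zpow_natCast, pow_orderOf_eq_one, one_zpow, mul_one]

theorem two_split : ∀ (n : ℕ) (j : ℤ), ((2 : ℤ) ^ n ∣ j) ∨ ∃ r < n, ∃ o : ℤ, Odd o ∧ j = 2 ^ r * o := by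
  intro n
  induction n with
  | zero => exact fun j => Or.inl (by simp)
  | succ n ih =>
    intro j
    rcases ih j with ⟨q, rfl⟩ | ⟨r, hr, o, ho, rfl⟩
    · rcases Int.even_or_odd q with ⟨t, rfl⟩ | h
      · exact Or.inl ⟨t, by rw [pow_succ]; ring⟩
      · exact Or.inr ⟨n, by omega, q, h, rfl⟩
    · exact Or.inr ⟨r, by omega, o, ho, rfl⟩

/-- A metacyclic quotient by a central involution which is a power of one generator modulo. -/
theorem step (h2 : IsPGroup 2 S) (hr : Cfsg.SectionalPRankLE 2 2 S) {z a b : S} (hz2 : z * z = 1)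
    (hz1 : z ≠ 1) (hz : ∀ g : S, g * z = z * g) (hgen : Subgroup.closure {a, b, z} = (⊤ : Subgroup S))
    (hc : b * a * b⁻¹ = a ∨ b * a * b⁻¹ = a * z) : Cfsg.IsMetacyclic S := by
  haveI hzn : (Subgroup.zpowers z).Normal := ⟨fun n hn g => by
    obtain ⟨i, rfl⟩ := Subgroup.mem_zpowers_iff.1 hn
    rw [((show Commute g z from hz g).zpow_right i).eq, mul_inv_cancel_right]
    exact zpow_mem (Subgroup.mem_zpowers z) i⟩
  have hzc : ∀ (g : S) (i : ℤ), Commute g (z ^ i) := fun g i => (show Commute g z from hz g).zpow_right i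
  have hzm : ∀ x ∈ Subgroup.zpowers z, x = 1 ∨ x = z := by
    intro x hx
    obtain ⟨i, rfl⟩ := Subgroup.mem_zpowers_iff.1 hx
    rcases Int.even_or_odd i with ⟨t, rfl⟩ | ⟨t, rfl⟩
    · exact Or.inl (by rw [zpow_add, ← (Commute.refl z).mul_zpow, hz2, one_zpow])
    · exact Or.inr (by rw [zpow_add_one, two_mul, zpow_add, ← (Commute.refl z).mul_zpow, hz2, one_zpow, one_mul])
  -- the quotient by the involution is commutative
  have hQ : ∀ g k : S, (g : S ⧸ Subgroup.zpowers z) * k = k * g := by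
    intro g k
    refine comm_of_generators (T := QuotientGroup.mk' (Subgroup.zpowers z) '' {a, b, z}) ?_ ?_ _ _
    · rw [← MonoidHom.map_closure, hgen, Subgroup.map_top_of_surjective _ (QuotientGroup.mk'_surjective _)]
    · have hab : (b : S ⧸ Subgroup.zpowers z) * a = a * b := by
        rw [← QuotientGroup.mk_mul, ← QuotientGroup.mk_mul, eq_comm, QuotientGroup.eq]
        rcases hc with h | h
        · rw [show b * a = a * b by nth_rewrite 2 [← h]; group, inv_mul_cancel]
          exact one_mem _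
        · rw [show b * a = a * b * z by
            rw [mul_assoc a b z, hz b, ← mul_assoc a z b, ← h]; group, inv_mul_cancel_left]
          exact Subgroup.mem_zpowers z
      have hzQ : (z : S ⧸ Subgroup.zpowers z) = 1 := (QuotientGroup.eq_one_iff z).2 (Subgroup.mem_zpowers z)
      rintro _ ⟨x, hx, rfl⟩ _ ⟨y, hy, rfl⟩
      simp only [Set.mem_insert_iff, Set.mem_singleton_iff] at hx hy
      rcases hx with rfl | rfl | rfl <;> rcases hy with rfl | rfl | rfl <;>
        simp only [QuotientGroup.mk'_apply] <;>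
        first | rfl | exact hab | exact hab.symm | rw [hzQ, one_mul, mul_one]
  have hmeta : ∀ x y : S, z ∈ Subgroup.zpowers x → Subgroup.closure {x, y} = (⊤ : Subgroup S) →
      Cfsg.IsMetacyclic S := fun x y hx hxy => isMetacyclic_of_gen hxy (by
    have h : x⁻¹ * (y * x * y⁻¹) ∈ Subgroup.zpowers z := QuotientGroup.eq.1 (by
      rw [QuotientGroup.mk_mul, QuotientGroup.mk_mul, QuotientGroup.mk_inv, hQ y x, mul_inv_cancel_right])
    simpa using mul_mem (Subgroup.mem_zpowers x) (Subgroup.zpowers_le.2 hx h))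
  have hgen' : ∀ x y : S, a ∈ Subgroup.closure {x, y} → b ∈ Subgroup.closure {x, y} →
      z ∈ Subgroup.closure {x, y} → Subgroup.closure {x, y} = (⊤ : Subgroup S) := fun x y ha hb hz' => by
    rw [eq_top_iff, ← hgen, Subgroup.closure_le]
    rintro g (rfl | rfl | rfl) <;> assumption
  have hl : ∀ x y : S, x ∈ Subgroup.closure {x, y} := fun x y => Subgroup.subset_closure (by simp)
  have hrt : ∀ x y : S, y ∈ Subgroup.closure {x, y} := fun x y => Subgroup.subset_closure (by simp)
  have hzp : ∀ {x y g : S}, g ∈ Subgroup.zpowers x → g ∈ Subgroup.closure {x, y} := fun hg =>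
    Subgroup.zpowers_le.2 (hl _ _) hg
  by_cases hza : z ∈ Subgroup.zpowers a
  · exact hmeta a b hza (hgen' a b (hl a b) (hrt a b) (hzp hza))
  by_cases ha1 : a = 1
  · refine isMetacyclic_of_gen (x := b) (y := z) (hgen' b z (ha1 ▸ one_mem _) (hl b z) (hrt b z)) ?_
    rw [← hz b, mul_inv_cancel_right]
    exact Subgroup.mem_zpowers b
  -- the least power of `b` inside `⟨a, z⟩`
  classical
  have hex : ∃ n : ℕ, ∃ j f : ℤ, b ^ 2 ^ n = a ^ j * z ^ f := by
    obtain ⟨m, hm⟩ := IsPGroup.iff_orderOf.1 h2 b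
    exact ⟨m, 0, 0, by rw [← hm, pow_orderOf_eq_one, zpow_zero, zpow_zero, one_mul]⟩
  obtain ⟨j, f, hjf⟩ := Nat.find_spec hex
  have hmin : ∀ m < Nat.find hex, ¬ ∃ j f : ℤ, b ^ 2 ^ m = a ^ j * z ^ f := fun m => Nat.find_min hex
  generalize Nat.find hex = n at hjf hmin
  rcases n with _ | n
  · rw [pow_zero, pow_one] at hjf
    refine isMetacyclic_of_gen (x := a) (y := z) (hgen' a z (hl a z) ?_ (hrt a z)) ?_
    · rw [hjf]
      exact mul_mem (zpow_mem (hl a z) j) (zpow_mem (hrt a z) f)
    · rw [← hz a, mul_inv_cancel_right]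
      exact Subgroup.mem_zpowers a
  rcases Int.even_or_odd j with ⟨k, hk⟩ | hodd
  swap
  · have ha : a ^ j ∈ Subgroup.closure {b, z} := by
      rw [show a ^ j = b ^ 2 ^ (n + 1) * (z ^ f)⁻¹ by rw [hjf, mul_inv_cancel_right]]
      exact mul_mem (pow_mem (hl b z) _) (inv_mem (zpow_mem (hrt b z) f))
    refine isMetacyclic_of_gen (x := b) (y := z)
      (hgen' b z (Subgroup.zpowers_le.2 ha (mem_zpowers_odd h2 a hodd)) (hl b z) (hrt b z)) ?_
    rw [← hz b, mul_inv_cancel_right]
    exact Subgroup.mem_zpowers b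
  subst hk
  -- an involution of `⟨a⟩` centralised by `b`
  have hconj : ∀ i : ℤ, ∃ e ∈ Subgroup.zpowers z, b * a ^ i * b⁻¹ = a ^ i * e := by
    intro i
    rcases hc with h | h
    · exact ⟨1, one_mem _, by rw [← conj_zpow, h, mul_one]⟩
    · exact ⟨z ^ i, zpow_mem (Subgroup.mem_zpowers z) i, by rw [← conj_zpow, h, (show Commute a z from hz a).mul_zpow]⟩
  have hbb : Commute (b * b) a := by
    show b * b * a = a * (b * b)
    have h : b * (b * a * b⁻¹) * b⁻¹ = a := by
      rcases hc with h | h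
      · rw [h, h]
      · rw [h, show b * (a * z) * b⁻¹ = (b * a * b⁻¹) * (b * z * b⁻¹) by group, h, hz b, mul_inv_cancel_right,
          mul_assoc, hz2, mul_one]
    calc b * b * a = (b * (b * a * b⁻¹) * b⁻¹) * (b * b) := by group
      _ = a * (b * b) := by rw [h]
  obtain ⟨u, hua, hu2, hu1, hub⟩ : ∃ u ∈ Subgroup.zpowers a, u * u = 1 ∧ u ≠ 1 ∧
      (Commute b u ∨ a * a = 1) := by
    obtain ⟨m, hm⟩ := IsPGroup.iff_orderOf.1 h2 a
    rcases m with _ | _ | m
    · exact absurd (orderOf_eq_one_iff.1 hm) ha1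
    · exact ⟨a, Subgroup.mem_zpowers a, by rw [← pow_two, show 2 = orderOf a by rw [hm]; rfl, pow_orderOf_eq_one],
        ha1, Or.inr (by rw [← pow_two, show 2 = orderOf a by rw [hm]; rfl, pow_orderOf_eq_one])⟩
    refine ⟨(a * a) ^ 2 ^ m, pow_mem (mul_mem (Subgroup.mem_zpowers a) (Subgroup.mem_zpowers a)) _, ?_, ?_,
      Or.inl ((show Commute b (a * a) from ?_).pow_right _)⟩
    · rw [← pow_two a, ← pow_mul, ← pow_add, ← pow_orderOf_eq_one a, hm]
      congr 1
      ring
    · rw [← pow_two a, ← pow_mul]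
      intro h
      have := Nat.le_of_dvd (by positivity) (hm ▸ orderOf_dvd_of_pow_eq_one h)
      rw [pow_succ, pow_succ] at this
      have : 0 < 2 ^ m := by positivity
      omega
    · show b * (a * a) = a * a * b
      have h : b * a * b⁻¹ * (b * a * b⁻¹) = a * a := by
        rcases hc with h | h
        · rw [h]
        · rw [h, mul_assoc a z, ← mul_assoc z a z, ← hz a, mul_assoc a z z, hz2, mul_one]
      calc b * (a * a) = b * a * b⁻¹ * (b * a * b⁻¹) * b := by group
        _ = a * a * b := by rw [h]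
  have hzu : z ∉ Subgroup.zpowers u := fun h => hza (Subgroup.zpowers_le.2 hua h)
  have huA : ∀ x : S, x ∈ Subgroup.closure {u, z} → ∃ i e : ℤ, x = a ^ i * z ^ e := by
    intro x hx
    have hle : Subgroup.closure {u, z} ≤ Subgroup.zpowers a ⊔ Subgroup.zpowers z := by
      rw [Subgroup.closure_le]
      rintro g (rfl | rfl)
      · exact Subgroup.mem_sup_left hua
      · exact Subgroup.mem_sup_right (Subgroup.mem_zpowers g)
    obtain ⟨_, ⟨i, rfl⟩, _, ⟨e, rfl⟩, rfl⟩ := Subgroup.mem_sup_of_normal_right.1 (hle hx)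
    exact ⟨i, e, rfl⟩
  rcases n with _ | n
  · -- `b ^ 2` in `⟨a, z⟩`
    rw [zero_add, pow_one, pow_two] at hjf
    obtain ⟨t, ht⟩ : ∃ t, t = b * a ^ (-k) := ⟨_, rfl⟩
    obtain ⟨e, he, hek⟩ := hconj (-k)
    obtain ⟨i, rfl⟩ := Subgroup.mem_zpowers_iff.1 he
    have htt : t * t ∈ Subgroup.zpowers z := by
      have e1 : t * t = (b * a ^ (-k) * b⁻¹) * (b * b) * a ^ (-k) := by rw [ht]; group
      rw [e1, hek, hjf, mul_assoc (a ^ (-k)) (z ^ i), mul_assoc (a ^ (-k)), ← mul_assoc (z ^ i),
        (hzc (a ^ (k + k)) i).symm.eq, mul_assoc (a ^ (k + k)), mul_assoc (a ^ (k + k)), ← zpow_add z,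
        (hzc (a ^ (-k)) (i + f)).symm.eq, ← mul_assoc, ← mul_assoc, ← zpow_add, ← zpow_add,
        show -k + (k + k) + -k = 0 by ring, zpow_zero, one_mul]
      exact zpow_mem (Subgroup.mem_zpowers z) _
    have hbt : b = t * a ^ k := by rw [ht, mul_assoc, ← zpow_add, neg_add_cancel, zpow_zero, mul_one]
    rcases hzm _ htt with h1 | h1
    swap
    · have hzt : z ∈ Subgroup.zpowers t := h1 ▸ mul_mem (Subgroup.mem_zpowers t) (Subgroup.mem_zpowers t)
      exact hmeta t a hzt (hgen' t a (hrt t a) (hbt ▸ mul_mem (hl t a) (zpow_mem (hrt t a) k)) (hzp hzt))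
    have htA : t ∉ Subgroup.closure {u, z} := fun h => by
      obtain ⟨i, e, hie⟩ := huA t h
      refine hmin 0 zero_lt_one ⟨i + k, e, ?_⟩
      rw [pow_zero, pow_one, hbt, hie, mul_assoc, (hzc (a ^ k) e).symm.eq, ← mul_assoc, ← zpow_add]
    have hua' : ∀ i : ℤ, Commute u (a ^ i) := fun i => by
      obtain ⟨r, rfl⟩ := Subgroup.mem_zpowers_iff.1 hua
      exact ((Commute.refl a).zpow_zpow r i)
    rcases hub with hbu | haa
    · exact (no_three hr hu2 hz2 h1 (hz u) (show Commute u t from
        ht ▸ hbu.symm.mul_right (hua' _)).eq (hz t).symm hu1 hzu htA).elim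
    by_cases hat : Commute a t
    · have : u ∈ Subgroup.zpowers a := hua
      obtain ⟨r, rfl⟩ := Subgroup.mem_zpowers_iff.1 hua
      exact (no_three hr hu2 hz2 h1 (hz _) (hat.zpow_left r).eq (hz t).symm hu1 hzu htA).elim
    -- dihedral of order eight
    have hcon : t * a * t⁻¹ = a * z := by
      rcases hc with h | h
      · exact absurd (show Commute a t from ht ▸ (show Commute a b from by
          show a * b = b * a
          calc a * b = (b * a * b⁻¹) * b := by rw [h]
            _ = b * a := by group).mul_right ((Commute.refl a).zpow_right _)) hat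
      · rw [ht, show b * a ^ (-k) * a * (b * a ^ (-k))⁻¹ = b * (a ^ (-k) * a * (a ^ (-k))⁻¹) * b⁻¹ by group,
          ((Commute.refl a).zpow_left (-k)).eq, mul_inv_cancel_right, h]
    have hg : a * t * (a * t) = z := by
      calc a * t * (a * t) = a * (t * a * t⁻¹) * (t * t) := by group
        _ = z := by rw [hcon, h1, mul_one, ← mul_assoc, haa, one_mul]
    have hzg : z ∈ Subgroup.zpowers (a * t) := hg ▸ mul_mem (Subgroup.mem_zpowers _) (Subgroup.mem_zpowers _)
    have htm : t ∈ Subgroup.closure {a * t, a} := by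
      simpa using mul_mem (inv_mem (hrt (a * t) a)) (hl (a * t) a)
    exact hmeta (a * t) a hzg (hgen' _ _ (hrt _ a)
      (hbt ▸ mul_mem htm (zpow_mem (hrt _ a) k)) (hzp hzg))
  -- higher powers
  have hB : ∀ (s : ℕ) (i : ℤ), Commute ((b * b) ^ s) (a ^ i) := fun s i => (hbb.zpow_right i).pow_left s
  have hpow : b ^ 2 ^ (n + 2) = ((b * b) ^ 2 ^ n) ^ 2 := by
    rw [← pow_two b, ← pow_mul, ← pow_mul]
    congr 1
    ring
  obtain ⟨t, ht⟩ : ∃ t, t = (b * b) ^ 2 ^ n * a ^ (-k) := ⟨_, rfl⟩
  have htt : t * t = z ^ f := by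
    rw [← pow_two, ht, (hB _ _).mul_pow, ← hpow, hjf, mul_assoc, ← (hzc ((a ^ (-k)) ^ 2) f).eq,
      ← mul_assoc, pow_two, ← zpow_add, ← zpow_add, show k + k + (-k + -k) = 0 by ring, zpow_zero, one_mul]
  rcases hzm _ (zpow_mem (Subgroup.mem_zpowers z) f) with hf | hf
  · have htA : t ∉ Subgroup.closure {u, z} := fun h => by
      obtain ⟨i, e, hie⟩ := huA t h
      refine hmin (n + 1) (by omega) ⟨i + k, e, ?_⟩
      have hb' : b ^ 2 ^ (n + 1) = t * a ^ k := by
        rw [ht, mul_assoc, ← zpow_add, neg_add_cancel, zpow_zero, mul_one, ← pow_two b, ← pow_mul]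
        congr 1
        ring
      rw [hb', hie, mul_assoc, (hzc (a ^ k) e).symm.eq, ← mul_assoc, ← zpow_add]
    obtain ⟨r, rfl⟩ := Subgroup.mem_zpowers_iff.1 hua
    exact (no_three hr hu2 hz2 (htt.trans hf) (hz _)
      (show Commute (a ^ r) t from ht ▸ (hB _ r).symm.mul_right ((Commute.refl a).zpow_zpow r _)).eq
      (hz t).symm hu1 hzu htA).elim
  -- `z` is the product of `b ^ 2 ^ (n + 2)` and a power of `a`
  have hzeq : b ^ 2 ^ (n + 2) * a ^ (-(k + k)) = z := by
    rw [hjf, mul_assoc, ← (hzc (a ^ (-(k + k))) f).eq, ← mul_assoc, ← zpow_add, add_neg_cancel, zpow_zero,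
      one_mul, hf]
  rcases two_split (n + 2) (k + k) with ⟨q, hq⟩ | ⟨r, hrn, o, ho, hro⟩
  · obtain ⟨g, hg⟩ : ∃ g, g = b * a ^ (-q) := ⟨_, rfl⟩
    obtain ⟨e, he, hek⟩ := hconj (-q)
    have hg2 : g * g = (b * b) * (a ^ (-q) * a ^ (-q)) * e := by
      have e1 : g * g = (b * a ^ (-q) * b⁻¹) * (b * b) * a ^ (-q) := by rw [hg]; group
      obtain ⟨i, rfl⟩ := Subgroup.mem_zpowers_iff.1 he
      rw [e1, hek, mul_assoc (a ^ (-q)) (z ^ i), ← (hzc (b * b) i).eq, ← mul_assoc, ← (hbb.zpow_right (-q)).eq,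
        mul_assoc _ (z ^ i), ← (hzc (a ^ (-q)) i).eq, ← mul_assoc, mul_assoc (b * b)]
    have hzg : z ∈ Subgroup.zpowers g := by
      have he2 : e * e = 1 := by rcases hzm e he with rfl | rfl <;> simp [hz2]
      have hce : Commute (b * b * (a ^ (-q) * a ^ (-q))) e := by
        obtain ⟨i, rfl⟩ := Subgroup.mem_zpowers_iff.1 he
        exact hzc _ i
      have h : (g * g) ^ 2 ^ (n + 1) = z := by
        rw [hg2, hce.mul_pow, show e ^ 2 ^ (n + 1) = 1 by rw [pow_succ', pow_mul, pow_two, he2, one_pow], mul_one,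
          ((hbb.zpow_right (-q)).mul_right (hbb.zpow_right (-q))).mul_pow, ← pow_two b, ← pow_mul,
          ← zpow_add, ← zpow_natCast (a ^ (-q + -q)), ← zpow_mul,
          show 2 * 2 ^ (n + 1) = 2 ^ (n + 2) by ring,
          show (-q + -q) * ((2 ^ (n + 1) : ℕ) : ℤ) = -(k + k) by rw [hq]; push_cast; ring]
        exact hzeq
      rw [← h]
      exact pow_mem (mul_mem (Subgroup.mem_zpowers g) (Subgroup.mem_zpowers g)) _
    refine hmeta g a hzg (hgen' g a (hrt g a) ?_ (hzp hzg))
    rw [show b = g * a ^ q by rw [hg, mul_assoc, ← zpow_add, neg_add_cancel, zpow_zero, mul_one]]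
    exact mul_mem (hl g a) (zpow_mem (hrt g a) q)
  · obtain ⟨d, hd⟩ := Nat.exists_eq_add_of_le (show r + 1 ≤ n + 2 by omega)
    obtain ⟨g, hg⟩ : ∃ g, g = (b * b) ^ 2 ^ d * a ^ (-o) := ⟨_, rfl⟩
    have hgr : g ^ 2 ^ r = z := by
      rw [hg, (hB _ _).mul_pow, ← pow_two b, ← pow_mul, ← pow_mul, ← zpow_natCast (a ^ (-o)), ← zpow_mul,
        show 2 * (2 ^ d * 2 ^ r) = 2 ^ (n + 2) by rw [hd]; ring,
        show -o * ((2 ^ r : ℕ) : ℤ) = -(k + k) by rw [hro]; push_cast; ring]
      exact hzeq
    have hzg : z ∈ Subgroup.zpowers g := hgr ▸ pow_mem (Subgroup.mem_zpowers g) _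
    have hao : a ^ o ∈ Subgroup.closure {g, b} := by
      rw [show a ^ o = g⁻¹ * (b * b) ^ 2 ^ d by rw [hg, mul_inv_rev, inv_mul_cancel_right, zpow_neg, inv_inv]]
      exact mul_mem (inv_mem (hl g b)) (pow_mem (mul_mem (hrt g b) (hrt g b)) _)
    exact hmeta g b hzg (hgen' g b (Subgroup.zpowers_le.2 hao (mem_zpowers_odd h2 a ho)) (hrt g b) (hzp hzg))

/-- A generator `a` of the preimage of a cyclic normal subgroup of the quotient by `⟨z⟩`, and `b` a complement. -/
theorem quotient_gens {z : S} [(Subgroup.zpowers z).Normal] (hM : Cfsg.IsMetacyclic (S ⧸ Subgroup.zpowers z)) :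
    ∃ a b : S, Subgroup.closure {a, b, z} = (⊤ : Subgroup S) ∧
      ∃ i e : ℤ, b * a * b⁻¹ * a⁻¹ = a ^ i * z ^ e := by
  obtain ⟨N, hN, hNc, hQc⟩ := hM
  haveI := hN
  obtain ⟨⟨a₀, ha₀⟩, hag⟩ := hNc.exists_generator
  obtain ⟨bb, hbg⟩ := hQc.exists_generator
  obtain ⟨b₀, rfl⟩ := QuotientGroup.mk'_surjective N bb
  obtain ⟨a, rfl⟩ := QuotientGroup.mk'_surjective (Subgroup.zpowers z) a₀
  obtain ⟨b, rfl⟩ := QuotientGroup.mk'_surjective (Subgroup.zpowers z) b₀
  refine ⟨a, b, eq_top_iff.2 fun g _ => ?_, ?_⟩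
  · obtain ⟨r, hr⟩ := Subgroup.mem_zpowers_iff.1
      (hbg (QuotientGroup.mk' N (QuotientGroup.mk' (Subgroup.zpowers z) g)))
    rw [← map_zpow, ← map_zpow] at hr
    have hN' := (QuotientGroup.eq).1 hr
    obtain ⟨i, hi⟩ := Subgroup.mem_zpowers_iff.1 (hag ⟨_, hN'⟩)
    have hi' : (QuotientGroup.mk' (Subgroup.zpowers z) a) ^ i =
        (QuotientGroup.mk' (Subgroup.zpowers z) (b ^ r))⁻¹ * QuotientGroup.mk' (Subgroup.zpowers z) g :=
      congrArg Subtype.val hi
    rw [← map_zpow, ← map_inv, ← map_mul] at hi'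
    obtain ⟨t, ht⟩ := Subgroup.mem_zpowers_iff.1 ((QuotientGroup.eq).1 hi')
    have hz' : z ∈ Subgroup.closure {a, b, z} := Subgroup.subset_closure (by simp)
    rw [show g = b ^ r * a ^ i * z ^ t by rw [ht]; group]
    exact mul_mem (mul_mem (zpow_mem (Subgroup.subset_closure (by simp)) r)
      (zpow_mem (Subgroup.subset_closure (by simp)) i)) (zpow_mem hz' t)
  · have h1 := hN.conj_mem _ ha₀ (QuotientGroup.mk' (Subgroup.zpowers z) b)
    obtain ⟨i, hi⟩ := Subgroup.mem_zpowers_iff.1 (hag ⟨_, mul_mem h1 (inv_mem ha₀)⟩)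
    have hi' : (QuotientGroup.mk' (Subgroup.zpowers z) a) ^ i =
        QuotientGroup.mk' (Subgroup.zpowers z) b * QuotientGroup.mk' (Subgroup.zpowers z) a *
          (QuotientGroup.mk' (Subgroup.zpowers z) b)⁻¹ * (QuotientGroup.mk' (Subgroup.zpowers z) a)⁻¹ :=
      congrArg Subtype.val hi
    rw [← map_inv, ← map_inv, ← map_mul, ← map_mul, ← map_mul, ← map_zpow] at hi'
    obtain ⟨t, ht⟩ := Subgroup.mem_zpowers_iff.1 ((QuotientGroup.eq).1 hi')
    exact ⟨i, t, by rw [ht]; group⟩

omit [Finite S] in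
theorem normal_zpowers_of_central {z : S} (hz : ∀ g : S, g * z = z * g) : (Subgroup.zpowers z).Normal :=
  ⟨fun n hn g => by
    obtain ⟨i, rfl⟩ := Subgroup.mem_zpowers_iff.1 hn
    rw [((show Commute g z from hz g).zpow_right i).eq, mul_inv_cancel_right]
    exact zpow_mem (Subgroup.mem_zpowers z) i⟩

theorem central_of_ne_bot (h2 : IsPGroup 2 S) {R : Subgroup S} [R.Normal] (hR : R ≠ ⊥) :
    ∃ z ∈ R, z * z = 1 ∧ z ≠ 1 ∧ ∀ g : S, g * z = z * g := by
  haveI : Fact (Nat.Prime 2) := ⟨Nat.prime_two⟩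
  obtain ⟨z, hzR, hz1, hz2, hzg⟩ := CfsgLib.Fusion.NormalRankTwo.exists_central_of_lt h2
    (M := (⊥ : Subgroup S)) (N := R) fun h => hR (le_bot_iff.1 h)
  exact ⟨z, hzR, by rw [← pow_two]; exact Subgroup.mem_bot.1 hz2, fun h => hz1 (Subgroup.mem_bot.2 h),
    fun g => commutatorElement_eq_one_iff_mul_comm.1 (Subgroup.mem_bot.1 (hzg g))⟩

omit [Finite S] in
/-- The derived subgroup lies in the normal cyclic subgroup generated by the commutator of two generators. -/
theorem commutator_le_of_gens {a b z : S} (hz : ∀ g : S, g * z = z * g)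
    (hgen : Subgroup.closure {a, b, z} = (⊤ : Subgroup S)) (K : Subgroup S) [K.Normal]
    (hc : b * a * b⁻¹ * a⁻¹ ∈ K) : commutator S ≤ K := by
  have hQ : ∀ g k : S ⧸ K, g * k = k * g := by
    refine comm_of_generators (T := QuotientGroup.mk' K '' {a, b, z}) ?_ ?_
    · rw [← MonoidHom.map_closure, hgen, Subgroup.map_top_of_surjective _ (QuotientGroup.mk'_surjective _)]
    · have hab : (b : S ⧸ K) * a = a * b := by
        have h := (QuotientGroup.eq_one_iff _).2 hc
        rw [QuotientGroup.mk_mul, QuotientGroup.mk_mul, QuotientGroup.mk_mul, QuotientGroup.mk_inv,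
          QuotientGroup.mk_inv, mul_inv_eq_one, mul_inv_eq_iff_eq_mul] at h
        exact h
      have hzQ : ∀ g : S, (g : S ⧸ K) * z = z * g := fun g => by
        rw [← QuotientGroup.mk_mul, hz g, QuotientGroup.mk_mul]
      rintro _ ⟨x, hx, rfl⟩ _ ⟨y, hy, rfl⟩
      simp only [Set.mem_insert_iff, Set.mem_singleton_iff] at hx hy
      rcases hx with rfl | rfl | rfl <;> rcases hy with rfl | rfl | rfl <;>
        simp only [QuotientGroup.mk'_apply] <;>
        first | rfl | exact hab | exact hab.symm | exact hzQ _ | exact (hzQ _).symm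
  rw [commutator_def, Subgroup.commutator_le]
  intro g _ k _
  rw [← QuotientGroup.eq_one_iff, ← QuotientGroup.mk'_apply, map_commutatorElement,
    commutatorElement_eq_one_iff_mul_comm]
  exact hQ _ _

/-- A 2-group of sectional rank at most two is metacyclic. -/
theorem isMetacyclic (N : ℕ) : ∀ {S : Type u} [Group S] [Finite S], Nat.card S = N → IsPGroup 2 S →
    Cfsg.SectionalPRankLE 2 2 S → Cfsg.IsMetacyclic S := by
  induction N using Nat.strong_induction_on with
  | _ N ih =>
    intro S _ _ hN h2 hr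
    haveI : Fact (Nat.Prime 2) := ⟨Nat.prime_two⟩
    rcases subsingleton_or_nontrivial S with hS | hS
    · exact isMetacyclic_of_gen (x := 1) (y := 1) (Subsingleton.elim _ _) (by simp)
    have hmod : ∀ z : S, z * z = 1 → z ≠ 1 → (∀ g : S, g * z = z * g) → ∃ a b : S,
        Subgroup.closure {a, b, z} = (⊤ : Subgroup S) ∧ ∃ i e : ℤ, b * a * b⁻¹ * a⁻¹ = a ^ i * z ^ e := by
      intro z hz2 hz1 hz
      haveI := normal_zpowers_of_central hz
      refine quotient_gens (ih _ ?_ rfl (h2.to_quotient _) (sectional_quotient hr _))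
      rw [← hN, Subgroup.card_eq_card_quotient_mul_card_subgroup (Subgroup.zpowers z)]
      refine lt_mul_of_one_lt_right Nat.card_pos ?_
      rw [Nat.card_zpowers, orderOf_eq_prime (by rw [pow_two, hz2]) hz1]
      norm_num
    by_cases hI : ∃ x ∈ commutator S, x * x ≠ 1 ∨ ∃ g : S, g * x ≠ x * g
    · -- the derived subgroup is not an elementary central subgroup
      obtain ⟨x, hx, hxw⟩ := hI
      obtain ⟨w, hwsq, hw1⟩ : ∃ w : S, ((w = x * x) ∨ ∃ g : S, w = g * x * g⁻¹ * x⁻¹) ∧ w ≠ 1 := by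
        rcases hxw with h | ⟨g, hg⟩
        · exact ⟨_, Or.inl rfl, h⟩
        · exact ⟨_, Or.inr ⟨g, rfl⟩, fun h => hg (mul_inv_eq_iff_eq_mul.1 (mul_inv_eq_one.1 h))⟩
      have hwR : w ∈ Subgroup.normalClosure {w} := Subgroup.subset_normalClosure rfl
      obtain ⟨z, hzR, hz2, hz1, hz⟩ := central_of_ne_bot h2 (R := Subgroup.normalClosure {w})
        fun h => hw1 (Subgroup.mem_bot.1 (h ▸ hwR))
      obtain ⟨a, b, hgen, i, e, hc⟩ := hmod z hz2 hz1 hz
      have hza' : ∀ g : S, Commute g z := hz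
      by_cases hza : z ∈ Subgroup.zpowers a
      · refine isMetacyclic_of_gen (x := a) (y := b) ?_ ?_
        · rw [eq_top_iff, ← hgen, Subgroup.closure_le]
          rintro g (rfl | rfl | rfl)
          · exact Subgroup.subset_closure (by simp)
          · exact Subgroup.subset_closure (by simp)
          · exact Subgroup.zpowers_le.2 (Subgroup.subset_closure (by simp)) hza
        · rw [show b * a * b⁻¹ = (b * a * b⁻¹ * a⁻¹) * a by group, hc]
          exact mul_mem (mul_mem (zpow_mem (Subgroup.mem_zpowers a) i) (zpow_mem hza e)) (Subgroup.mem_zpowers a)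
      exfalso
      have hconj : b * a * b⁻¹ = a ^ (i + 1) * z ^ e := by
        rw [show b * a * b⁻¹ = (b * a * b⁻¹ * a⁻¹) * a by group, hc, mul_assoc,
          ← ((hza' a).zpow_right e).eq, ← mul_assoc, zpow_add_one]
      -- the exponent is even
      obtain ⟨k, rfl⟩ : Even i := by
        by_contra hi
        obtain ⟨t, rfl⟩ := Int.not_even_iff_odd.1 hi
        obtain ⟨m, hm⟩ := IsPGroup.iff_orderOf.1 h2 a
        have ho : orderOf (b * a * b⁻¹) = orderOf a := (SemiconjBy.conj_mk b a).orderOf_eq.symm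
        rcases m with _ | m
        · have ha1 : a = 1 := orderOf_eq_one_iff.1 hm
          subst ha1
          rw [mul_one, mul_inv_cancel, inv_one, one_mul, one_zpow, one_mul] at hc
          have hK : commutator S ≤ ⊥ := commutator_le_of_gens hz hgen ⊥ (by simp)
          have hx1 : x = 1 := Subgroup.mem_bot.1 (hK hx)
          subst hx1
          rcases hxw with h | ⟨g, hg⟩
          · exact h (one_mul 1)
          · exact hg (by simp)
        rcases m with _ | m
        · have haa : a * a = 1 := by rw [← pow_two, show 2 = orderOf a by rw [hm]; rfl, pow_orderOf_eq_one]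
          rw [show 2 * t + 1 + 1 = (t + 1) + (t + 1) by ring, zpow_add, ← (Commute.refl a).mul_zpow, haa,
            one_zpow, one_mul] at hconj
          have ha : a = z ^ e := by
            calc a = b⁻¹ * (b * a * b⁻¹) * b := by group
              _ = z ^ e := by rw [hconj, mul_assoc, ← ((hza' b).zpow_right e).eq, inv_mul_cancel_left]
          rcases Int.even_or_odd e with ⟨r, rfl⟩ | ⟨r, rfl⟩
          · rw [zpow_add, ← (Commute.refl z).mul_zpow, hz2, one_zpow] at ha
            rw [ha, orderOf_one] at hm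
            norm_num at hm
          · rw [zpow_add_one, two_mul, zpow_add, ← (Commute.refl z).mul_zpow, hz2, one_zpow, one_mul] at ha
            exact hza (ha ▸ Subgroup.mem_zpowers a)
        · have h := pow_orderOf_eq_one (b * a * b⁻¹)
          have hlt : (b * a * b⁻¹) ^ 2 ^ (m + 1) = 1 := by
            rw [hconj, ((hza' _).zpow_right e).mul_pow, pow_succ' 2 m, pow_mul (z ^ e), pow_two (z ^ e),
              ← (Commute.refl z).mul_zpow, hz2, one_zpow, one_pow, mul_one,
              show 2 * t + 1 + 1 = (2 : ℕ) * (t + 1) by push_cast; ring, zpow_mul, zpow_natCast, ← zpow_natCast,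
              ← zpow_mul, mul_comm (t + 1), zpow_mul, zpow_natCast, ← pow_mul,
              show 2 * (2 * 2 ^ m) = orderOf a by rw [hm]; ring, pow_orderOf_eq_one, one_zpow]
          have := Nat.le_of_dvd (by positivity) (orderOf_dvd_of_pow_eq_one hlt)
          rw [ho, hm, pow_succ' 2 (m + 1)] at this
          have : 0 < 2 ^ (m + 1) := by positivity
          omega
      -- the normal cyclic subgroup generated by the commutator
      obtain ⟨c, hcdef⟩ : ∃ c, c = b * a * b⁻¹ * a⁻¹ := ⟨_, rfl⟩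
      rw [← hcdef] at hc
      have hca : Commute a c := hc ▸ ((Commute.refl a).zpow_right _).mul_right ((hza' a).zpow_right e)
      have hzk : z ^ (k + k) = 1 := by rw [zpow_add, ← (Commute.refl z).mul_zpow, hz2, one_zpow]
      have hcb : b * c * b⁻¹ = c ^ (k + k + 1) := by
        rw [hc, ← conj_mul, ← conj_zpow, ← conj_zpow, hconj, hz b, mul_inv_cancel_right,
          ((hza' _).zpow_right e).mul_zpow, ((hza' _).zpow_right e).mul_zpow, ← zpow_mul, ← zpow_mul, ← zpow_mul,
          mul_assoc, ← zpow_add]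
        congr 1
        · ring_nf
        · rw [zpow_add z (e * (k + k)) e, show e * (k + k) = (k + k) * e by ring, zpow_mul, hzk, one_zpow,
            one_mul, ← zpow_mul, show e * (k + k + 1) = (k + k) * e + e by ring, zpow_add z ((k + k) * e) e,
            zpow_mul, hzk, one_zpow, one_mul]
      have hCn : (Subgroup.zpowers c).Normal := by
        rw [← Subgroup.normalizer_eq_top_iff, eq_top_iff, ← hgen, Subgroup.closure_le]
        intro g hg
        refine Subgroup.mem_normalizer_fintype fun n hn => ?_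
        obtain ⟨r, rfl⟩ := Subgroup.mem_zpowers_iff.1 hn
        rw [← conj_zpow]
        refine zpow_mem ?_ r
        rcases hg with rfl | rfl | rfl
        · rw [hca.eq, mul_inv_cancel_right]; exact Subgroup.mem_zpowers c
        · rw [hcb]; exact zpow_mem (Subgroup.mem_zpowers c) _
        · rw [← hz c, mul_inv_cancel_right]; exact Subgroup.mem_zpowers c
      have hle : commutator S ≤ Subgroup.zpowers c :=
        commutator_le_of_gens hz hgen _ (hcdef ▸ Subgroup.mem_zpowers c)
      have hDn : (Subgroup.zpowers (c * c)).Normal := ⟨fun n hn g => by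
        obtain ⟨r, rfl⟩ := Subgroup.mem_zpowers_iff.1 hn
        obtain ⟨s, hs⟩ := Subgroup.mem_zpowers_iff.1 (hCn.conj_mem c (Subgroup.mem_zpowers c) g)
        rw [← conj_zpow, ← conj_mul, ← hs, ← (Commute.refl c).mul_zpow]
        exact zpow_mem (zpow_mem (Subgroup.mem_zpowers _) s) r⟩
      have hcca : Subgroup.zpowers (c * c) ≤ Subgroup.zpowers a := by
        rw [Subgroup.zpowers_le, hc, mul_assoc, ← mul_assoc (z ^ e), ← ((hza' _).zpow_right e).eq, mul_assoc,
          ← (Commute.refl z).mul_zpow, hz2, one_zpow, mul_one, ← zpow_add]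
        exact zpow_mem (Subgroup.mem_zpowers a) _
      refine hza (hcca (Subgroup.normalClosure_le_normal (Set.singleton_subset_iff.2 ?_) hzR))
      obtain ⟨r, hr'⟩ := Subgroup.mem_zpowers_iff.1 (hle hx)
      rcases hwsq with rfl | ⟨g, rfl⟩
      · rw [← hr', ← (Commute.refl c).mul_zpow]
        exact zpow_mem (Subgroup.mem_zpowers _) r
      · obtain ⟨s, hs⟩ := Subgroup.mem_zpowers_iff.1 (hCn.conj_mem c (Subgroup.mem_zpowers c) g)
        obtain ⟨q, hq⟩ : ∃ q : ℤ, c ^ s * c⁻¹ = (c * c) ^ q := by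
          rcases Int.even_or_odd s with ⟨q, rfl⟩ | ⟨q, rfl⟩
          · -- an even exponent forces `c = 1`
            obtain ⟨m, hm⟩ := IsPGroup.iff_orderOf.1 h2 c
            rcases m with _ | m
            · exact ⟨0, by simp [orderOf_eq_one_iff.1 hm]⟩
            exfalso
            have h1 : (g * c * g⁻¹) ^ 2 ^ m = 1 := by
              rw [← hs, ← two_mul, zpow_mul, zpow_two, ← zpow_natCast, ← zpow_mul, mul_comm q, zpow_mul,
                zpow_natCast, ← pow_two c, ← pow_mul, ← pow_succ', ← hm, pow_orderOf_eq_one, one_zpow]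
            have := Nat.le_of_dvd (by positivity) (orderOf_dvd_of_pow_eq_one h1)
            rw [← (SemiconjBy.conj_mk g c).orderOf_eq, hm, pow_succ] at this
            have : 0 < 2 ^ m := by positivity
            omega
          · exact ⟨q, by rw [zpow_add_one, mul_inv_cancel_right, two_mul, zpow_add, (Commute.refl c).mul_zpow]⟩
        rw [← hr', ← conj_zpow, ← hs, ← inv_zpow, ← ((Commute.refl c).zpow_left s).inv_right.mul_zpow, hq]
        exact zpow_mem (zpow_mem (Subgroup.mem_zpowers _) q) r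
    · -- central elementary derived subgroup
      push Not at hI
      rcases eq_or_ne (commutator S) ⊥ with hC | hC
      · have hcm : ∀ g k : S, g * k = k * g := fun g k => by
          refine commutatorElement_eq_one_iff_mul_comm.1 (Subgroup.mem_bot.1 (hC ▸ ?_))
          rw [commutator_def]
          exact Subgroup.commutator_mem_commutator trivial trivial
        obtain ⟨z, -, hz2, hz1, hz⟩ := central_of_ne_bot h2 (R := (⊤ : Subgroup S)) top_ne_bot
        obtain ⟨a, b, hgen, -⟩ := hmod z hz2 hz1 hz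
        exact step h2 hr hz2 hz1 hz hgen (Or.inl (by rw [hcm b a, mul_inv_cancel_right]))
      obtain ⟨z, hzC, hz2, hz1, hz⟩ := central_of_ne_bot h2 hC
      obtain ⟨a, b, hgen, -⟩ := hmod z hz2 hz1 hz
      obtain ⟨c, hc⟩ : ∃ c, c = b * a * b⁻¹ * a⁻¹ := ⟨_, rfl⟩
      have hcC : c ∈ commutator S := by
        rw [hc, commutator_def]
        exact Subgroup.commutator_mem_commutator trivial trivial
      obtain ⟨hcc, hccen⟩ := hI c hcC
      haveI := normal_zpowers_of_central hccen
      obtain ⟨r, hrz⟩ := Subgroup.mem_zpowers_iff.1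
        (commutator_le_of_gens hz hgen (Subgroup.zpowers c) (hc ▸ Subgroup.mem_zpowers c) hzC)
      refine step h2 hr hz2 hz1 hz hgen ?_
      rcases Int.even_or_odd r with ⟨t, rfl⟩ | ⟨t, rfl⟩
      · rw [zpow_add, ← (Commute.refl c).mul_zpow, hcc, one_zpow] at hrz
        exact absurd hrz.symm hz1
      · rw [zpow_add_one, two_mul, zpow_add, ← (Commute.refl c).mul_zpow, hcc, one_zpow, one_mul] at hrz
        refine Or.inr ?_
        rw [hz a, ← hrz, hc, inv_mul_cancel_right]

end CfsgLib.TwoGroups.SectionalTwo
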