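import Mathlib.GroupTheory.Perm.Basic
import Mathlib.GroupTheory.Sylow
import Mathlib.GroupTheory.Nilpotent
import Mathlib.GroupTheory.Solvable
import Mathlib.GroupTheory.IsPerfect
import Mathlib.Data.ZMod.Basic
import Mathlib.GroupTheory.SpecificGroups.Alternating
import Mathlib.Data.Finite.Perm
import Mathlib.Tactic.Ring
import Mathlib.Tactic.LinearCombination

/-!
# Symmetries of an anisotropic quadratic map to a four group

A perfect group acting on an elementary 2-group and fixing an anisotropic quadratic map with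
values in a four group acts trivially.
-/

set_option autoImplicit false

namespace CfsgLib.TwoGroups.AnisotropicMap

open Subgroup
open scoped commutatorElement

theorem zmod_two_add_self : ∀ a : ZMod 2, a + a = 0 := by decide

/-- A homomorphism from a perfect group to a solvable group is trivial. -/
theorem hom_eq_one {D H : Type*} [Group D] [Group.IsPerfect D] [Group H] [Group.IsSolvable H]
    (φ : D →* H) (d : D) : φ d = 1 := by
  have h : ∀ n, φ d ∈ derivedSeries H n := by
    intro n
    induction n generalizing d with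
    | zero => exact Subgroup.mem_top _
    | succ n ih =>
      have hd : d ∈ ⁅(⊤ : Subgroup D), (⊤ : Subgroup D)⁆ := by
        rw [← commutator_def, Group.IsPerfect.commutator_eq_top]; exact Subgroup.mem_top _
      have h2 : φ d ∈ (⁅(⊤ : Subgroup D), (⊤ : Subgroup D)⁆).map φ := Subgroup.mem_map_of_mem φ hd
      rw [map_commutator] at h2
      refine commutator_mono ?_ ?_ h2 <;> rintro _ ⟨x, -, rfl⟩ <;> exact ih x
  obtain ⟨n, hn⟩ := (Group.isSolvable_def H).1 ‹_›
  exact Subgroup.mem_bot.1 (hn ▸ h n)

/-- A group of order dividing `40` is solvable. -/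
theorem solvable_of_card_dvd_forty {H : Type*} [Group H] [Finite H] (h : Nat.card H ∣ 40) :
    Group.IsSolvable H := by
  haveI : Fact (Nat.Prime 5) := ⟨by decide⟩
  haveI : Fact (Nat.Prime 2) := ⟨Nat.prime_two⟩
  obtain ⟨P⟩ : Nonempty (Sylow 5 H) := inferInstance
  have hidx : (P : Subgroup H).index ∣ 8 := by
    have h1 : (P : Subgroup H).index ∣ 40 := (Subgroup.index_dvd_card _).trans h
    refine (Nat.Coprime.dvd_of_dvd_mul_left ?_ (show (P : Subgroup H).index ∣ 5 * 8 by simpa using h1))
    exact ((Nat.Prime.coprime_iff_not_dvd (by decide)).2 P.not_dvd_index).symm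
  have hone : Nat.card (Sylow 5 H) = 1 := by
    have h1 : Nat.card (Sylow 5 H) ∣ 8 := P.card_dvd_index.trans hidx
    have h2 := card_sylow_modEq_one 5 H
    have hle := Nat.le_of_dvd (by norm_num) h1
    unfold Nat.ModEq at h2
    interval_cases hc : Nat.card (Sylow 5 H) <;> first | rfl | omega
  haveI : Subsingleton (Sylow 5 H) := (Nat.card_eq_one_iff_unique.1 hone).1
  haveI hn : (P : Subgroup H).Normal := P.normal_of_subsingleton
  haveI : Group.IsNilpotent (P : Subgroup H) := P.2.isNilpotent
  obtain ⟨k, -, hk⟩ := (Nat.dvd_prime_pow Nat.prime_two).1 (show (P : Subgroup H).index ∣ 2 ^ 3 from hidx)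
  haveI : Group.IsNilpotent (H ⧸ (P : Subgroup H)) :=
    (IsPGroup.of_card (p := 2) (n := k) (by rw [← Subgroup.index_eq_card, hk])).isNilpotent
  exact solvable_of_ker_le_range (G' := (P : Subgroup H)) (G'' := H ⧸ (P : Subgroup H))
    (P : Subgroup H).subtype (QuotientGroup.mk' (P : Subgroup H))
    (by rw [QuotientGroup.ker_mk', Subgroup.range_subtype])

/-! ### Polynomial degree of functions on a group -/

section Degree

variable {Q : Type*} [Group Q]

/-- The finite difference. -/
def diff (h : Q) (f : Q → ZMod 2) : Q → ZMod 2 := fun x => f (x * h) + f x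

/-- Functions of degree at most `n`. -/
def DegLE : ℕ → (Q → ZMod 2) → Prop
  | 0, f => ∀ x y, f x = f y
  | n + 1, f => ∀ h, DegLE n (diff h f)

theorem DegLE.succ : ∀ {n : ℕ} {f : Q → ZMod 2}, DegLE n f → DegLE (n + 1) f
  | 0, f, hf => fun h x y => by
    show f (x * h) + f x = f (y * h) + f y
    rw [hf (x * h) (y * h), hf x y]
  | n + 1, f, hf => fun h => DegLE.succ (hf h)

theorem DegLE.mono {n m : ℕ} (h : n ≤ m) {f : Q → ZMod 2} (hf : DegLE n f) : DegLE m f := by
  induction h with
  | refl => exact hf
  | step _ ih => exact ih.succ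

theorem DegLE.add : ∀ {n : ℕ} {f g : Q → ZMod 2}, DegLE n f → DegLE n g → DegLE n (f + g)
  | 0, f, g, hf, hg => fun x y => by simp only [Pi.add_apply]; rw [hf x y, hg x y]
  | n + 1, f, g, hf, hg => fun h => by
    have : diff h (f + g) = diff h f + diff h g := funext fun x => by
      simp only [diff, Pi.add_apply]; ring
    rw [this]
    exact (hf h).add (hg h)

theorem DegLE.mul : ∀ (s : ℕ) {a b : ℕ} {f g : Q → ZMod 2}, a + b = s → DegLE a f → DegLE b g →
    DegLE s (f * g) := by
  intro s
  induction s using Nat.strong_induction_on with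
  | _ s ih =>
    intro a b f g hs hf hg
    rcases a with _ | a <;> rcases b with _ | b
    · obtain rfl : s = 0 := by omega
      intro x y; simp only [Pi.mul_apply]; rw [hf x y, hg x y]
    · obtain rfl : s = b + 1 := by omega
      intro h
      have : diff h (f * g) = f * diff h g := funext fun x => by
        simp only [diff, Pi.mul_apply]; rw [hf (x * h) x]; ring
      rw [this]
      exact ih b (by omega) (by omega) hf (hg h)
    · obtain rfl : s = a + 1 := by omega
      intro h
      have : diff h (f * g) = diff h f * g := funext fun x => by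
        simp only [diff, Pi.mul_apply]; rw [hg (x * h) x]; ring
      rw [this]
      exact ih a (by omega) (by omega) (hf h) hg
    · obtain rfl : s = a + 1 + b + 1 := by omega
      intro h
      have : diff h (f * g) = diff h f * g + f * diff h g + diff h f * diff h g := funext fun x => by
        simp only [diff, Pi.mul_apply, Pi.add_apply]
        linear_combination (-1 : ZMod 2) * zmod_two_add_self (f x * g x)
          - zmod_two_add_self (f (x * h) * g x) - zmod_two_add_self (f x * g (x * h))
      rw [this]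
      refine ((ih (a + 1 + b) (by omega) (by omega) (hf h) hg).add
        (ih (a + 1 + b) (by omega) (by omega) hf (hg h))).add ?_
      exact (ih (a + b) (by omega) rfl (hf h) (hg h)).mono (by omega)

open scoped Classical in
/-- A function of small degree sums to zero over a large subgroup. -/
theorem sum_eq_zero [Fintype Q] (hexp : ∀ x : Q, x * x = 1) : ∀ (n : ℕ) (f : Q → ZMod 2),
    DegLE n f → ∀ U : Subgroup Q, 2 ^ n < Nat.card U → ∑ x : U, f x = 0 := by
  classical
  haveI : Fact (Nat.Prime 2) := ⟨Nat.prime_two⟩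
  intro n
  induction n with
  | zero =>
    intro f hf U hU
    obtain ⟨k, hk⟩ : ∃ k, Nat.card U = 2 ^ k :=
      (IsPGroup.to_subgroup (fun g => ⟨1, by simpa [pow_two] using hexp g⟩) U).exists_card_eq
    rw [show ∑ x : U, f x = ∑ _x : U, f 1 from Finset.sum_congr rfl fun x _ => hf _ _, Finset.sum_const, Finset.card_univ,
      ← Nat.card_eq_fintype_card, hk]
    have hk0 : k ≠ 0 := by rintro rfl; omega
    rw [nsmul_eq_mul, Nat.cast_pow, show ((2 : ℕ) : ZMod 2) = 0 from rfl, zero_pow hk0, zero_mul]
  | succ n ih =>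
    intro f hf U hU
    obtain ⟨k, hk⟩ : ∃ k, Nat.card U = 2 ^ k :=
      (IsPGroup.to_subgroup (fun g => ⟨1, by simpa [pow_two] using hexp g⟩) U).exists_card_eq
    have hk0 : k ≠ 0 := by rintro rfl; rw [hk] at hU; have := Nat.one_le_two_pow (n := n + 1); omega
    obtain ⟨U₀, hU₀⟩ := Sylow.exists_subgroup_card_pow_prime (G := U) 2 (n := k - 1)
      (hk ▸ pow_dvd_pow 2 (Nat.sub_le k 1))
    have hidx : U₀.index = 2 := by
      have h1 := U₀.card_mul_index
      rw [hU₀, hk] at h1
      have h2 : (2 : ℕ) ^ k = 2 ^ (k - 1) * 2 := by rw [← pow_succ, Nat.sub_add_cancel (by omega)]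
      exact Nat.eq_of_mul_eq_mul_left (Nat.two_pow_pos (k - 1)) (h1.trans h2)
    obtain ⟨h, hh⟩ : ∃ h : U, h ∉ U₀ := by
      by_contra hall
      push Not at hall
      rw [show U₀ = ⊤ from eq_top_iff.2 fun x _ => hall x, Subgroup.index_top] at hidx
      omega
    have hsplit : ∀ x : U, x ∉ U₀ → x * h ∈ U₀ := fun x hx => by
      have := Subgroup.mul_mem_iff_of_index_two hidx (a := x) (b := h)
      tauto
    rw [← Finset.sum_filter_add_sum_filter_not Finset.univ (fun x : U => x ∈ U₀)]
    have hhh : h * h = 1 := Subtype.ext (hexp h)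
    have h1 : ∑ x ∈ Finset.univ.filter (fun x : U => ¬ x ∈ U₀), f x =
        ∑ x ∈ Finset.univ.filter (fun x : U => x ∈ U₀), f (x * h : U) := by
      refine Finset.sum_nbij' (fun x => x * h) (fun x => x * h) (fun x hx => ?_) (fun x hx => ?_)
        (fun x _ => by simp [mul_assoc, hhh]) (fun x _ => by simp [mul_assoc, hhh])
        (fun x _ => by simp [mul_assoc, hexp])
      · simpa using hsplit x (by simpa using hx)
      · simp only [Finset.mem_filter, Finset.mem_univ, true_and] at hx ⊢
        intro hxh
        exact hh ((Subgroup.mul_mem_cancel_left _ hx).1 hxh)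
    rw [h1, ← Finset.sum_add_distrib]
    have h2 := ih (diff (h : Q) f) (hf h) (U₀.map U.subtype) (by
      rw [Nat.card_congr (Subgroup.equivMapOfInjective U₀ _ U.subtype_injective).toEquiv.symm, hU₀]
      rw [hk] at hU
      have := (Nat.pow_lt_pow_iff_right (show 1 < 2 by omega)).1 hU
      exact Nat.pow_lt_pow_right (by omega) (by omega))
    rw [← h2]
    refine Finset.sum_bij (fun x hx => ⟨(x : Q), x, (Finset.mem_filter.1 hx).2, rfl⟩)
      (fun _ _ => Finset.mem_univ _) (fun x _ y _ hxy => Subtype.ext (Subtype.mk.inj hxy))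
      (fun y _ => ?_) (fun x _ => ?_)
    · obtain ⟨z, hz, hzy⟩ := y.2
      exact ⟨z, by simpa using hz, Subtype.ext hzy⟩
    · show f x + f (x * h : U) = f ((x : Q) * h) + f x
      rw [Subgroup.coe_mul]; ring

end Degree

/-! ### The action -/

/-- A perfect group of automorphisms acting trivially on a subgroup and its cosets is trivial. -/
theorem trivial_of_stabilizes {D Q : Type*} [Group D] [Group.IsPerfect D] [Group Q] (φ : D →* MulAut Q)
    (W : Subgroup Q) [Group.IsSolvable W] (h1 : ∀ d, ∀ w ∈ W, φ d w = w)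
    (h2 : ∀ d x, x⁻¹ * φ d x ∈ W) : ∀ d x, φ d x = x := by
  intro d x
  let c : D →* W := MonoidHom.mk' (fun e => ⟨x⁻¹ * φ e x, h2 e x⟩) fun a b => Subtype.ext (by
    show x⁻¹ * φ (a * b) x = (x⁻¹ * φ a x) * (x⁻¹ * φ b x)
    have hb : φ a (x⁻¹ * φ b x) = x⁻¹ * φ b x := h1 a _ (h2 b x)
    rw [map_mul φ, MulAut.mul_apply]
    conv_rhs => rw [← hb, map_mul, map_inv]
    group)
  exact inv_mul_eq_one.1 (congrArg Subtype.val (hom_eq_one c d)) |>.symm

/-- Permutations of few points. -/
theorem solvable_perm {α : Type*} [Finite α] (h : Nat.card α ≤ 3) : Group.IsSolvable (Equiv.Perm α) := by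
  classical
  haveI := Fintype.ofFinite α
  have hS : ∀ m, m ≤ 3 → Group.IsSolvable (Equiv.Perm (Fin m)) := by
    intro m hm
    haveI : Fact (Nat.Prime 3) := ⟨Nat.prime_three⟩
    interval_cases m
    · exact isSolvable_of_comm fun a b => Subsingleton.elim _ _
    · exact isSolvable_of_comm fun a b => Subsingleton.elim _ _
    · exact isSolvable_of_comm fun a b => by revert a b; decide
    · haveI : Group.IsSolvable (alternatingGroup (Fin 3)) :=
        isSolvable_of_comm fun a b => by revert a b; decide
      exact solvable_of_ker_le_range (G' := alternatingGroup (Fin 3))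
        (alternatingGroup (Fin 3)).subtype (Equiv.Perm.sign : Equiv.Perm (Fin 3) →* ℤˣ)
        (by rw [Subgroup.range_subtype]; exact le_of_eq (alternatingGroup_eq_sign_ker).symm)
  have hc : Fintype.card α ≤ 3 := by rwa [← Nat.card_eq_fintype_card]
  haveI := hS _ hc
  exact solvable_of_solvable_injective
    (f := ((Fintype.equivFin α).permCongrHom : Equiv.Perm α ≃* _).toMonoidHom)
    (Equiv.permCongrHom _).injective

/-- An invariant subgroup of order and index at most four kills the action. -/
theorem trivial_of_small {D Q : Type*} [Group D] [Group.IsPerfect D] [Group Q] [Finite Q]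
    (hexp : ∀ x : Q, x * x = 1) (φ : D →* MulAut Q) (W : Subgroup Q)
    (hW : ∀ d, ∀ w ∈ W, φ d w ∈ W) (h4 : Nat.card W ≤ 4) (h4' : W.index ≤ 4) :
    ∀ d x, φ d x = x := by
  classical
  haveI hWn : W.Normal := ⟨fun w hw g => by
    have hc : g * w = w * g := by
      have := hexp (g * w)
      rw [mul_eq_one_iff_eq_inv, mul_inv_rev, inv_eq_of_mul_eq_one_right (hexp w),
        inv_eq_of_mul_eq_one_right (hexp g)] at this
      exact this
    rw [hc, mul_inv_cancel_right]; exact hw⟩
  haveI : Group.IsSolvable W := isSolvable_of_comm fun a b => Subtype.ext (by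
    have := hexp ((a : Q) * b)
    rw [mul_eq_one_iff_eq_inv, mul_inv_rev, inv_eq_of_mul_eq_one_right (hexp b),
      inv_eq_of_mul_eq_one_right (hexp a)] at this
    exact this)
  -- permutations of the nonidentity elements of a small group
  have hperm : ∀ {G : Type _} [Group G] [Finite G], Nat.card G ≤ 4 → ∀ ψ : D →* MulAut G, ∀ d g, ψ d g = g := by
    intro G _ _ hG ψ d g
    let π : D →* Equiv.Perm {g : G // g ≠ 1} := MonoidHom.mk'
      (fun e => (ψ e).toEquiv.subtypeEquiv fun g => by simp) fun a b => by
        ext g; show ψ (a * b) g = ψ a (ψ b g); rw [map_mul, MulAut.mul_apply]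
    haveI : Group.IsSolvable (Equiv.Perm {g : G // g ≠ 1}) := solvable_perm (by
      haveI := Fintype.ofFinite G
      rw [Nat.card_eq_fintype_card, Fintype.card_subtype_compl, Fintype.card_subtype_eq,
        ← Nat.card_eq_fintype_card]
      omega)
    by_cases hg : g = 1
    · rw [hg, map_one]
    · exact congrArg (fun σ : Equiv.Perm {g : G // g ≠ 1} => (σ ⟨g, hg⟩ : G)) (hom_eq_one π d)
  have hWle : ∀ d w, w ∈ W → φ d⁻¹ w ∈ W := fun d w hw => hW d⁻¹ w hw
  let ψW : D →* MulAut W := MonoidHom.mk'
    (fun d => { toFun := fun w => ⟨φ d w, hW d w w.2⟩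
                invFun := fun w => ⟨φ d⁻¹ w, hWle d w w.2⟩
                left_inv := fun w => Subtype.ext (by simp [map_inv])
                right_inv := fun w => Subtype.ext (by simp [map_inv])
                map_mul' := fun a b => Subtype.ext (map_mul (φ d) _ _) }) fun a b => by
      ext w; simp
  have h1 : ∀ d, ∀ w ∈ W, φ d w = w := fun d w hw =>
    congrArg Subtype.val (hperm h4 ψW d ⟨w, hw⟩)
  let ψQ : D →* MulAut (Q ⧸ W) := MonoidHom.mk'
    (fun d => QuotientGroup.congr W W (φ d) (by
      refine le_antisymm ?_ fun w hw => ⟨w, hw, h1 d w hw⟩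
      rintro _ ⟨w, hw, rfl⟩; exact hW d w hw)) fun a b => by
      ext x
      obtain ⟨x, rfl⟩ := QuotientGroup.mk_surjective x
      simp [QuotientGroup.congr_mk]
  refine trivial_of_stabilizes φ W h1 fun d x => ?_
  have h := hperm (G := Q ⧸ W) (by rw [← Subgroup.index_eq_card]; exact h4') ψQ d (QuotientGroup.mk x)
  exact QuotientGroup.eq.1 h.symm

variable {D Q : Type*} [Group D] [Group.IsPerfect D] [Group Q] [Finite Q]

/-- The main theorem. -/
theorem eq_id (hexp : ∀ x : Q, x * x = 1) (q : Q → ZMod 2 × ZMod 2)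
    (hbil : ∀ x y z : Q, q (x * y * z) + q (x * z) + q (y * z) + q (x * y) + q x + q y + q z = 0)
    (hani : ∀ x, q x = 0 → x = 1) (hq1 : q 1 = 0) (φ : D →* MulAut Q) (hφ : ∀ d x, q (φ d x) = q x) :
    ∀ d x, φ d x = x := by
  classical
  haveI := Fintype.ofFinite Q
  haveI : Fact (Nat.Prime 2) := ⟨Nat.prime_two⟩
  have hQp : IsPGroup 2 Q := fun g => ⟨1, by simpa [pow_two] using hexp g⟩
  have hcomm : ∀ x y : Q, x * y = y * x := fun x y => by
    have := hexp (x * y)
    rw [mul_eq_one_iff_eq_inv, mul_inv_rev, inv_eq_of_mul_eq_one_right (hexp y),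
      inv_eq_of_mul_eq_one_right (hexp x)] at this
    exact this
  have h2 : ∀ a : ZMod 2, a + a = 0 := zmod_two_add_self
  have h22 : ∀ a : ZMod 2 × ZMod 2, a + a = 0 := fun a => Prod.ext (h2 _) (h2 _)
  -- the three forms
  let K : Fin 3 → (ZMod 2 × ZMod 2) →+ ZMod 2 := ![AddMonoidHom.fst _ _, AddMonoidHom.snd _ _,
    AddMonoidHom.fst _ _ + AddMonoidHom.snd _ _]
  let b : Fin 3 → Q → Q → ZMod 2 := fun i x y => K i (q (x * y) + q x + q y)
  have bsymm : ∀ i x y, b i x y = b i y x := fun i x y => by
    simp only [b]; rw [hcomm x y]; congr 1; abel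
  have badd : ∀ i x y z, b i (x * y) z = b i x z + b i y z := fun i x y z => by
    simp only [b]
    rw [← map_add]; congr 1
    have h := hbil x y z
    have e : q (x * y * z) + q (x * y) + q z =
        (q (x * y * z) + q (x * z) + q (y * z) + q (x * y) + q x + q y + q z)
        + (q (x * z) + q (y * z) + q x + q y) + ((q z + q z)) + (q z + q z) := by
      linear_combination (norm := abel) -h22 (q (x * z)) - h22 (q (y * z)) - h22 (q x) - h22 (q y)
        - h22 (q z) - h22 (q z)
    rw [e, h, h22]
    linear_combination (norm := abel) -h22 (q z)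
  have badd' : ∀ i x y z, b i z (x * y) = b i z x + b i z y := fun i x y z => by
    rw [bsymm, badd, bsymm i x, bsymm i y]
  have bone : ∀ i z, b i 1 z = 0 := fun i z => by
    have h := badd i 1 1 z
    rw [one_mul] at h
    simpa using h
  have bself : ∀ i x, b i x x = 0 := fun i x => by
    simp only [b, hexp, hq1, zero_add, h22, map_zero]
  have bφ : ∀ i d x y, b i (φ d x) (φ d y) = b i x y := fun i d x y => by
    simp only [b]; rw [← map_mul, hφ, hφ, hφ]
  -- degrees
  have hdeg : ∀ i, DegLE 2 (fun x => 1 + K i (q x)) := by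
    intro i h k x y
    show diff k (diff h _) x = diff k (diff h _) y
    have key : ∀ x, diff k (diff h (fun x => 1 + K i (q x))) x = b i k h := fun x => by
      simp only [diff]
      have e := badd i x k h
      simp only [b, map_add] at e ⊢
      linear_combination e + 2 * h2 1 + h2 (K i (q (x * h))) + h2 (K i (q x))
    rw [key, key]
  have hU : ∀ (i : Fin 3) (U : Subgroup Q), 8 ≤ Nat.card U → ∃ x : U, x ≠ 1 ∧ K i (q x) = 0 := by
    intro i U hU
    by_contra hall
    push Not at hall
    have h := sum_eq_zero hexp 2 _ (hdeg i) U (by omega)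
    rw [Finset.sum_eq_single (1 : U) (fun x _ hx => ?_) (by simp)] at h
    · simp [hq1] at h
    · have := hall x hx
      have hz : ∀ a : ZMod 2, a ≠ 0 → 1 + a = 0 := by decide
      exact hz _ this
  -- radicals
  let R : Fin 3 → Subgroup Q := fun i =>
    { carrier := {x | ∀ y, b i x y = 0}
      one_mem' := fun y => bone i y
      mul_mem' := fun {x y} hx hy z => by rw [badd, hx z, hy z, add_zero]
      inv_mem' := fun {x} hx y => by rw [inv_eq_of_mul_eq_one_right (hexp x)]; exact hx y }
  let ker : Fin 3 → Q → Subgroup Q := fun i z =>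
    { carrier := {x | b i z x = 0}
      one_mem' := by show b i z 1 = 0; rw [bsymm, bone]
      mul_mem' := fun {x y} hx hy => by
        show b i z (x * y) = 0
        rw [badd', show b i z x = 0 from hx, show b i z y = 0 from hy, add_zero]
      inv_mem' := fun {x} hx => by
        show b i z x⁻¹ = 0
        rw [inv_eq_of_mul_eq_one_right (hexp x)]; exact hx }
  have hRinv : ∀ i d x, x ∈ R i → φ d x ∈ R i := fun i d x hx y => by
    obtain ⟨y, rfl⟩ := (φ d).surjective y
    rw [bφ]; exact hx y
  -- size bound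
  have h16 : Nat.card Q ≤ 16 := by
    by_contra hbig
    obtain ⟨k, hk⟩ := hQp.exists_card_eq
    have hf : DegLE 4 ((fun x => 1 + K 0 (q x)) * fun x => 1 + K 1 (q x)) :=
      DegLE.mul 4 rfl (hdeg 0) (hdeg 1)
    have h := sum_eq_zero hexp 4 _ hf ⊤ (by rw [Subgroup.card_top]; omega)
    rw [Finset.sum_eq_single (1 : (⊤ : Subgroup Q)) (fun x _ hx => ?_) (by simp)] at h
    · simp [hq1] at h
    · have hne : q x ≠ 0 := fun h0 => hx (Subtype.ext (hani x h0))
      have key : ∀ a : ZMod 2 × ZMod 2, a ≠ 0 → (1 + a.1) * (1 + a.2) = 0 := by decide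
      exact key _ hne
  obtain ⟨k, hk⟩ := hQp.exists_card_eq
  have hk4 : k ≤ 4 := (Nat.pow_le_pow_iff_right (show 1 < 2 by omega)).1 (show 2 ^ k ≤ 2 ^ 4 by omega)
  by_cases hsmall : k ≤ 2
  · refine trivial_of_small hexp φ ⊤ (fun _ _ _ => mem_top _) ?_ (by simp)
    rw [Subgroup.card_top, hk]
    exact (Nat.pow_le_pow_right two_pos hsmall).trans (by norm_num)
  have h8 : 8 ≤ Nat.card Q := by rw [hk]; exact (show 8 = 2 ^ 3 from rfl) ▸ Nat.pow_le_pow_right two_pos (by omega)
  -- a form with proper radical, or a linear form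
  by_cases hlin : ∃ i, R i = ⊤
  · obtain ⟨i, hi⟩ := hlin
    let W : Subgroup Q :=
      { carrier := {x | K i (q x) = 0}
        one_mem' := by simp [hq1]
        mul_mem' := fun {x y} hx hy => by
          have h0 : b i x y = 0 := (hi ▸ mem_top x : x ∈ R i) y
          simp only [b, map_add, Set.mem_setOf_eq] at h0 hx hy ⊢
          rwa [hx, hy, add_zero, add_zero] at h0
        inv_mem' := fun {x} hx => by rwa [inv_eq_of_mul_eq_one_right (hexp x)] }
    have hidx : W.index ≤ 2 := by
      rw [Subgroup.index_eq_card]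
      have hinj : Function.Injective (fun z : Q ⧸ W => Quotient.liftOn' z (fun x => K i (q x))
          (fun x y hxy => by
            show K i (q x) = K i (q y)
            have hm : K i (q (x⁻¹ * y)) = 0 := QuotientGroup.leftRel_apply.1 hxy
            have h0 : b i (x : Q) (x⁻¹ * y) = 0 := (hi ▸ mem_top x : x ∈ R i) _
            simp only [b, map_add, mul_inv_cancel_left, hm, add_zero] at h0
            exact ((eq_neg_of_add_eq_zero_right h0).trans (ZMod.neg_eq_self_mod_two _)))) := by
        rintro ⟨x⟩ ⟨y⟩ hxy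
        refine QuotientGroup.eq.2 ?_
        show K i (q (x⁻¹ * y)) = 0
        have h0 : b i (x : Q) (x⁻¹ * y) = 0 := (hi ▸ mem_top x : x ∈ R i) _
        have hxy' : K i (q x) = K i (q y) := hxy
        simp only [b, map_add, mul_inv_cancel_left, ← hxy'] at h0
        linear_combination h0 - h2 (K i (q x))
      exact (Nat.card_le_card_of_injective _ hinj).trans (by simp)
    refine trivial_of_small hexp φ W (fun d x hx => by show K i (q (φ d x)) = 0; rwa [hφ]) ?_
      (hidx.trans (by norm_num))
    by_contra hW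
    obtain ⟨j, hj⟩ := (hQp.to_subgroup W).exists_card_eq
    have h8W : 8 ≤ Nat.card W := by
      rw [hj] at hW ⊢
      have : 3 ≤ j := by
        by_contra hlt
        have : 2 ^ j ≤ 2 ^ 2 := Nat.pow_le_pow_right two_pos (by omega)
        omega
      exact (show 8 = 2 ^ 3 from rfl) ▸ Nat.pow_le_pow_right two_pos this
    obtain ⟨j', hj'⟩ : ∃ j' : Fin 3, ∀ a : ZMod 2 × ZMod 2, K i a = 0 → K j' a = 0 → a = 0 := by
      fin_cases i
      · exact ⟨1, by decide⟩
      · exact ⟨0, by decide⟩
      · exact ⟨0, by decide⟩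
    obtain ⟨x, hx1, hx0⟩ := hU j' W h8W
    exact hx1 (Subtype.ext (hani x (hj' _ x.2 hx0)))
  push Not at hlin
  -- complements of a hyperbolic pair
  have hdec : ∀ i, ∃ P : Subgroup Q, R i ≤ P ∧ P.index = 4 ∧
      ∀ w ∈ P, (∀ y ∈ P, b i w y = 0) → w ∈ R i := by
    intro i
    obtain ⟨x, y, hxy⟩ : ∃ x y, b i x y = 1 := by
      by_contra hall
      push Not at hall
      refine hlin i (eq_top_iff.2 fun x _ y => ?_)
      have h01 : ∀ a : ZMod 2, a ≠ 1 → a = 0 := by decide
      exact h01 _ (hall x y)
    refine ⟨ker i x ⊓ ker i y, fun w hw => ?_, ?_, fun w hw hwP z => ?_⟩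
    · exact ⟨(bsymm i x w).trans (hw x), (bsymm i y w).trans (hw y)⟩
    · let f : Q →* Multiplicative (ZMod 2 × ZMod 2) := MonoidHom.mk'
        (fun z => Multiplicative.ofAdd (b i x z, b i y z)) fun a c => by
          show Multiplicative.ofAdd _ = Multiplicative.ofAdd _
          rw [badd', badd']; rfl
      have hf : f.ker = ker i x ⊓ ker i y := by
        ext z
        simp only [MonoidHom.mem_ker, f, MonoidHom.mk'_apply, Subgroup.mem_inf]
        constructor
        · intro h; exact ⟨(Prod.ext_iff.1 (Multiplicative.ofAdd.injective h)).1, (Prod.ext_iff.1 (Multiplicative.ofAdd.injective h)).2⟩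
        · rintro ⟨h1, h2⟩; exact congrArg Multiplicative.ofAdd (Prod.ext h1 h2)
      have hs : Function.Surjective f := by
        intro m
        have e1 : f y = Multiplicative.ofAdd ((1 : ZMod 2), 0) :=
          congrArg Multiplicative.ofAdd (Prod.ext hxy (bself i y))
        have e2 : f x = Multiplicative.ofAdd ((0 : ZMod 2), 1) :=
          congrArg Multiplicative.ofAdd (Prod.ext (bself i x) ((bsymm i y x).trans hxy))
        have h01 : ∀ a : ZMod 2 × ZMod 2, a = 0 ∨ a = (1, 0) ∨ a = (0, 1) ∨ a = (1, 0) + (0, 1) := by decide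
        rcases h01 (Multiplicative.toAdd m) with h | h | h | h
        · exact ⟨1, by rw [map_one]; exact (congrArg Multiplicative.ofAdd h).symm⟩
        · exact ⟨y, e1.trans (congrArg Multiplicative.ofAdd h).symm⟩
        · exact ⟨x, e2.trans (congrArg Multiplicative.ofAdd h).symm⟩
        · exact ⟨y * x, by rw [map_mul, e1, e2]; exact (congrArg Multiplicative.ofAdd h).symm⟩
      rw [← hf, Subgroup.index_ker, MonoidHom.range_eq_top.2 hs, Subgroup.card_top,
        Nat.card_eq_fintype_card, Fintype.card_multiplicative, Fintype.card_prod, ZMod.card]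
    · have hwx : b i x w = 0 := hw.1
      have hwy : b i y w = 0 := hw.2
      -- project `z` into the complement
      set s := z * x ^ (b i y z).val * y ^ (b i x z).val with hs
      have bpow : ∀ u t (c : ZMod 2), b i u (t ^ c.val) = c * b i u t := fun u t c => by
        obtain rfl | rfl : c = 0 ∨ c = 1 := by revert c; decide
        · simp [bsymm i u 1, bone]
        · simp [show (1 : ZMod 2).val = 1 from rfl]
      have hsP : s ∈ ker i x ⊓ ker i y := by
        constructor
        · show b i x s = 0
          rw [hs, badd', badd', bpow, bpow, bself, hxy, mul_zero, mul_one, add_zero, h2]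
        · show b i y s = 0
          rw [hs, badd', badd', bpow, bpow, bself, bsymm i y x, hxy, mul_zero, mul_one, add_zero, h2]
      have h := hwP s hsP
      rw [hs, badd', badd', bpow, bpow, bsymm i w x, bsymm i w y, hwx, hwy, mul_zero, mul_zero,
        add_zero, add_zero] at h
      exact h
  have hRsmall : ∀ i, Nat.card (R i) * 4 ∣ 16 := fun i => by
    obtain ⟨P, hP, hidx, -⟩ := hdec i
    refine (Nat.mul_dvd_mul_right (Subgroup.card_dvd_of_le hP) 4).trans ?_
    rw [← hidx, Subgroup.card_mul_index, hk]
    exact pow_dvd_pow 2 hk4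
  by_cases hrad : ∃ i, R i ≠ ⊥
  · obtain ⟨i, hi⟩ := hrad
    obtain ⟨P, hP, hidx, hPR⟩ := hdec i
    have hPcard : Nat.card P ≤ 4 := by
      have := P.card_mul_index
      rw [hidx, hk] at this
      have h' : 2 ^ k ≤ 2 ^ 4 := Nat.pow_le_pow_right two_pos hk4
      omega
    -- the complement is the radical
    have hPeq : P ≤ R i := by
      obtain ⟨r, hr, hr1⟩ : ∃ r ∈ R i, r ≠ 1 := by
        by_contra hall
        push Not at hall
        exact hi ((eq_bot_iff_forall _).2 hall)
      intro w hw
      refine hPR w hw fun y hy => ?_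
      by_contra hne
      have hy1 : y ≠ 1 := fun e => hne (by rw [e, bsymm, bone])
      have hw1 : w ≠ 1 := fun e => hne (by rw [e, bone])
      have hwy : w ≠ y := fun e => hne (by rw [e, bself])
      have hwy1 : w * y ≠ 1 := fun e => hwy (by
        rw [eq_inv_of_mul_eq_one_left e, inv_eq_of_mul_eq_one_right (hexp y)])
      -- five distinct elements in a group of order at most four
      have hr' : ∀ z, b i r z = 0 := hr
      have hrw : r ≠ w := fun e => hne (by rw [← e]; exact hr' y)
      have hry : r ≠ y := fun e => hne (by rw [bsymm, ← e]; exact hr' w)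
      have hrwy : r ≠ w * y := fun e => hne (by
        have := hr' y
        rwa [e, badd, bself, add_zero] at this)
      have hwyw : w * y ≠ w := fun e => hy1 (mul_eq_left.1 e)
      have hwyy : w * y ≠ y := fun e => hw1 (mul_eq_right.1 e)
      let g : Fin 5 → P := ![1, ⟨w, hw⟩, ⟨y, hy⟩, ⟨w * y, P.mul_mem hw hy⟩, ⟨r, hP hr⟩]
      have hg : Function.Injective g := by
        intro a c hac
        have := congrArg Subtype.val hac
        fin_cases a <;> fin_cases c <;>
          first
            | rfl
            | exfalso; simp [g, hy1, hw1, hwy, hwy1, hr1, hrw, hry, hrwy, hwyw, hwyy,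
                hy1.symm, hw1.symm, hwy.symm, hwy1.symm, hr1.symm, hrw.symm, hry.symm,
                hrwy.symm, hwyw.symm, hwyy.symm] at this
      have := Nat.card_le_card_of_injective g hg
      rw [Nat.card_eq_fintype_card, Fintype.card_fin] at this
      omega
    refine trivial_of_small hexp φ (R i) (hRinv i) ?_ ?_
    · exact le_trans (Subgroup.card_le_of_le hP) hPcard
    · exact le_trans (Nat.le_of_dvd (by omega) (hidx ▸ Subgroup.index_dvd_of_le hPeq)) le_rfl
  push Not at hrad
  -- all forms nondegenerate: a spread of five lines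
  have hk' : k = 4 := by
    obtain ⟨P, -, hidx, hPR⟩ := hdec 0
    by_contra hne
    have hk3 : k = 3 := by omega
    have hPc : Nat.card P = 2 := by
      have := P.card_mul_index
      rw [hidx, hk, hk3] at this
      omega
    obtain ⟨w, hw, hw1⟩ : ∃ w ∈ P, w ≠ 1 := by
      by_contra hall
      push Not at hall
      rw [(eq_bot_iff_forall P).2 hall, Subgroup.card_bot] at hPc
      omega
    have hR := hPR w hw fun y hy => by
      obtain rfl | rfl : y = 1 ∨ y = w := by
        by_contra hc
        push Not at hc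
        let g : Fin 3 → P := ![1, ⟨w, hw⟩, ⟨y, hy⟩]
        have hg : Function.Injective g := by
          intro a c hac
          have := congrArg Subtype.val hac
          fin_cases a <;> fin_cases c <;>
            first
              | rfl
              | exfalso; simp [g, hw1, hw1.symm, hc.1, hc.1.symm, hc.2, hc.2.symm] at this
        have := Nat.card_le_card_of_injective g hg
        rw [Nat.card_eq_fintype_card, Fintype.card_fin] at this
        omega
      · rw [bsymm, bone]
      · exact bself 0 y
    rw [hrad 0, Subgroup.mem_bot] at hR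
    exact hw1 hR
  subst hk'
  let L : Q → Subgroup Q := fun v => ker 0 v ⊓ ker 1 v
  have b2 : ∀ x y, b 2 x y = b 0 x y + b 1 x y := fun x y => rfl
  have hLcard : ∀ v, v ≠ 1 → Nat.card (L v) = 4 := by
    intro v hv
    let f : Q →* Multiplicative (ZMod 2 × ZMod 2) := MonoidHom.mk'
      (fun z => Multiplicative.ofAdd (b 0 v z, b 1 v z)) fun a c => by
        show Multiplicative.ofAdd _ = Multiplicative.ofAdd _
        rw [badd', badd']; rfl
    have hne : ∀ i, ∃ z, b i v z = 1 := fun i => by
      by_contra hall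
      push Not at hall
      have : v ∈ R i := fun z => by
        have h01 : ∀ a : ZMod 2, a ≠ 1 → a = 0 := by decide
        exact h01 _ (hall z)
      rw [hrad i, Subgroup.mem_bot] at this
      exact hv this
    have hs : f.range = ⊤ := by
      obtain ⟨z₀, h0⟩ := hne 0
      obtain ⟨z₁, h1⟩ := hne 1
      obtain ⟨z₂, h2'⟩ := hne 2
      rw [b2] at h2'
      have key : ∀ (H : AddSubgroup (ZMod 2 × ZMod 2)) (a c e : ZMod 2 × ZMod 2), a ∈ H → c ∈ H → e ∈ H →
          a.1 = 1 → c.2 = 1 → e.1 + e.2 = 1 → ∀ m, m ∈ H := by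
        intro H a c e ha hc he h1 h2 h3 m
        have hh : ∀ a c e m : ZMod 2 × ZMod 2, a.1 = 1 → c.2 = 1 → e.1 + e.2 = 1 →
            m = 0 ∨ m = a ∨ m = c ∨ m = e ∨ m = a + c ∨ m = a + e ∨ m = c + e := by decide
        rcases hh a c e m h1 h2 h3 with rfl | rfl | rfl | rfl | rfl | rfl | rfl
        exacts [H.zero_mem, ha, hc, he, H.add_mem ha hc, H.add_mem ha he, H.add_mem hc he]
      rw [eq_top_iff]
      intro m _
      exact key (Subgroup.toAddSubgroup f.range) _ _ _ ⟨z₀, rfl⟩ ⟨z₁, rfl⟩ ⟨z₂, rfl⟩ h0 h1 h2'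
        (Multiplicative.toAdd m)
    have hf : f.ker = L v := by
      ext z
      simp only [MonoidHom.mem_ker, f, MonoidHom.mk'_apply, L, Subgroup.mem_inf]
      constructor
      · intro h; exact ⟨(Prod.ext_iff.1 (Multiplicative.ofAdd.injective h)).1, (Prod.ext_iff.1 (Multiplicative.ofAdd.injective h)).2⟩
      · rintro ⟨h1, h2⟩; exact congrArg Multiplicative.ofAdd (Prod.ext h1 h2)
    have h := f.ker.card_mul_index
    rw [Subgroup.index_ker, hs, Subgroup.card_top, hk, hf, Nat.card_eq_fintype_card (α := Multiplicative _),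
      Fintype.card_multiplicative, Fintype.card_prod, ZMod.card] at h
    omega
  have hLself : ∀ v, v ∈ L v := fun v => ⟨bself 0 v, bself 1 v⟩
  -- lines are totally isotropic
  have hLiso : ∀ v, v ≠ 1 → ∀ u ∈ L v, ∀ w ∈ L v, ∀ i, b i u w = 0 := by
    intro v hv u hu w hw i
    have hall : ∀ i, ∀ z ∈ L v, b i v z = 0 := fun i z hz => by
      fin_cases i
      · exact hz.1
      · exact hz.2
      · show b 2 v z = 0
        rw [b2, hz.1, hz.2, add_zero]
    by_cases hu1 : u = 1
    · rw [hu1, bone]
    by_cases huv : u = v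
    · rw [huv]; exact hall i w hw
    have hw' : w = 1 ∨ w = v ∨ w = u ∨ w = v * u := by
      by_contra hc
      push Not at hc
      let g : Fin 5 → L v := ![1, ⟨v, hLself v⟩, ⟨u, hu⟩, ⟨v * u, (L v).mul_mem (hLself v) hu⟩, ⟨w, hw⟩]
      have hvu : v * u ≠ 1 := fun e => huv (by
        rw [eq_inv_of_mul_eq_one_left e, inv_eq_of_mul_eq_one_right (hexp u)])
      have hvuv : v * u ≠ v := fun e => hu1 (mul_eq_left.1 e)
      have hvuu : v * u ≠ u := fun e => hv (mul_eq_right.1 e)
      have hg : Function.Injective g := by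
        intro a c hac
        have := congrArg Subtype.val hac
        fin_cases a <;> fin_cases c <;>
          first
            | rfl
            | exfalso; simp [g, hv, hu1, huv, hvu, hvuv, hvuu, hc.1, hc.2.1, hc.2.2.1, hc.2.2.2,
                hv.symm, Ne.symm hu1, Ne.symm huv, hvu.symm, hvuv.symm, hvuu.symm, hc.1.symm,
                hc.2.1.symm, hc.2.2.1.symm, hc.2.2.2.symm] at this
      have := Nat.card_le_card_of_injective g hg
      rw [hLcard v hv, Nat.card_eq_fintype_card, Fintype.card_fin] at this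
      omega
    rcases hw' with e | e | e | e
    · rw [e, bsymm, bone]
    · rw [e, bsymm]; exact hall i u hu
    · rw [e]; exact bself i u
    · rw [e, badd', bself, bsymm, hall i u hu, add_zero]
  have hLq : ∀ v, v ≠ 1 → ∀ u ∈ L v, ∀ w ∈ L v, q u = q w → u = w := by
    intro v hv u hu w hw huw
    have h0 := hLiso v hv u hu w hw 0
    have h1 := hLiso v hv u hu w hw 1
    have hz : q (u * w) = 0 := by
      simp only [b, huw, add_assoc, h22, add_zero] at h0 h1
      exact Prod.ext h0 h1
    have := hani _ hz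
    rw [eq_inv_of_mul_eq_one_left this, inv_eq_of_mul_eq_one_right (hexp w)]
  have hLeq : ∀ v u, v ≠ 1 → u ≠ 1 → u ∈ L v → L u = L v := by
    intro v u hv hu huv
    refine (Subgroup.eq_of_le_of_card_ge (fun z hz => ?_) (by rw [hLcard u hu, hLcard v hv])).symm
    exact ⟨hLiso v hv u huv z hz 0, hLiso v hv u huv z hz 1⟩
  set c : ZMod 2 × ZMod 2 := (0, 1) with hc
  let S := {v : Q // q v = c}
  have hSne : ∀ v : S, (v : Q) ≠ 1 := fun v e => by
    have := v.2; rw [e, hq1] at this; exact absurd this (by decide)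
  have hLsurj : ∀ v, v ≠ 1 → ∃ u ∈ L v, q u = c := by
    intro v hv
    let f : L v → ZMod 2 × ZMod 2 := fun u => q u
    have hf : Function.Injective f := fun a e h => Subtype.ext (hLq v hv a a.2 e e.2 h)
    have hb : Function.Bijective f := (Nat.bijective_iff_injective_and_card f).2
      ⟨hf, by rw [hLcard v hv, Nat.card_eq_fintype_card, Fintype.card_prod, ZMod.card]⟩
    obtain ⟨u, hu⟩ := hb.2 c
    exact ⟨u, u.2, hu⟩
  choose pt hpt hqpt using hLsurj
  have hS5 : Nat.card S = 5 := by
    let e : {v : Q // v ≠ 1} → S := fun v => ⟨pt v.1 v.2, hqpt v.1 v.2⟩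
    have hfib : ∀ s : S, Nat.card {v : {v : Q // v ≠ 1} // e v = s} = 3 := by
      intro s
      have heq : {v : {v : Q // v ≠ 1} // e v = s} ≃ {u : L (s : Q) // u ≠ 1} :=
        { toFun := fun v => ⟨⟨v.1.1, by
              have h1 : pt v.1.1 v.1.2 = s := congrArg Subtype.val v.2
              have hm := hpt v.1.1 v.1.2
              rw [h1] at hm
              rw [hLeq _ _ v.1.2 (hSne s) hm]
              exact hLself _⟩, fun e => v.1.2 (congrArg Subtype.val e)⟩
          invFun := fun u => ⟨⟨u.1.1, fun e => u.2 (Subtype.ext e)⟩, Subtype.ext (by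
              have hu1 : (u.1.1 : Q) ≠ 1 := fun e => u.2 (Subtype.ext e)
              have hLu := hLeq _ _ (hSne s) hu1 u.1.2
              exact hLq s (hSne s) _ (le_of_eq hLu (hpt _ hu1)) s (hLself _) ((hqpt _ hu1).trans s.2.symm))⟩
          left_inv := fun v => rfl
          right_inv := fun u => rfl }
      rw [Nat.card_congr heq]
      haveI := Fintype.ofFinite (L (s : Q))
      rw [Nat.card_eq_fintype_card, Fintype.card_subtype_compl, Fintype.card_subtype_eq,
        ← Nat.card_eq_fintype_card, hLcard _ (hSne s)]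
    have h1 : Nat.card {v : Q // v ≠ 1} = 3 * Nat.card S := by
      rw [← Nat.card_congr (Equiv.sigmaFiberEquiv e), Nat.card_sigma, Finset.sum_congr rfl
        (fun s _ => hfib s), Finset.sum_const, Finset.card_univ, smul_eq_mul, mul_comm,
        Nat.card_eq_fintype_card (α := S)]
    have h15 : Nat.card {v : Q // v ≠ 1} = 15 := by
      rw [Nat.card_eq_fintype_card, Fintype.card_subtype_compl, Fintype.card_subtype_eq,
        ← Nat.card_eq_fintype_card, hk]
      rfl
    omega
  have hLφ : ∀ (d : D) v u, u ∈ L v → φ d u ∈ L (φ d v) := fun d v u hu =>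
    ⟨(bφ 0 d v u).trans hu.1, (bφ 1 d v u).trans hu.2⟩
  have hfixline : ∀ d v, v ≠ 1 → φ d v = v → ∀ u ∈ L v, φ d u = u := fun d v hv hd u hu =>
    hLq v hv _ (by have := hLφ d v u hu; rwa [hd] at this) u hu (hφ d u)
  -- two fixed points give a trivial action
  have htwo : ∀ d, ∀ s t : S, s ≠ t → φ d s = s → φ d t = t → φ d = 1 := by
    intro d s t hst hs ht
    let m : L (s : Q) × L (t : Q) → Q := fun p => p.1 * p.2
    have hm : Function.Injective m := by
      rintro ⟨a, a'⟩ ⟨e, e'⟩ h
      have hh : (e : Q)⁻¹ * a = (e' : Q) * (a' : Q)⁻¹ := by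
        rw [inv_mul_eq_iff_eq_mul, ← mul_assoc, eq_mul_inv_iff_mul_eq]
        exact h
      have hone : (e : Q)⁻¹ * a = 1 := by
        by_contra hne
        have h1 : (e : Q)⁻¹ * a ∈ L (s : Q) := (L _).mul_mem ((L _).inv_mem e.2) a.2
        have h2 : (e : Q)⁻¹ * a ∈ L (t : Q) := hh ▸ (L _).mul_mem e'.2 ((L _).inv_mem a'.2)
        have hst' : L (s : Q) = L (t : Q) :=
          (hLeq _ _ (hSne s) hne h1).symm.trans (hLeq _ _ (hSne t) hne h2)
        exact hst (Subtype.ext (hLq _ (hSne t) _ (hst' ▸ hLself _) _ (hLself _) (s.2.trans t.2.symm)))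
      have hea : e = a := Subtype.ext (inv_mul_eq_one.1 hone)
      have hea' : a' = e' := Subtype.ext (by
        have : (a : Q) * a' = e * e' := h
        rw [hea] at this
        exact mul_left_cancel this)
      rw [hea, hea']
    have hb : Function.Bijective m := (Nat.bijective_iff_injective_and_card m).2
      ⟨hm, by rw [Nat.card_prod, hLcard _ (hSne s), hLcard _ (hSne t), hk]; rfl⟩
    refine MulEquiv.ext fun x => ?_
    obtain ⟨⟨a, a'⟩, rfl⟩ := hb.2 x
    show φ d ((a : Q) * a') = (a : Q) * a'
    rw [map_mul, hfixline d _ (hSne s) hs a a.2, hfixline d _ (hSne t) ht a' a'.2]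
  -- the permutations of the five points
  let π : φ.range →* Equiv.Perm S := MonoidHom.mk'
    (fun g => (g : MulAut Q).toEquiv.subtypeEquiv fun v => by
      obtain ⟨d, hd⟩ := g.2
      show q v = c ↔ q ((g : MulAut Q) v) = c
      rw [← hd, hφ]) fun g g' => by ext v; rfl
  have hπinj : Function.Injective π := by
    rw [injective_iff_map_eq_one]
    intro g hg
    obtain ⟨d, hd⟩ := g.2
    have hfix : ∀ s : S, φ d s = s := fun s => by
      rw [hd]; exact congrArg (fun σ : Equiv.Perm S => (σ s : Q)) hg
    obtain ⟨s, t, hst⟩ : ∃ s t : S, s ≠ t := by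
      haveI : Nontrivial S := Finite.one_lt_card_iff_nontrivial.1 (by omega)
      exact exists_pair_ne S
    exact Subtype.ext (hd.symm.trans (htwo d s t hst (hfix s) (hfix t)))
  haveI : Finite (MulAut Q) := Finite.of_injective (fun f : MulAut Q => (f : Q → Q)) DFunLike.coe_injective
  have hno3 : ¬ 3 ∣ Nat.card φ.range := by
    intro h3
    haveI : Fact (Nat.Prime 3) := ⟨Nat.prime_three⟩
    obtain ⟨g, hg⟩ := exists_prime_orderOf_dvd_card' 3 h3
    obtain ⟨d, hd⟩ := g.2
    have hg1 : g ≠ 1 := fun e => by simp [e] at hg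
    letI : MulAction (Subgroup.zpowers g) S := MulAction.compHom S (π.comp (Subgroup.zpowers g).subtype)
    have hz : IsPGroup 3 (Subgroup.zpowers g) := IsPGroup.of_card (n := 1) (by rw [Nat.card_zpowers, hg, pow_one])
    have hmod := hz.card_modEq_card_fixedPoints S
    rw [hS5] at hmod
    have h2f : 1 < Nat.card (MulAction.fixedPoints (Subgroup.zpowers g) S) := by
      unfold Nat.ModEq at hmod
      omega
    haveI := Finite.one_lt_card_iff_nontrivial.1 h2f
    obtain ⟨⟨s, hs⟩, ⟨t, ht⟩, hst⟩ := exists_pair_ne (MulAction.fixedPoints (Subgroup.zpowers g) S)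
    have fixd : ∀ s : S, s ∈ MulAction.fixedPoints (Subgroup.zpowers g) S → φ d s = s := fun s hs => by
      rw [hd]
      exact congrArg Subtype.val (hs ⟨g, Subgroup.mem_zpowers g⟩)
    exact hg1 (Subtype.ext (hd.symm.trans
      (htwo d s t (fun e => hst (Subtype.ext e)) (fixd s hs) (fixd t ht))))
  have hdvd : Nat.card φ.range ∣ 3 * 40 := by
    have h := Subgroup.card_dvd_of_injective π hπinj
    rw [Nat.card_perm, hS5] at h
    exact h
  haveI := solvable_of_card_dvd_forty
    ((Nat.prime_three.coprime_iff_not_dvd.2 hno3).symm.dvd_of_dvd_mul_left hdvd)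
  intro d x
  have h := hom_eq_one φ.rangeRestrict d
  exact congrArg (fun g : φ.range => (g : MulAut Q) x) h

end CfsgLib.TwoGroups.AnisotropicMap
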