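import Mathlib

/-!
# The wreath product of the dihedral group of order eight by a group of order two

The explicit model, its Sylow embedding into `S₈`, and the finite facts about it.
-/

set_option autoImplicit false

namespace CfsgLib.TwoGroups.DihedralWreath

open DihedralGroup

/-- The dihedral group of order eight. -/
abbrev D := DihedralGroup 4

/-- Interchanging the factors. -/
def swapAut : Multiplicative (ZMod 2) →* MulAut (D × D) :=
  MonoidHom.mk' (fun s => if s = 1 then 1 else MulEquiv.prodComm) (fun s s' => by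
    have hc : ∀ s : Multiplicative (ZMod 2), s = 1 ∨ s = Multiplicative.ofAdd 1 := by decide
    rcases hc s with rfl | rfl <;> rcases hc s' with rfl | rfl
    · simp
    · simp
    · simp
    · rw [if_pos (by decide), if_neg (by decide)]
      exact MulEquiv.ext fun x => rfl)

/-- `D₈ wr 2`. -/
abbrev W := (D × D) ⋊[swapAut] Multiplicative (ZMod 2)

instance : Fintype W := Fintype.ofEquiv _ SemidirectProduct.equivProd.symm

/-- A pair in the base. -/
def base (p q : D) : W := ⟨(p, q), 1⟩

/-- The involution interchanging the factors. -/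
def tau : W := ⟨1, Multiplicative.ofAdd 1⟩

/-- `⟨z₁, z₂⟩`. -/
def IsC (w : W) : Prop := w.right = 1 ∧ (w.left.1 = 1 ∨ w.left.1 = r 2) ∧ (w.left.2 = 1 ∨ w.left.2 = r 2)

instance : DecidablePred IsC := fun w => by unfold IsC; infer_instance

/-- One of the two four-groups of `D`. -/
def fourMem (c : ZMod 4) (d : D) : Prop := d = 1 ∨ d = r 2 ∨ d = sr c ∨ d = sr (c + 2)

instance (c : ZMod 4) : DecidablePred (fourMem c) := fun d => by unfold fourMem; infer_instance

/-- The elementary abelian normal subgroups of order sixteen. -/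
def IsV (c : ZMod 4) (w : W) : Prop := w.right = 1 ∧ fourMem c w.left.1 ∧ fourMem c w.left.2

instance (c : ZMod 4) : DecidablePred (IsV c) := fun w => by unfold IsV; infer_instance

theorem fourMem_mul : ∀ c : ZMod 4, ∀ d d' : D, fourMem c d → fourMem c d' → fourMem c (d * d') := by
  decide +kernel

theorem fourMem_inv : ∀ c : ZMod 4, ∀ d : D, fourMem c d → d⁻¹ = d := by
  decide +kernel

theorem right_eq_one {w : W} (h : w.right = 1) : w = base w.left.1 w.left.2 :=
  SemidirectProduct.ext rfl h

theorem base_mul (p q p' q' : D) : base p q * base p' q' = base (p * p') (q * q') := by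
  refine SemidirectProduct.ext ?_ rfl
  show (p, q) * swapAut 1 (p', q') = _
  rw [map_one]; rfl

theorem base_inv (p q : D) : (base p q)⁻¹ = base p⁻¹ q⁻¹ :=
  inv_eq_of_mul_eq_one_right (by rw [base_mul, mul_inv_cancel, mul_inv_cancel]; rfl)

/-- `IsV c` as a subgroup. -/
def Vsub (c : ZMod 4) : Subgroup W where
  carrier := {w | IsV c w}
  one_mem' := ⟨rfl, Or.inl rfl, Or.inl rfl⟩
  mul_mem' := by
    intro a b ha hb
    rw [right_eq_one ha.1, right_eq_one hb.1, base_mul]
    exact ⟨rfl, fourMem_mul c _ _ ha.2.1 hb.2.1, fourMem_mul c _ _ ha.2.2 hb.2.2⟩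
  inv_mem' := by
    intro a ha
    rw [right_eq_one ha.1, base_inv, fourMem_inv c _ ha.2.1, fourMem_inv c _ ha.2.2]
    exact ⟨rfl, ha.2.1, ha.2.2⟩

theorem mem_Vsub {c : ZMod 4} {w : W} : w ∈ Vsub c ↔ IsV c w := Iff.rfl

theorem center_cases : ∀ w : W, (∀ v : W, w * v = v * w) → w = 1 ∨ w = base (r 2) (r 2) := by
  decide +kernel

theorem z_central : ∀ v : W, base (r 2) (r 2) * v = v * base (r 2) (r 2) := by decide +kernel

theorem candidates : ∀ v : W, v * v = 1 → (∀ u : W, v * (u * v * u⁻¹) = u * v * u⁻¹ * v) →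
    IsV 0 v ∨ IsV 1 v := by
  decide +kernel

theorem card_isV : ∀ c : ZMod 4, (Finset.univ.filter (IsV c)).card = 16 := by decide +kernel

theorem isC_central : ∀ w : W, IsC w → ∀ p q : D, w * base p q = base p q * w := by decide +kernel

theorem isC_of_central : ∀ w : W, w.right = 1 → (∀ p q : D, w * base p q = base p q * w) → IsC w := by
  decide +kernel

theorem isC_sq : ∀ p q : D, IsC (base p q * base p q) := by decide +kernel

/-- The swap of the two four-groups of `D`. -/
def sigma : D → D
  | r i => r (-i)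
  | sr i => sr (1 - i)

theorem sigma_mul : ∀ d d' : D, sigma (d * d') = sigma d * sigma d' := by decide +kernel

theorem words : ∀ d : D, d = 1 ∨ d = sr 0 ∨ d = sr 1 ∨ d = sr 0 * sr 1 ∨ d = sr 1 * sr 0 ∨
    d = sr 0 * sr 1 * sr 0 ∨ d = sr 1 * sr 0 * sr 1 ∨ d = sr 0 * sr 1 * (sr 0 * sr 1) := by
  decide +kernel

/-- The embedding of `D` into the permutations of a square. -/
def deltaFun : D → Equiv.Perm (ZMod 4)
  | r i => ⟨fun x => x + i, fun x => x - i, fun x => by simp, fun x => by simp⟩
  | sr i => ⟨fun x => -i - x, fun x => -i - x, fun x => by simp, fun x => by simp⟩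

theorem deltaFun_mul : ∀ d d' : D, ∀ x : ZMod 4, deltaFun (d * d') x = deltaFun d (deltaFun d' x) := by
  decide +kernel

/-- The embedding of `D` as a homomorphism. -/
def delta : D →* Equiv.Perm (ZMod 4) :=
  MonoidHom.mk' deltaFun fun d d' => Equiv.ext (deltaFun_mul d d')

/-- Interchanging the two squares. -/
def swapPerm : Multiplicative (ZMod 2) →* Equiv.Perm (ZMod 4 ⊕ ZMod 4) :=
  MonoidHom.mk' (fun s => if s = 1 then 1 else Equiv.sumComm _ _) (fun s s' => by
    have hc : ∀ s : Multiplicative (ZMod 2), s = 1 ∨ s = Multiplicative.ofAdd 1 := by decide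
    rcases hc s with rfl | rfl <;> rcases hc s' with rfl | rfl
    · simp
    · simp
    · simp
    · rw [if_pos (by decide), if_neg (by decide)]
      exact Equiv.ext fun x => by cases x <;> rfl)

/-- The action on two squares. -/
def perm : W →* Equiv.Perm (ZMod 4 ⊕ ZMod 4) :=
  SemidirectProduct.lift ((Equiv.Perm.sumCongrHom _ _).comp (delta.prodMap delta)) swapPerm fun s => by
    have hc : ∀ s : Multiplicative (ZMod 2), s = 1 ∨ s = Multiplicative.ofAdd 1 := by decide
    rcases hc s with rfl | rfl
    · refine MonoidHom.ext fun x => ?_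
      simp
    · refine MonoidHom.ext fun x => Equiv.ext fun y => ?_
      cases y <;> rfl

theorem perm_eq_one : ∀ w : W, (∀ x, perm w x = x) → w = 1 := by decide +kernel

theorem exists_sylow_mulEquiv (T : Sylow 2 (Equiv.Perm (Fin 8))) :
    Nonempty (W ≃* (T : Subgroup (Equiv.Perm (Fin 8)))) := by
  haveI : Fact (Nat.Prime 2) := ⟨Nat.prime_two⟩
  let e : ZMod 4 ⊕ ZMod 4 ≃ Fin 8 := Fintype.equivFinOfCardEq (by simp [ZMod.card])
  let g : W →* Equiv.Perm (Fin 8) :=
    MonoidHom.mk' (fun w => e.permCongr (perm w)) fun w w' => by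
      rw [map_mul]
      ext x
      simp
  have hg : Function.Injective g := (injective_iff_map_eq_one g).2 fun w hw =>
    perm_eq_one w fun x => by
      have := DFunLike.congr_fun hw (e x)
      simpa [g, Equiv.permCongr_apply] using this
  have h128 : Nat.card W = 128 := by
    rw [SemidirectProduct.card, Nat.card_prod, Nat.card_eq_fintype_card, DihedralGroup.card,
      Nat.card_congr (Multiplicative.toAdd : Multiplicative (ZMod 2) ≃ ZMod 2), Nat.card_zmod]
  have hc : Nat.card g.range = 2 ^ (Nat.card (Equiv.Perm (Fin 8))).factorization 2 := by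
    rw [← Nat.card_congr (MonoidHom.ofInjective hg).toEquiv, h128, Nat.card_perm, Nat.card_fin]
    rw [show Nat.factorial 8 = 2 ^ 7 * 315 by decide,
      Nat.factorization_mul (by norm_num) (by norm_num), Finsupp.add_apply,
      Nat.Prime.factorization_pow Nat.prime_two, Finsupp.single_eq_same,
      Nat.factorization_eq_zero_of_not_dvd (by norm_num)]
    norm_num
  exact ⟨(MonoidHom.ofInjective hg).trans (Sylow.equiv (Sylow.ofCard g.range hc) T)⟩

end CfsgLib.TwoGroups.DihedralWreath
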