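import Mathlib
import Cfsg.Prelude.Def_CaseTheorems

/-!
# Two-rank at most one in terms of pairs of commuting involutions
-/

set_option autoImplicit false

namespace CfsgLib.TwoGroups.PairInvolutions

variable {H : Type*} [Group H]

/-- A pair of distinct commuting involutions. -/
def Pair (x y : H) : Prop := x * x = 1 ∧ y * y = 1 ∧ x ≠ 1 ∧ y ≠ 1 ∧ x ≠ y ∧ Commute x y

theorem Pair.map {K : Type*} [Group K] (φ : H →* K) (hφ : Function.Injective φ) {x y : H} (h : Pair x y) :
    Pair (φ x) (φ y) := by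
  obtain ⟨x2, y2, x1, y1, hne, hc⟩ := h
  exact ⟨by rw [← map_mul, x2, map_one], by rw [← map_mul, y2, map_one],
    fun e => x1 (hφ (by rw [e, map_one])), fun e => y1 (hφ (by rw [e, map_one])), fun e => hne (hφ e), hc.map φ⟩

theorem Pair.comap {K : Type*} [Group K] (φ : H →* K) (hφ : Function.Injective φ) {x y : H}
    (h : Pair (φ x) (φ y)) : Pair x y := by
  obtain ⟨x2, y2, x1, y1, hne, hc⟩ := h
  exact ⟨hφ (by rw [map_mul, x2, map_one]), hφ (by rw [map_mul, y2, map_one]),
    fun e => x1 (by rw [e, map_one]), fun e => y1 (by rw [e, map_one]), fun e => hne (by rw [e]),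
    hφ (by rw [map_mul, map_mul, hc.eq])⟩

/-- The subgroup generated by a pair is elementary abelian of order greater than two. -/
theorem Pair.closure_spec [Finite H] {x y : H} (h : Pair x y) :
    IsMulCommutative (Subgroup.closure ({x, y} : Set H)) ∧
      (∀ e ∈ Subgroup.closure ({x, y} : Set H), e ^ 2 = 1) ∧ 2 < Nat.card (Subgroup.closure ({x, y} : Set H)) := by
  obtain ⟨x2, y2, x1, y1, hne, hc⟩ := h
  have hE : IsMulCommutative (Subgroup.closure ({x, y} : Set H)) := by
    refine Subgroup.isMulCommutative_closure ?_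
    intro u hu v hv
    simp only [Set.mem_insert_iff, Set.mem_singleton_iff] at hu hv
    rcases hu with rfl | rfl <;> rcases hv with rfl | rfl <;>
      first
      | rfl
      | exact hc.eq
      | exact hc.eq.symm
  refine ⟨hE, ?_, ?_⟩
  · intro e he
    induction he using Subgroup.closure_induction with
    | mem w hw => rcases hw with rfl | rfl <;> simp [pow_two, x2, y2]
    | one => simp
    | mul u v hu hv ihu ihv =>
      have hc' : Commute u v := congrArg Subtype.val
        (mul_comm' (⟨u, hu⟩ : Subgroup.closure ({x, y} : Set H)) ⟨v, hv⟩)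
      rw [hc'.mul_pow, ihu, ihv, one_mul]
    | inv u _ ih => rw [inv_pow, ih, inv_one]
  · haveI := Fintype.ofFinite (Subgroup.closure ({x, y} : Set H))
    rw [Nat.card_eq_fintype_card]
    exact Fintype.two_lt_card_iff.2 ⟨1, ⟨x, Subgroup.subset_closure (Set.mem_insert _ _)⟩,
      ⟨y, Subgroup.subset_closure (Set.mem_insert_of_mem _ rfl)⟩,
      fun e => x1 (congrArg Subtype.val e).symm, fun e => y1 (congrArg Subtype.val e).symm,
      fun e => hne (congrArg Subtype.val e)⟩

theorem prankLE_one_iff [Finite H] (K : Subgroup H) :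
    Cfsg.PRankLE 2 1 K ↔ ∀ x ∈ K, ∀ y ∈ K, ¬ Pair x y := by
  classical
  constructor
  · intro h x hx y hy hp
    obtain ⟨hE, hE2, hcard⟩ := (Pair.comap K.subtype K.subtype_injective
      (x := ⟨x, hx⟩) (y := ⟨y, hy⟩) hp).closure_spec
    have := h _ hE hE2
    omega
  · intro h E hE hE2
    by_contra hlt
    haveI := Fintype.ofFinite E
    rw [Nat.card_eq_fintype_card] at hlt
    obtain ⟨p, q, r, hpq, hpr, hqr⟩ := Fintype.two_lt_card_iff.1 (show 2 < Fintype.card E by omega)
    have main : ∀ p q : E, p ≠ 1 → q ≠ 1 → p ≠ q → False := fun p q hp hq hne => by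
      refine h _ (p : K).2 _ (q : K).2 ⟨?_, ?_, ?_, ?_, ?_, ?_⟩
      · have := congrArg (fun w : K => (w : H)) (hE2 p p.2); simpa [pow_two] using this
      · have := congrArg (fun w : K => (w : H)) (hE2 q q.2); simpa [pow_two] using this
      · exact fun e => hp (Subtype.ext (Subtype.ext e))
      · exact fun e => hq (Subtype.ext (Subtype.ext e))
      · exact fun e => hne (Subtype.ext (Subtype.ext e))
      · exact congrArg (fun w : E => ((w : K) : H)) (mul_comm' p q)
    rcases eq_or_ne p 1 with rfl | hp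
    · exact main q r hpq.symm hpr.symm hqr
    rcases eq_or_ne q 1 with rfl | hq
    · exact main p r hp hqr.symm hpr
    exact main p q hp hq hpq

/-- A pair in a normal subgroup is conjugate to one inside a given Sylow 2-subgroup of it. -/
theorem Pair.exists_in_sylow [Finite H] {A : Subgroup H} (S' : Sylow 2 A) {x y : H} (hx : x ∈ A) (hy : y ∈ A)
    (h : Pair x y) : ∃ e₁ ∈ (S' : Subgroup A).map A.subtype, ∃ e₂ ∈ (S' : Subgroup A).map A.subtype, Pair e₁ e₂ := by
  haveI : Fact (Nat.Prime 2) := ⟨Nat.prime_two⟩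
  have h' := Pair.comap A.subtype A.subtype_injective (x := ⟨x, hx⟩) (y := ⟨y, hy⟩) h
  obtain ⟨-, hE2, -⟩ := h'.closure_spec
  have hEp : IsPGroup 2 (Subgroup.closure ({⟨x, hx⟩, ⟨y, hy⟩} : Set A)) :=
    fun e => ⟨1, Subtype.ext (by simpa using hE2 e e.2)⟩
  obtain ⟨Q, hQ⟩ := hEp.exists_le_sylow
  obtain ⟨g, hg⟩ := MulAction.exists_smul_eq A Q S'
  have hm : ∀ w : A, w ∈ Subgroup.closure ({⟨x, hx⟩, ⟨y, hy⟩} : Set A) →
      A.subtype ((MulAut.conj g).toMonoidHom w) ∈ (S' : Subgroup A).map A.subtype := fun w hw => by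
    rw [← hg]
    exact ⟨g * w * g⁻¹, Subgroup.smul_mem_pointwise_smul _ (MulAut.conj g) _ (hQ hw), rfl⟩
  exact ⟨_, hm _ (Subgroup.subset_closure (Set.mem_insert _ _)), _,
    hm _ (Subgroup.subset_closure (Set.mem_insert_of_mem _ rfl)),
    Pair.map (A.subtype.comp (MulAut.conj g).toMonoidHom)
      (A.subtype_injective.comp (MulAut.conj g).injective) h'⟩

end CfsgLib.TwoGroups.PairInvolutions
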