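import Cfsg.Agent.Lib.TwoGroups.InvariantFour
import Cfsg.Agent.Lib.TwoGroups.PairInvolutions
import Cfsg.Agent.Lib.Fusion.ThompsonTransfer
import Cfsg.Agent.Lib.NumberTheory.SylowCount

/-!
# A four-group acting on a group without subgroups of index two, all fixed point groups of 2-rank one
-/

set_option autoImplicit false
set_option linter.style.haveILetI false

namespace CfsgLib.TwoGroups.FourActionRankOne

open CfsgLib.TwoGroups.CyclicMax CfsgLib.TwoGroups.InvariantFour CfsgLib.TwoGroups.PairInvolutions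

variable {H : Type*} [Group H] [Finite H]

theorem sq_conj {x g : H} (h : x * x = 1) : g * x * g⁻¹ * (g * x * g⁻¹) = 1 := by
  rw [show g * x * g⁻¹ * (g * x * g⁻¹) = g * (x * x) * g⁻¹ by group, h]; group

/-- A four-group `U` inside a 2-group `P` centralises two commuting involutions of any normal four subgroup. -/
theorem four_case (P : Subgroup H) (hP : IsPGroup 2 P) (U : Subgroup H) (hUP : U ≤ P) (hU4 : Nat.card U = 4)
    (hU2 : ∀ u ∈ U, u * u = 1) (W : Subgroup P) [hWn : W.Normal] (hW4 : Nat.card W = 4)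
    (hW2 : ∀ w ∈ W, w ^ 2 = 1) :
    ∃ u ∈ U, u ≠ 1 ∧ ∃ x ∈ W, ∃ y ∈ W, Commute u (x : H) ∧ Commute u (y : H) ∧ Pair (x : H) (y : H) := by
  classical
  haveI : Fact (Nat.Prime 2) := ⟨Nat.prime_two⟩
  haveI : Group.IsNilpotent P := hP.isNilpotent
  have hne : W ⊓ Subgroup.center P ≠ ⊥ := by
    refine CfsgLib.Solvable.FrattiniFitting.inf_center_ne_bot _ ?_
    intro e; rw [e, Subgroup.card_bot] at hW4; omega
  obtain ⟨⟨z, hzm⟩, hz'⟩ := Subgroup.ne_bot_iff_exists_ne_one.1 hne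
  obtain ⟨hzW, hzC⟩ := Subgroup.mem_inf.1 hzm
  have hz1 : z ≠ 1 := fun e => hz' (Subtype.ext e)
  obtain ⟨w, hwW, hw1, hwz⟩ : ∃ w ∈ W, w ≠ 1 ∧ w ≠ z := by
    by_contra! hall
    have hsub : (W : Set P) ⊆ {1, z} := fun w hw => by
      by_cases h1 : w = 1
      · exact Or.inl h1
      · exact Or.inr (hall w hw h1)
    have h2 : Nat.card W ≤ ({1, z} : Set P).ncard := by
      rw [← SetLike.coe_sort_coe, Nat.card_coe_set_eq]; exact Set.ncard_le_ncard hsub (Set.toFinite _)
    rw [Set.ncard_pair (Ne.symm hz1), hW4] at h2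
    omega
  have hz2 : z * z = 1 := by rw [← pow_two]; exact hW2 z hzW
  have hw2 : w * w = 1 := by rw [← pow_two]; exact hW2 w hwW
  have hWset : (W : Set P) = {1, z, w, w * z} := by
    refine (Set.eq_of_subset_of_ncard_le ?_ ?_ (Set.toFinite _)).symm
    · intro v hv
      rcases hv with rfl | rfl | rfl | rfl
      · exact one_mem W
      · exact hzW
      · exact hwW
      · exact mul_mem hwW hzW
    · have n3 : w * z ≠ 1 := fun e => hwz (by
        rw [eq_inv_of_mul_eq_one_left e]; exact inv_eq_of_mul_eq_one_right hz2)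
      have n4 : w * z ≠ z := by simpa using hw1
      have n5 : w ≠ w * z := by simpa using hz1
      rw [Set.ncard_insert_of_notMem (by simp [Ne.symm hz1, Ne.symm hw1, n3.symm]),
        Set.ncard_insert_of_notMem (by simp [Ne.symm hwz, n4.symm]),
        Set.ncard_insert_of_notMem (by simp [n5]), Set.ncard_singleton, ← Nat.card_coe_set_eq]
      exact le_of_eq hW4
  have hzc : ∀ p : P, p * z = z * p := Subgroup.mem_center_iff.1 hzC
  have hcases : ∀ p : P, p * w * p⁻¹ = w ∨ p * w * p⁻¹ = w * z := by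
    intro p
    have hm : p * w * p⁻¹ ∈ (W : Set P) := hWn.conj_mem w hwW p
    rw [hWset] at hm
    rcases hm with e | e | e | e
    · exact absurd (by simpa using e) hw1
    · refine absurd ?_ hwz
      rw [show w = p⁻¹ * (p * w * p⁻¹) * p by group, e, hzc p⁻¹, mul_assoc, inv_mul_cancel, mul_one]
    · exact Or.inl e
    · exact Or.inr e
  have main : ∀ a b : U, a ≠ 1 → b ≠ 1 → a ≠ b →
      ∃ u : P, (u : H) ∈ U ∧ (u : H) ≠ 1 ∧ u * w * u⁻¹ = w := by
    intro a b ha hb hne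
    let a' : P := ⟨a, hUP a.2⟩
    let b' : P := ⟨b, hUP b.2⟩
    rcases hcases a' with e | e
    · exact ⟨a', a.2, fun e1 => ha (Subtype.ext e1), e⟩
    rcases hcases b' with e' | e'
    · exact ⟨b', b.2, fun e1 => hb (Subtype.ext e1), e'⟩
    refine ⟨a' * b', mul_mem a.2 b.2, fun e1 => hne (Subtype.ext ?_), ?_⟩
    · change (a : H) * b = 1 at e1
      rw [eq_inv_of_mul_eq_one_left e1]
      exact inv_eq_of_mul_eq_one_right (hU2 _ b.2)
    · rw [show a' * b' * w * (a' * b')⁻¹ = a' * (b' * w * b'⁻¹) * a'⁻¹ by group, e',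
        show a' * (w * z) * a'⁻¹ = (a' * w * a'⁻¹) * (a' * z * a'⁻¹) by group, e,
        hzc a', mul_inv_cancel_right, mul_assoc, hz2, mul_one]
  obtain ⟨u, hu, hu1, huw⟩ : ∃ u : P, (u : H) ∈ U ∧ (u : H) ≠ 1 ∧ u * w * u⁻¹ = w := by
    haveI := Fintype.ofFinite U
    obtain ⟨a, b, c, hab, hac, hbc⟩ := Fintype.two_lt_card_iff.1
      (show 2 < Fintype.card U by rw [← Nat.card_eq_fintype_card, hU4]; norm_num)
    rcases eq_or_ne a 1 with rfl | ha
    · exact main b c hab.symm hac.symm hbc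
    rcases eq_or_ne b 1 with rfl | hb
    · exact main a c ha hbc.symm hac
    exact main a b ha hb hab
  exact ⟨u, hu, hu1, z, hzW, w, hwW, congrArg (Subtype.val : P → H) (hzc u),
    congrArg (Subtype.val : P → H) (mul_inv_eq_iff_eq_mul.1 huw),
    congrArg Subtype.val hz2, congrArg Subtype.val hw2, fun e => hz1 (Subtype.ext e),
    fun e => hw1 (Subtype.ext e), fun e => hwz (Subtype.ext e.symm),
    congrArg (Subtype.val : P → H) (hzc w).symm⟩

/-- If every non-identity element of a four-group `U` centralises no pair of commuting involutions of the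
normal subgroup `A`, which has no subgroup of index two, and `A U` is the whole group, then `A` has no such pair. -/
theorem no_pair (A U : Subgroup H) [hAn : A.Normal] (htop : A ⊔ U = ⊤)
    (hU4 : Nat.card U = 4) (hU2 : ∀ u ∈ U, u * u = 1) (hperf : ∀ M : Subgroup A, M.index ≠ 2)
    (hrk : ∀ u ∈ U, u ≠ 1 → ∀ x ∈ A, ∀ y ∈ A, Commute u x → Commute u y → ¬ Pair x y) :
    ∀ x ∈ A, ∀ y ∈ A, ¬ Pair x y := by
  classical
  haveI : Fact (Nat.Prime 2) := ⟨Nat.prime_two⟩
  intro x₀ hx₀ y₀ hy₀ hpair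
  have hUp : IsPGroup 2 U := IsPGroup.of_card (n := 2) (by rw [hU4]; rfl)
  obtain ⟨P, hUP⟩ := hUp.exists_le_sylow
  set S : Subgroup H := (P : Subgroup H) ⊓ A with hSdef
  obtain ⟨S', hS'⟩ := CfsgLib.NT.SylowCount.exists_sylow_inf P A
  obtain ⟨e₁, he₁, e₂, he₂, hp⟩ := hpair.exists_in_sylow S' hx₀ hy₀
  rw [hS', ← hSdef] at he₁ he₂
  set SP : Subgroup P := S.subgroupOf (P : Subgroup H)
  haveI : SP.Normal := ⟨fun n hn p => by
    rw [Subgroup.mem_subgroupOf] at hn ⊢
    exact Subgroup.mem_inf.2 ⟨(p * n * p⁻¹).2, hAn.conj_mem _ (Subgroup.mem_inf.1 hn).2 p⟩⟩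
  have hSA : ∀ {x}, x ∈ S → x ∈ A := fun hx => (Subgroup.mem_inf.1 hx).2
  have hno : ∀ W : Subgroup P, W ≤ SP → W.Normal → Nat.card W = 4 → (∀ w ∈ W, w ^ 2 = 1) → False := by
    intro W hW hWn hW4 hW2
    obtain ⟨u, hu, hu1, x, hx, y, hy, hux, huy, hxy⟩ :=
      four_case (P : Subgroup H) P.isPGroup' U hUP hU4 hU2 W hW4 hW2
    exact hrk u hu hu1 x (hSA (hW hx)) y (hSA (hW hy)) hux huy hxy
  obtain ⟨e12, e22, n1, n2, ne12, hc⟩ := hp
  have mkord : ∀ w : (P : Subgroup H), (w : H) * w = 1 → (w : H) ≠ 1 → orderOf w = 2 := fun w h2 h1 =>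
    orderOf_eq_prime (Subtype.ext (by simpa [pow_two] using h2)) (fun e => h1 (congrArg Subtype.val e))
  obtain ⟨a', f', k, j, hsh', han⟩ := exists_shape P.isPGroup' SP hno
    (e₁ := ⟨e₁, (Subgroup.mem_inf.1 he₁).1⟩) (e₂ := ⟨e₂, (Subgroup.mem_inf.1 he₂).1⟩)
    (Subgroup.mem_subgroupOf.2 he₁) (Subgroup.mem_subgroupOf.2 he₂) (mkord _ e12 n1) (mkord _ e22 n2)
    (fun e => ne12 (congrArg Subtype.val e)) (Subtype.ext hc.eq)
  have hSmap : SP.map (P : Subgroup H).subtype = S := by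
    rw [Subgroup.subgroupOf_map_subtype, inf_eq_left.2 inf_le_left]
  have hsh : Shape S (a' : H) (f' : H) k j := hSmap ▸ hsh'.map_subtype
  set a : H := (a' : H) with ha
  set f : H := (f' : H) with hf
  have hk := hsh.order
  have h1 : 1 ≤ k := le_trans one_le_two hsh.two_le
  have hnorm : ∀ p ∈ (P : Subgroup H), ∀ x ∈ Subgroup.zpowers a, p * x * p⁻¹ ∈ Subgroup.zpowers a := by
    intro p hp x hx
    obtain ⟨i, rfl⟩ := Subgroup.mem_zpowers_iff.1 hx
    obtain ⟨l, hl⟩ := Subgroup.mem_zpowers_iff.1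
      (han.conj_mem (a' ^ i) (Subgroup.zpow_mem_zpowers _ _) ⟨p, hp⟩)
    refine Subgroup.mem_zpowers_iff.2 ⟨l, ?_⟩
    have := congrArg (Subtype.val : P → H) hl
    simpa [ha] using this
  set z : H := pw a (hh k) with hz
  have hzmem : z ∈ Subgroup.zpowers a := pw_mem a _
  have hzz : z * z = 1 := by rw [hz, ← pw_add hk, ← two_mul, hh_two h1, pw_zero hk]
  have hz1 : z ≠ 1 := fun e => hh_ne_zero h1 (pw_injective hk (e.trans (pw_zero hk).symm))
  have huniq : ∀ x ∈ Subgroup.zpowers a, x * x = 1 → x ≠ 1 → x = z := by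
    intro x hx h2 hx1
    obtain ⟨y, rfl⟩ := exists_pw hk hx
    rw [← pw_add hk, ← two_mul] at h2
    rcases two_mul_eq_zero h1 (pw_injective hk (h2.trans (pw_zero hk).symm)) with e | e
    · exact absurd (by rw [e, pw_zero hk]) hx1
    · rw [e]
  have hzP : ∀ p ∈ (P : Subgroup H), Commute p z := fun p hp =>
    mul_inv_eq_iff_eq_mul.1 (huniq _ (hnorm p hp z hzmem) (sq_conj hzz) (by simpa using hz1))
  have hfP : f ∈ (P : Subgroup H) := f'.2
  have hfz : f ≠ z := fun e => hsh.notMem (e ▸ hzmem)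
  have good : ∀ u ∈ U, u ≠ 1 → ∀ w ∈ S, w * w = 1 → w ∉ Subgroup.zpowers a → Commute u w → False := by
    intro u hu hu1 w hw hw2 hwa huw
    exact hrk u hu hu1 z (hSA ((Subgroup.zpowers_le.2 hsh.mem_a) hzmem)) w (hSA hw) (hzP u (hUP hu)) huw
      ⟨hzz, hw2, hz1, fun e => hwa (e ▸ one_mem _), fun e => hwa (e ▸ hzmem),
        (hzP w (Subgroup.mem_inf.1 hw).1).symm⟩
  obtain ⟨u, hu, hu1, hcase⟩ := hsh.exists_good_or_inner (U := U) (by rw [hU4]; norm_num) hU2
    (fun u hu => hnorm u (hUP hu) a (Subgroup.mem_zpowers a))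
    (fun u hu => Subgroup.mem_inf.2 ⟨mul_mem (mul_mem (hUP hu) hfP) (inv_mem (hUP hu)),
      hAn.conj_mem f (hSA hsh.mem_f) u⟩)
  rcases hcase with ⟨w, hw, hw2, hwa, huw⟩ | ⟨s, hs, hsa, hsf⟩
  · exact good u hu hu1 w hw hw2 hwa huw
  have hconj : ∀ x ∈ S, u * x * u⁻¹ = s * x * s⁻¹ := by
    have hpow : ∀ y ∈ Subgroup.zpowers a, u * y * u⁻¹ = s * y * s⁻¹ := by
      intro y hy
      obtain ⟨i, rfl⟩ := Subgroup.mem_zpowers_iff.1 hy
      rw [← conj_zpow, ← conj_zpow, hsa]
    intro x hx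
    rcases hsh.cover x hx with h | h
    · exact hpow x h
    · have e : x = f * (f * x) := by rw [← mul_assoc, hsh.sq_f, one_mul]
      rw [e, show u * (f * (f * x)) * u⁻¹ = (u * f * u⁻¹) * (u * (f * x) * u⁻¹) by group, hpow _ h, hsf]
      group
  have hus : u * s * u⁻¹ = s := by rw [hconj s hs]; group
  have hss : ∀ x ∈ S, Commute (s * s) x := by
    intro x hx
    have hxS : s * x * s⁻¹ ∈ S := mul_mem (mul_mem hs hx) (inv_mem hs)
    refine mul_inv_eq_iff_eq_mul.1 ?_
    calc s * s * x * (s * s)⁻¹ = s * (s * x * s⁻¹) * s⁻¹ := by group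
      _ = u * (u * x * u⁻¹) * u⁻¹ := by rw [← hconj _ hxS, hconj x hx]
      _ = (u * u) * x * (u * u)⁻¹ := by group
      _ = x := by rw [hU2 u hu]; group
  have hssmem : s * s ∈ Subgroup.zpowers a := by
    refine (hsh.cover _ (mul_mem hs hs)).resolve_right fun h => hsh.j_ne_one ?_
    apply pw_injective hk
    rw [← hsh.act, pw_one hk]
    obtain ⟨l, hl⟩ := Subgroup.mem_zpowers_iff.1 h
    have hc : Commute (f * (s * s)) a := by rw [← hl]; exact (Commute.refl a).zpow_left l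
    have hfa : Commute f a := by
      have := hc.mul_left (hss a hsh.mem_a).inv_left
      rwa [mul_inv_cancel_right] at this
    rw [hfa.eq]; group
  obtain ⟨x, hx⟩ := exists_pw hk hssmem
  have hxfix : j * x = x := by
    apply pw_injective hk
    rw [← pw_mul_conj hk hsh.act, ← hx, (hss f hsh.mem_f).symm.eq, mul_inv_cancel_right]
  rcases hsh.fixed hxfix with e | e
  · rw [e, pw_zero hk] at hx
    by_cases hsA : s ∈ Subgroup.zpowers a
    · have hsc : Commute s f := by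
        rcases eq_or_ne s 1 with rfl | hs1
        · exact Commute.one_left _
        · rw [huniq s hsA hx hs1]; exact (hzP f hfP).symm
      refine good u hu hu1 f hsh.mem_f hsh.sq_f hsh.notMem (mul_inv_eq_iff_eq_mul.1 ?_)
      rw [hsf, hsc.eq, mul_inv_cancel_right]
    · exact good u hu hu1 s hs hx hsA (mul_inv_eq_iff_eq_mul.1 hus)
  rw [e, ← hz] at hx
  set t := u * s⁻¹ with ht
  have htf : Commute t f := by
    refine mul_inv_eq_iff_eq_mul.1 ?_
    calc t * f * t⁻¹ = u * (s⁻¹ * f * s) * u⁻¹ := by rw [ht]; group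
      _ = s * (s⁻¹ * f * s) * s⁻¹ := hconj _ (mul_mem (mul_mem (inv_mem hs) hsh.mem_f) hs)
      _ = f := by group
  have htt : t * t = z := by
    have e2 : u * s⁻¹ * u⁻¹ = s⁻¹ := by rw [← conj_inv, hus]
    calc t * t = (u * s⁻¹ * u⁻¹) * (u * u) * s⁻¹ := by rw [ht]; group
      _ = (s * s)⁻¹ := by rw [e2, hU2 u hu]; group
      _ = z := by rw [hx]; exact inv_eq_of_mul_eq_one_right hzz
  -- Thompson transfer in A
  obtain ⟨g, hg⟩ : ∃ g : A, (g : H) * f * (g : H)⁻¹ ∈ Subgroup.zpowers a := by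
    let a'' : A := ⟨a, hSA hsh.mem_a⟩
    let f'' : A := ⟨f, hSA hsh.mem_f⟩
    have hS'mem : ∀ w : A, w ∈ (S' : Subgroup A) ↔ (w : H) ∈ S := by
      intro w
      rw [hSdef, ← hS']
      exact ⟨fun h => Subgroup.mem_map_of_mem _ h, fun h => (Subgroup.mem_map_iff_mem A.subtype_injective).1 h⟩
    have hQ : ∀ w : A, w ∈ Subgroup.zpowers a'' ↔ (w : H) ∈ Subgroup.zpowers a := by
      intro w
      rw [← Subgroup.mem_map_iff_mem A.subtype_injective, MonoidHom.map_zpowers]
      rfl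
    have hle : Subgroup.zpowers a'' ≤ (S' : Subgroup A) :=
      Subgroup.zpowers_le.2 ((hS'mem a'').2 hsh.mem_a)
    have hidx : (Subgroup.zpowers a'').relIndex (S' : Subgroup A) = 2 := by
      rw [Subgroup.relIndex, Subgroup.index_eq_two_iff]
      refine ⟨⟨f'', (hS'mem f'').2 hsh.mem_f⟩, fun b => ?_⟩
      rw [Subgroup.mem_subgroupOf, Subgroup.mem_subgroupOf, hQ, hQ]
      have hb : ((b : A) : H) ∈ S := (hS'mem _).1 b.2
      rw [xor_iff_or_and_not_and]
      refine ⟨?_, fun hh => hsh.notMem ?_⟩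
      · rcases hsh.cover _ hb with h | h
        · exact Or.inr h
        · left
          have h' := hnorm f hfP _ h
          rw [inv_eq_of_mul_eq_one_right hsh.sq_f, ← mul_assoc, hsh.sq_f, one_mul] at h'
          simpa [f''] using h'
      · have := mul_mem (inv_mem hh.2) hh.1
        simpa [f''] using this
    rcases CfsgLib.Fusion.ThompsonTransfer.thompson_transfer S' _ hle hidx f''
      (Subtype.ext (by simpa [pow_two, f''] using hsh.sq_f)) ((hS'mem f'').2 hsh.mem_f)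
      (fun h => hsh.notMem ((hQ f'').1 h)) with ⟨M, -, hM, -⟩ | ⟨g, hg⟩
    · exact absurd hM (hperf M)
    · exact ⟨g, (hQ _).1 hg⟩
  have hgf : (g : H) * f * (g : H)⁻¹ = z := by
    refine huniq _ hg (sq_conj hsh.sq_f) ?_
    have hf1 : f ≠ 1 := fun e => hsh.notMem (e ▸ one_mem _)
    simpa using hf1
  set t' := (g : H) * t * (g : H)⁻¹ with ht'
  have ht'2 : t' * t' = (g : H) * z * (g : H)⁻¹ := by rw [← htt, ht']; group
  have ht'z : Commute t' z := by rw [← hgf]; exact (Commute.conj_iff _).2 htf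
  set C : Subgroup H := Subgroup.centralizer ({z} : Set H) with hC
  have hPC : (P : Subgroup H) ≤ C := fun p hp => Subgroup.mem_centralizer_singleton_iff.2 (hzP p hp).eq
  let t'' : C := ⟨t', Subgroup.mem_centralizer_singleton_iff.2 ht'z.eq⟩
  have hT : IsPGroup 2 (Subgroup.zpowers t'') := by
    refine IsPGroup.iff_card.2 ?_
    have h4 : t' ^ 2 ^ 2 = 1 := by
      rw [show (2:ℕ) ^ 2 = 2 * 2 by norm_num, pow_mul, pow_two, pow_two, ht'2]
      exact sq_conj hzz
    have hd : orderOf t'' ∣ 2 ^ 2 := orderOf_dvd_of_pow_eq_one (Subtype.ext (by simpa [t''] using h4))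
    obtain ⟨n, -, hn⟩ := (Nat.dvd_prime_pow Nat.prime_two).1 hd
    exact ⟨n, by rw [Nat.card_zpowers, hn]⟩
  obtain ⟨Q, hQ⟩ := hT.exists_le_sylow
  obtain ⟨c, hc'⟩ := MulAction.exists_smul_eq C Q (P.subtype hPC)
  have hcP : (c : H) * t' * (c : H)⁻¹ ∈ (P : Subgroup H) := by
    have h : c * t'' * c⁻¹ ∈ ((P.subtype hPC : Sylow 2 C) : Subgroup C) := by
      rw [← hc']
      exact Subgroup.smul_mem_pointwise_smul _ (MulAut.conj c) _ (hQ (Subgroup.mem_zpowers _))
    exact h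
  have hsq : ∀ p ∈ (P : Subgroup H), p * p ∈ Subgroup.zpowers a := by
    intro p hp
    obtain ⟨x, hxA, v, hv, rfl⟩ := Subgroup.mem_sup_of_normal_left.1
      (htop.symm ▸ Subgroup.mem_top p : p ∈ A ⊔ U)
    have hxP : x ∈ (P : Subgroup H) := by simpa using mul_mem hp (inv_mem (hUP hv))
    have hxS : x ∈ S := Subgroup.mem_inf.2 ⟨hxP, hxA⟩
    rw [show x * v * (x * v) = x * (v * x * v⁻¹) * (v * v) by group, hU2 v hv, mul_one]
    have hyS : v * x * v⁻¹ ∈ S := Subgroup.mem_inf.2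
      ⟨mul_mem (mul_mem (hUP hv) hxP) (inv_mem (hUP hv)), hAn.conj_mem x hxA v⟩
    rcases hsh.cover x hxS with hxa | hxa
    · exact mul_mem hxa (hnorm v (hUP hv) x hxa)
    · rcases hsh.cover _ hyS with hya | hya
      · have := hnorm v⁻¹ (inv_mem (hUP hv)) _ hya
        rw [show v⁻¹ * (v * x * v⁻¹) * v⁻¹⁻¹ = x by group] at this
        exact mul_mem this hya
      · have hxf := hnorm f hfP _ hxa
        rw [inv_eq_of_mul_eq_one_right hsh.sq_f, ← mul_assoc, hsh.sq_f, one_mul] at hxf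
        have := mul_mem hxf hya
        rwa [mul_assoc, ← mul_assoc f, hsh.sq_f, one_mul] at this
  have hkey := hsq _ hcP
  rw [show (c : H) * t' * (c : H)⁻¹ * ((c : H) * t' * (c : H)⁻¹) = (c : H) * (t' * t') * (c : H)⁻¹ by group,
    ht'2] at hkey
  have hgz : (g : H) * z * (g : H)⁻¹ = z := by
    have e1 : (c : H) * ((g : H) * z * (g : H)⁻¹) * (c : H)⁻¹ = z :=
      huniq _ hkey (sq_conj (sq_conj hzz)) (by simpa using hz1)
    have hcz : (c : H) * z = z * (c : H) := Subgroup.mem_centralizer_singleton_iff.1 c.2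
    rw [show (g : H) * z * (g : H)⁻¹ = (c : H)⁻¹ * ((c : H) * ((g : H) * z * (g : H)⁻¹) * (c : H)⁻¹) * c by group,
      e1, mul_assoc, ← hcz, inv_mul_cancel_left]
  exact hfz (mul_left_cancel (mul_right_cancel (hgf.trans hgz.symm)))

end CfsgLib.TwoGroups.FourActionRankOne
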