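import Cfsg.Prelude.Def_Transfer
import Cfsg.Agent.Lib.PGroup.Frattini
import Cfsg.Agent.Lib.Coprime.Abelian
import Cfsg.Agent.Lib.TwoGroups.CyclicMax
import Cfsg.Agent.Lib.LocalEven.Residual
import Mathlib

/-!
Two-groups with a group of automorphisms of odd order whose invariant proper subgroups contain no
noncyclic abelian subgroup of order eight.
-/

set_option autoImplicit false

open scoped commutatorElement

namespace CfsgLib.TwoGroups.NoAbelianEight

variable {X : Type*} [Group X]

/-- `K` contains a noncyclic abelian subgroup of order eight. -/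
def EightIn (K : Subgroup X) : Prop :=
  ∃ A : Subgroup X, A ≤ K ∧ IsMulCommutative A ∧ ¬ IsCyclic A ∧ Nat.card A = 8

/-- A four-group, or a quaternion group of order eight. -/
def Shape (K : Subgroup X) : Prop :=
  (Nat.card K = 4 ∧ ∀ x ∈ K, x ^ 2 = 1) ∨
    (Nat.card K = 8 ∧ (∃ z ∈ K, z ≠ 1 ∧ z ^ 2 = 1 ∧ ∀ x ∈ K, x ^ 2 = 1 → x = 1 ∨ x = z) ∧
      ∃ a ∈ K, ∃ b ∈ K, a * b ≠ b * a)

theorem EightIn.mono {K K' : Subgroup X} (h : EightIn K) (hle : K ≤ K') : EightIn K' := by
  obtain ⟨A, h1, h2⟩ := h
  exact ⟨A, h1.trans hle, h2⟩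

theorem eightIn_map {Y : Type*} [Group Y] (f : Y →* X) (hf : Function.Injective f) {K : Subgroup Y}
    (h : EightIn K) : EightIn (K.map f) := by
  obtain ⟨A, hle, hc, hn, h8⟩ := h
  let e := Subgroup.equivMapOfInjective A f hf
  refine ⟨A.map f, Subgroup.map_mono hle, ⟨⟨fun a b => e.symm.injective ?_⟩⟩, fun h => hn ?_, ?_⟩
  · rw [map_mul, map_mul]; exact hc.is_comm.comm _ _
  · exact isCyclic_of_surjective e.symm e.symm.surjective
  · rw [← Nat.card_congr e.toEquiv, h8]

theorem shape_map {Y : Type*} [Group Y] (f : Y →* X) (hf : Function.Injective f) {K : Subgroup Y}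
    (h : Shape K) : Shape (K.map f) := by
  have hc : Nat.card (K.map f) = Nat.card K :=
    (Nat.card_congr (Subgroup.equivMapOfInjective K f hf).toEquiv).symm
  rcases h with ⟨h4, h2⟩ | ⟨h8, ⟨z, hz, hz1, hz2, hu⟩, a, ha, b, hb, hab⟩
  · refine Or.inl ⟨hc.trans h4, ?_⟩
    rintro _ ⟨x, hx, rfl⟩
    rw [← map_pow, h2 x hx, map_one]
  · refine Or.inr ⟨hc.trans h8, ⟨f z, ⟨z, hz, rfl⟩, fun h => hz1 (hf (h.trans f.map_one.symm)),
      by rw [← map_pow, hz2, map_one], ?_⟩, f a, ⟨a, ha, rfl⟩, f b, ⟨b, hb, rfl⟩, fun h => hab ?_⟩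
    · rintro _ ⟨x, hx, rfl⟩ h
      rw [← map_pow] at h
      rcases hu x hx (hf (h.trans f.map_one.symm)) with e | e
      · exact Or.inl (by rw [e, map_one])
      · exact Or.inr (by rw [e])
    · exact hf (by rw [map_mul, map_mul]; exact h)

variable [Finite X]

/-- A commutative subgroup of order at least eight with two involutions contains a noncyclic
abelian subgroup of order eight. -/
theorem eightIn_of (hX : IsPGroup 2 X) {K : Subgroup X} (A : Subgroup X) (hAK : A ≤ K)
    (hc : ∀ a ∈ A, ∀ b ∈ A, a * b = b * a) (h8 : 8 ≤ Nat.card A) {u v : X} (hu : u ∈ A)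
    (hv : v ∈ A) (hu2 : u ^ 2 = 1) (hv2 : v ^ 2 = 1) (hu1 : u ≠ 1) (hv1 : v ≠ 1) (huv : u ≠ v) :
    EightIn K := by
  classical
  haveI : Fact (Nat.Prime 2) := ⟨Nat.prime_two⟩
  have hP := hX.to_subgroup A
  obtain ⟨n, hn⟩ := IsPGroup.iff_card.mp hP
  set E : Subgroup A := Subgroup.closure {⟨u, hu⟩, ⟨v, hv⟩} with hE
  have hE2 : ∀ x ∈ E, x ^ 2 = 1 := by
    intro x hx
    induction hx using Subgroup.closure_induction with
    | mem y hy =>
      rcases hy with rfl | rfl
      · exact Subtype.ext hu2
      · exact Subtype.ext hv2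
    | one => exact one_pow 2
    | mul a b _ _ ha hb =>
      rw [(show Commute a b from Subtype.ext (hc a a.2 b b.2)).mul_pow, ha, hb, one_mul]
    | inv a _ ha => rw [inv_pow, ha, inv_one]
  have hEc : Nat.card E ≤ 4 := by
    let f : Bool × Bool → A := fun p =>
      (if p.1 then ⟨u, hu⟩ else 1) * (if p.2 then ⟨v, hv⟩ else 1)
    have hsub : ∀ x ∈ E, x ∈ Set.range f := by
      intro x hx
      induction hx using Subgroup.closure_induction with
      | mem y hy =>
        rcases hy with rfl | rfl
        · exact ⟨(true, false), by simp [f]⟩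
        · exact ⟨(false, true), by simp [f]⟩
      | one => exact ⟨(false, false), by simp [f]⟩
      | mul a b _ _ ha hb =>
        obtain ⟨⟨a1, a2⟩, rfl⟩ := ha
        obtain ⟨⟨b1, b2⟩, rfl⟩ := hb
        refine ⟨(xor a1 b1, xor a2 b2), Subtype.ext ?_⟩
        have huu : u * u = 1 := by rw [← pow_two]; exact hu2
        have hvv : v * v = 1 := by rw [← pow_two]; exact hv2
        have hcc : v * u = u * v := hc v hv u hu
        have hcc' : ∀ w, v * (u * w) = u * (v * w) := fun w => by
          rw [← mul_assoc, hcc, mul_assoc]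
        have huu' : ∀ w, u * (u * w) = w := fun w => by rw [← mul_assoc, huu, one_mul]
        have hvv' : ∀ w, v * (v * w) = w := fun w => by rw [← mul_assoc, hvv, one_mul]
        cases a1 <;> cases a2 <;> cases b1 <;> cases b2 <;>
          simp [f, mul_assoc, huu, hvv, hcc, hcc', huu', hvv']
      | inv a haE ha =>
        rwa [show a⁻¹ = a from inv_eq_of_mul_eq_one_right (by rw [← pow_two]; exact hE2 a haE)]
    refine le_trans (Nat.card_le_card_of_surjective
      (fun p : Bool × Bool => (⟨f p, ?_⟩ : E)) ?_) (by simp)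
    · refine mul_mem ?_ ?_
      all_goals split_ifs
      all_goals first | exact one_mem _ | exact Subgroup.subset_closure (by simp)
    · rintro ⟨x, hx⟩
      obtain ⟨p, rfl⟩ := hsub x hx
      exact ⟨p, rfl⟩
  obtain ⟨m, hm⟩ := IsPGroup.iff_card.mp (hP.to_subgroup E)
  have hm3 : m ≤ 3 := by
    rw [hm] at hEc
    exact (Nat.pow_le_pow_iff_right one_lt_two).mp (hEc.trans (by norm_num : (4 : ℕ) ≤ 2 ^ 3))
  have h3n : 3 ≤ n := (Nat.pow_le_pow_iff_right one_lt_two).mp (show 2 ^ 3 ≤ 2 ^ n by omega)
  obtain ⟨F, hF, hEF⟩ := Sylow.exists_subgroup_card_pow_prime_le 2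
    (show 2 ^ 3 ∣ Nat.card A by rw [hn]; exact pow_dvd_pow 2 h3n) E hm hm3
  refine ⟨F.map A.subtype, (Subgroup.map_subtype_le F).trans hAK, ⟨⟨?_⟩⟩, fun hcyc => ?_, ?_⟩
  · rintro ⟨_, a, ha, rfl⟩ ⟨_, b, hb, rfl⟩
    exact Subtype.ext (hc a a.2 b b.2)
  · letI := Fintype.ofFinite (F.map A.subtype : Subgroup X)
    have hmem : ∀ w : X, ∀ hw : w ∈ A, (⟨w, hw⟩ : A) ∈ E → w ∈ F.map A.subtype :=
      fun w hw h => ⟨⟨w, hw⟩, hEF h, rfl⟩
    have hu' := hmem u hu (Subgroup.subset_closure (by simp))
    have hv' := hmem v hv (Subgroup.subset_closure (by simp))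
    have hle := IsCyclic.card_pow_eq_one_le (α := (F.map A.subtype : Subgroup X)) (n := 2) two_pos
    have h3 : ({1, ⟨u, hu'⟩, ⟨v, hv'⟩} : Finset (F.map A.subtype : Subgroup X)).card = 3 := by
      rw [Finset.card_insert_of_notMem (by simp [Subtype.ext_iff, Ne.symm hu1, Ne.symm hv1]),
        Finset.card_insert_of_notMem (by simp [Subtype.ext_iff, huv]), Finset.card_singleton]
    have hsub : ({1, ⟨u, hu'⟩, ⟨v, hv'⟩} : Finset (F.map A.subtype : Subgroup X)) ⊆
        Finset.univ.filter fun a => a ^ 2 = 1 := by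
      intro a ha
      simp only [Finset.mem_insert, Finset.mem_singleton] at ha
      refine Finset.mem_filter.mpr ⟨Finset.mem_univ _, ?_⟩
      rcases ha with rfl | rfl | rfl
      · exact one_pow 2
      · exact Subtype.ext hu2
      · exact Subtype.ext hv2
    have := Finset.card_le_card hsub
    omega
  · rw [← Nat.card_congr (Subgroup.equivMapOfInjective F A.subtype A.subtype_injective).toEquiv, hF]
    rfl

/-- A commutative noncyclic subgroup of a `2`-group has two involutions. -/
theorem exists_two_involutions (hX : IsPGroup 2 X) (A : Subgroup X)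
    (hc : ∀ a ∈ A, ∀ b ∈ A, a * b = b * a) (hn : ¬ IsCyclic A) :
    ∃ u ∈ A, ∃ v ∈ A, u ^ 2 = 1 ∧ v ^ 2 = 1 ∧ u ≠ 1 ∧ v ≠ 1 ∧ u ≠ v := by
  classical
  letI : CommGroup A :=
    { (inferInstance : Group A) with mul_comm := fun a b => Subtype.ext (hc a a.2 b b.2) }
  obtain ⟨p, hp, hlt⟩ := Coprime.exists_two_torsion_of_not_isCyclic A hn
  set K := (powMonoidHom p : A →* A).ker with hK
  haveI : Fact (Nat.Prime 2) := ⟨Nat.prime_two⟩
  have hp2 : p = 2 := by
    by_contra hne
    have htriv : K = ⊥ := by
      rw [eq_bot_iff]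
      intro a ha
      obtain ⟨k, hk⟩ := hX.to_subgroup A a
      have h1 : a ^ p = 1 := ha
      have := pow_gcd_eq_one.mpr ⟨h1, hk⟩
      rw [(((Nat.coprime_primes hp Nat.prime_two).mpr hne).pow_right k).gcd_eq_one, pow_one] at this
      exact this
    rw [htriv, Subgroup.card_bot] at hlt
    exact absurd hlt (not_lt.mpr hp.pos)
  subst hp2
  letI := Fintype.ofFinite K
  rw [Nat.card_eq_fintype_card] at hlt
  obtain ⟨a, b, c, hab, hac, hbc⟩ := Fintype.two_lt_card_iff.mp hlt
  have hsq : ∀ w : K, ((w : A) : X) ^ 2 = 1 := fun w => congrArg Subtype.val w.2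
  have hne : ∀ w w' : K, w ≠ w' → ((w : A) : X) ≠ ((w' : A) : X) := fun w w' h e =>
    h (Subtype.ext (Subtype.ext e))
  by_cases ha : ((a : A) : X) = 1
  · exact ⟨_, (b : A).2, _, (c : A).2, hsq b, hsq c, fun e => hne a b hab (ha.trans e.symm),
      fun e => hne a c hac (ha.trans e.symm), hne b c hbc⟩
  by_cases hb : ((b : A) : X) = 1
  · exact ⟨_, (a : A).2, _, (c : A).2, hsq a, hsq c, ha,
      fun e => hne b c hbc (hb.trans e.symm), hne a c hac⟩
  exact ⟨_, (a : A).2, _, (b : A).2, hsq a, hsq b, ha, hb, hne a b hab⟩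

variable {Λ : Type*} [Group Λ] [Finite Λ]

/-- The fixed element lemma: odd order automorphisms that stabilise `z` and move `w` into `wz`. -/
theorem eq_one_of_stab (hX : IsPGroup 2 X) (hodd : Odd (Nat.card Λ)) (φ : Λ →* MulAut X) (l : Λ)
    {w z : X} (h1 : φ l w = w * z) (h2 : φ l z = z) : z = 1 := by
  have key : ∀ i : ℕ, φ (l ^ i) w = w * z ^ i := by
    intro i
    induction i with
    | zero => simp
    | succ i ih =>
      rw [pow_succ', map_mul, MulAut.mul_apply, ih, map_mul, map_pow, h1, h2, pow_succ', mul_assoc]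
  have h := key (Nat.card Λ)
  rw [pow_card_eq_one', map_one, MulAut.one_apply, left_eq_mul] at h
  obtain ⟨k, hk⟩ := hX z
  have := pow_gcd_eq_one.mpr ⟨h, hk⟩
  rwa [(((Nat.coprime_two_left).mpr hodd).symm.pow_right k).gcd_eq_one, pow_one] at this

theorem exists_sq (hodd : Odd (Nat.card Λ)) (l : Λ) : ∃ m : Λ, m * m = l := by
  obtain ⟨k, hk⟩ := hodd
  refine ⟨l ^ (k + 1), ?_⟩
  rw [← pow_add, show k + 1 + (k + 1) = Nat.card Λ + 1 by omega, pow_succ, pow_card_eq_one', one_mul]

/-- If a subgroup of index two in `W` is fixed modulo `Z`, so is `W`, for odd order operators. -/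
theorem two_cosets (hodd : Odd (Nat.card Λ)) (φ : Λ →* MulAut X)
    {Z D W : Subgroup X} (hZD : Z ≤ D) (hDW : D ≤ W) (hZi : ∀ l, ∀ x ∈ Z, φ l x ∈ Z)
    (hDi : ∀ l, ∀ x ∈ D, φ l x ∈ D) (hWi : ∀ l, ∀ x ∈ W, φ l x ∈ W)
    (hD : Z.relIndex D = 2) (hW : D.relIndex W = 2) :
    ∀ l, ∀ w ∈ W, w⁻¹ * φ l w ∈ Z := by
  have h2 : ∀ {A B : Subgroup X}, A.relIndex B = 2 → ∀ a ∈ B, ∀ b ∈ B, (a * b ∈ A ↔ (a ∈ A ↔ b ∈ A)) := by
    intro A B h a ha b hb
    have := Subgroup.mul_mem_iff_of_index_two (H := A.subgroupOf B) h (a := ⟨a, ha⟩) (b := ⟨b, hb⟩)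
    simpa [Subgroup.mem_subgroupOf] using this
  have hnot : ∀ {A B : Subgroup X}, (∀ l, ∀ x ∈ A, φ l x ∈ A) → ∀ l, ∀ a ∈ B, a ∉ A →
      φ l a ∉ A := by
    intro A B hA l a _ ha hla
    apply ha
    have := hA l⁻¹ _ hla
    rwa [← MulAut.mul_apply, ← map_mul, inv_mul_cancel, map_one, MulAut.one_apply] at this
  have hfix : ∀ l, ∀ a ∈ D, a⁻¹ * φ l a ∈ Z := by
    intro l a ha
    rw [h2 hD _ (inv_mem ha) _ (hDi l a ha), inv_mem_iff]
    exact ⟨hZi l a, fun h => by_contra fun hn => hnot (B := D) hZi l a ha hn h⟩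
  intro l w hw
  obtain ⟨m, rfl⟩ := exists_sq hodd l
  have hu : w⁻¹ * φ m w ∈ D := by
    rw [h2 hW _ (inv_mem hw) _ (hWi m w hw), inv_mem_iff]
    exact ⟨hDi m w, fun h => by_contra fun hn => hnot (B := W) hDi m w hw hn h⟩
  have e : w⁻¹ * φ (m * m) w = (w⁻¹ * φ m w) * (w⁻¹ * φ m w) *
      ((w⁻¹ * φ m w)⁻¹ * φ m (w⁻¹ * φ m w)) := by
    rw [map_mul, MulAut.mul_apply, map_mul (φ m), map_inv]
    simp [mul_assoc]
  rw [e]
  exact mul_mem ((h2 hD _ hu _ hu).mpr Iff.rfl) (hfix m _ hu)

/-- `W` is centralized modulo `Z` by the whole group when operators move `W`. -/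
theorem inner_mod (hX : IsPGroup 2 X) (hodd : Odd (Nat.card Λ)) (φ : Λ →* MulAut X)
    (W Z : Subgroup X) [W.Normal] [Z.Normal] (hZW : Z ≤ W) (hW : Nat.card W = 4 * Nat.card Z)
    (hWi : ∀ l, ∀ x ∈ W, φ l x ∈ W) (hZf : ∀ l, ∀ z ∈ Z, φ l z = z)
    (hnt : ∃ l, ∃ w ∈ W, φ l w ≠ w) :
    ∀ x, ∀ w ∈ W, w⁻¹ * (x * w * x⁻¹) ∈ Z := by
  classical
  haveI : Fact (Nat.Prime 2) := ⟨Nat.prime_two⟩
  have hZi : ∀ l, ∀ z ∈ Z, φ l z ∈ Z := fun l z hz => by rw [hZf l z hz]; exact hz
  let D : Subgroup X :=
    { carrier := {w | w ∈ W ∧ ∀ x, w⁻¹ * (x * w * x⁻¹) ∈ Z}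
      one_mem' := ⟨one_mem W, fun x => by simp⟩
      mul_mem' := fun {a b} ha hb => ⟨mul_mem ha.1 hb.1, fun x => by
        rw [show (a * b)⁻¹ * (x * (a * b) * x⁻¹) =
          (b⁻¹ * (a⁻¹ * (x * a * x⁻¹)) * b) * (b⁻¹ * (x * b * x⁻¹)) by group]
        exact mul_mem (Subgroup.Normal.conj_mem' inferInstance _ (ha.2 x) b) (hb.2 x)⟩
      inv_mem' := fun {a} ha => ⟨inv_mem ha.1, fun x => by
        rw [show a⁻¹⁻¹ * (x * a⁻¹ * x⁻¹) = a * (a⁻¹ * (x * a * x⁻¹))⁻¹ * a⁻¹ by group]
        exact Subgroup.Normal.conj_mem inferInstance _ (inv_mem (ha.2 x)) a⟩ }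
  have hZD : Z ≤ D := fun z hz => ⟨hZW hz, fun x =>
    mul_mem (inv_mem hz) (Subgroup.Normal.conj_mem inferInstance z hz x)⟩
  have hDW : D ≤ W := fun w hw => hw.1
  have hDi : ∀ l, ∀ w ∈ D, φ l w ∈ D := by
    intro l w hw
    refine ⟨hWi l w hw.1, fun x => ?_⟩
    have := hZi l _ (hw.2 ((φ l).symm x))
    simpa using this
  by_contra hcon
  push Not at hcon
  obtain ⟨x₀, w₀, hw₀, hx₀⟩ := hcon
  have hne : D ≠ W := fun h => hx₀ ((h ▸ hw₀ : w₀ ∈ D).2 x₀)
  -- some element of `W` outside `Z` is central modulo `Z`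
  have hgt : D ≠ Z := by
    intro hDZ
    set π := QuotientGroup.mk' Z
    set Wb := W.map π with hWb
    haveI : Wb.Normal := Subgroup.Normal.map inferInstance _ (QuotientGroup.mk'_surjective _)
    let _ : MulAction X Wb :=
      { smul := fun x w => ⟨π x * w * (π x)⁻¹, Subgroup.Normal.conj_mem inferInstance _ w.2 _⟩
        one_smul := fun w => Subtype.ext (by show π 1 * (w : X ⧸ Z) * (π 1)⁻¹ = w; simp)
        mul_smul := fun x y w => Subtype.ext (by
          show π (x * y) * (w : X ⧸ Z) * (π (x * y))⁻¹ = π x * (π y * w * (π y)⁻¹) * (π x)⁻¹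
          simp [mul_assoc]) }
    have hcard : Nat.card Wb = 4 := by
      have := Subgroup.card_mul_index ((Subgroup.subgroupOf Z W))
      rw [Nat.card_congr (Subgroup.subgroupOfEquivOfLe hZW).toEquiv, hW, mul_comm 4] at this
      have h4 := Nat.eq_of_mul_eq_mul_left Nat.card_pos this
      rw [hWb, ← Subgroup.relIndex_ker, QuotientGroup.ker_mk']
      exact h4
    obtain ⟨b, hb, hb1⟩ := hX.exists_fixed_point_of_prime_dvd_card_of_fixed_point (α := Wb)
      (hcard ▸ (by norm_num : 2 ∣ 4)) (a := 1) (fun x => Subtype.ext (by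
        show π x * 1 * (π x)⁻¹ = 1; simp))
    obtain ⟨w, hw, hwb⟩ := b.2
    have hwD : w ∈ D := ⟨hw, fun x => by
      have h1 : π x * π w * (π x)⁻¹ = π w := by rw [hwb]; exact congrArg Subtype.val (hb x)
      rw [← map_inv, ← map_mul, ← map_mul] at h1
      exact QuotientGroup.eq.mp h1.symm⟩
    rw [hDZ] at hwD
    exact hb1 (Subtype.ext (by rw [← hwb]; exact ((QuotientGroup.eq_one_iff w).mpr hwD).symm))
  have hZc := Nat.card_pos (α := Z)
  have h1 : Z.relIndex D * D.relIndex W = 4 := by
    rw [Subgroup.relIndex_mul_relIndex Z D W hZD hDW]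
    have := Subgroup.card_mul_index ((Subgroup.subgroupOf Z W))
    rw [Nat.card_congr (Subgroup.subgroupOfEquivOfLe hZW).toEquiv, hW, mul_comm 4] at this
    exact Nat.eq_of_mul_eq_mul_left Nat.card_pos this
  have ha : Z.relIndex D ≠ 1 := fun h => hgt (le_antisymm (Subgroup.relIndex_eq_one.mp h) hZD)
  have hb : D.relIndex W ≠ 1 := fun h => hne (le_antisymm hDW (Subgroup.relIndex_eq_one.mp h))
  have hab : Z.relIndex D = 2 ∧ D.relIndex W = 2 := by
    have hd : Z.relIndex D ∣ 2 ^ 2 := ⟨_, h1.symm⟩
    obtain ⟨i, hi, hi'⟩ := (Nat.dvd_prime_pow Nat.prime_two).mp hd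
    interval_cases i
    · exact absurd (by simpa using hi') ha
    · rw [pow_one] at hi'
      exact ⟨hi', by rw [hi'] at h1; omega⟩
    · rw [hi'] at h1
      omega
  obtain ⟨l, w, hw, hlw⟩ := hnt
  have hz := two_cosets hodd φ hZD hDW hZi hDi hWi hab.1 hab.2 l w hw
  have h0 := eq_one_of_stab hX hodd φ l (w := w) (z := w⁻¹ * φ l w) (by rw [mul_inv_cancel_left])
    (hZf l _ hz)
  exact hlw (inv_mul_eq_one.mp h0).symm

theorem shape_two_le {K : Subgroup X} (h : Shape K) : 4 ≤ Nat.card K := by
  rcases h with ⟨h, -⟩ | ⟨h, -⟩ <;> omega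

/-- Data on a quaternion shaped subgroup. -/
theorem quaternion_facts {K : Subgroup X} {z : X} (h8 : Nat.card K = 8) (hz : z ∈ K) (hz1 : z ≠ 1)
    (hz2 : z ^ 2 = 1) (hu : ∀ x ∈ K, x ^ 2 = 1 → x = 1 ∨ x = z) {a b : X} (ha : a ∈ K) (hb : b ∈ K)
    (hab : a * b ≠ b * a) :
    (∀ x ∈ K, x ^ 2 = z ∨ x = 1 ∨ x = z) ∧ (∀ x ∈ K, x * z = z * x) ∧
      Subgroup.closure {a, b} = K ∧ a ^ 2 = z ∧
      (∀ y ∈ K, y * a = a * y → y * b = b * y → y = 1 ∨ y = z) := by
  classical
  haveI : Fact (Nat.Prime 2) := ⟨Nat.prime_two⟩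
  have hK : IsPGroup 2 K := IsPGroup.of_card (n := 3) (by rw [h8]; rfl)
  have h4 : ∀ x ∈ K, x ^ 4 = 1 := by
    intro x hx
    have hd : orderOf x ∣ 2 ^ 3 := by
      have := K.orderOf_dvd_natCard hx
      rwa [h8] at this
    obtain ⟨i, hi, hi'⟩ := (Nat.dvd_prime_pow Nat.prime_two).mp hd
    by_cases h3 : i = 3
    · exfalso
      subst h3
      have hle : Subgroup.zpowers x = K := Subgroup.eq_of_le_of_card_ge (Subgroup.zpowers_le.mpr hx)
        (by rw [Nat.card_zpowers, hi', h8]; rfl)
      rw [← hle] at ha hb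
      obtain ⟨m, rfl⟩ := ha
      obtain ⟨n, rfl⟩ := hb
      exact hab (by simp only [← zpow_add, add_comm])
    · apply orderOf_dvd_iff_pow_eq_one.mp
      rw [hi', show (4 : ℕ) = 2 ^ 2 from rfl]
      exact pow_dvd_pow 2 (by omega)
  have hsq : ∀ x ∈ K, x ^ 2 = z ∨ x = 1 ∨ x = z := by
    intro x hx
    rcases hu (x ^ 2) (pow_mem hx 2) (by rw [← pow_mul]; exact h4 x hx) with h | h
    · exact Or.inr (hu x hx h)
    · exact Or.inl h
  have hcz : ∀ x ∈ K, x * z = z * x := by
    intro x hx
    rcases hsq x hx with h | h | h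
    · rw [← h, ← pow_succ', ← pow_succ]
    · rw [h, one_mul, mul_one]
    · rw [h]
  have ha2 : a ^ 2 = z := by
    rcases hsq a ha with h | h | h
    · exact h
    · exact absurd (by rw [h, one_mul, mul_one]) hab
    · exact absurd (by rw [h]; exact (hcz b hb).symm) hab
  have hcl : Subgroup.closure {a, b} = K := by
    have hle : Subgroup.closure {a, b} ≤ K := by
      rw [Subgroup.closure_le]
      rintro x (rfl | rfl) <;> assumption
    refine Subgroup.eq_of_le_of_card_ge hle ?_
    obtain ⟨i, hi, hi'⟩ := (Nat.dvd_prime_pow Nat.prime_two).mp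
      (show Nat.card (Subgroup.closure {a, b}) ∣ 2 ^ 3 from
        (Subgroup.card_dvd_of_le hle).trans (by rw [h8]; rfl))
    by_cases h3 : i = 3
    · rw [hi', h3, h8]; rfl
    · exfalso
      have hcomm : ∀ u v : Subgroup.closure {a, b}, u * v = v * u := by
        interval_cases i
        · haveI : Subsingleton (Subgroup.closure {a, b}) :=
            (Nat.card_eq_one_iff_unique.mp (by simpa using hi')).1
          exact fun u v => Subsingleton.elim _ _
        · haveI : IsCyclic (Subgroup.closure {a, b}) :=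
            isCyclic_of_prime_card (p := 2) (by simpa using hi')
          letI := IsCyclic.commGroup (α := Subgroup.closure {a, b})
          exact fun u v => mul_comm u v
        · exact fun u v => (IsPGroup.isMulCommutative_of_card_eq_prime_sq hi').is_comm.comm u v
        · exact absurd rfl h3
      exact hab (congrArg Subtype.val (hcomm ⟨a, Subgroup.subset_closure (by simp)⟩
        ⟨b, Subgroup.subset_closure (by simp)⟩))
  refine ⟨hsq, hcz, hcl, ha2, fun y hy hya hyb => ?_⟩
  rcases hsq y hy with h | h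
  · exfalso
    have e : (y * a⁻¹) ^ 2 = 1 := by
      rw [(show Commute y a from hya).inv_right.mul_pow, inv_pow, ha2, h, mul_inv_cancel]
    rcases hu _ (mul_mem hy (inv_mem ha)) e with e1 | e1
    · rw [mul_inv_eq_one] at e1
      subst e1
      exact hab hyb
    · rw [mul_inv_eq_iff_eq_mul] at e1
      subst e1
      apply hab
      have hzb := hcz b hb
      rw [mul_assoc] at hyb
      have : z * (a * b) = z * (b * a) := by rw [hyb, ← mul_assoc, hzb, mul_assoc]
      exact mul_left_cancel this
  · exact h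

/-- The outcome of the analysis. -/
inductive Outcome (φ : Λ →* MulAut X) : Prop
  | comm (h : ∀ x y : X, x * y = y * x)
  | quaternion (W : Subgroup X) (hW : W.index = 2) (hQ : Shape W) (h8 : Nat.card W = 8)
      (c : X) (hc : c ∉ W) (hcW : ∀ w ∈ W, c * w = w * c)
  | special (h : ¬ ∀ x y : X, x * y = y * x) (hs : Cfsg.IsSpecial 2 X)
      (hz : Nat.card (Subgroup.center X) = 2 ∨ Nat.card (Subgroup.center X) = 4)
      (hz2 : ∀ x ∈ Subgroup.center X, x ^ 2 = 1)
      (hfix : ∀ x : X, (∀ l, x⁻¹ * φ l x ∈ Subgroup.center X) → x ∈ Subgroup.center X)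

theorem frattini_lt (hX : IsPGroup 2 X) [Nontrivial X] : frattini X ≠ ⊤ := by
  intro h
  obtain ⟨M, hM, -⟩ := (eq_top_or_exists_le_coatom (⊥ : Subgroup X)).resolve_left bot_ne_top
  exact hM.1 (top_le_iff.mp (h ▸ frattini_le_coatom hM))

/-- The case in which the operators generate the whole group. -/
theorem full_case (hX : IsPGroup 2 X) (hodd : Odd (Nat.card Λ)) (φ : Λ →* MulAut X)
    (hfull : Subgroup.closure (Set.range fun q : X × Λ => q.1⁻¹ * φ q.2 q.1) = ⊤)
    (hna : ¬ ∀ x y : X, x * y = y * x)
    (hshape : ∀ M : Subgroup X, (∀ l, ∀ x ∈ M, φ l x ∈ M) → M ≠ ⊤ →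
      (∃ l, ∃ x ∈ M, φ l x ≠ x) → Shape M)
    (height : ∀ M : Subgroup X, (∀ l, ∀ x ∈ M, φ l x ∈ M) → M ≠ ⊤ → ¬ EightIn M) :
    Outcome φ := by
  classical
  haveI : Fact (Nat.Prime 2) := ⟨Nat.prime_two⟩
  haveI : Nontrivial X := by
    by_contra h
    rw [not_nontrivial_iff_subsingleton] at h
    exact hna fun x y => Subsingleton.elim _ _
  set F := frattini X with hF
  have hFt : F ≠ ⊤ := frattini_lt hX
  have hchar : ∀ (K : Subgroup X) [K.Characteristic], ∀ l, ∀ x ∈ K, φ l x ∈ K := by
    intro K hK l x hx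
    have := Subgroup.characteristic_iff_map_eq.mp hK (φ l)
    exact this ▸ Subgroup.mem_map_of_mem _ hx
  have hgen : ∀ K : Subgroup X, (∀ x l, x⁻¹ * φ l x ∈ K) → K = ⊤ := by
    intro K hK
    rw [← top_le_iff, ← hfull, Subgroup.closure_le]
    rintro _ ⟨⟨x, l⟩, rfl⟩
    exact hK x l
  have hcomF : ∀ x y : X, ⁅x, y⁆ ∈ F := CfsgLib.PGroup.Frattini.commutatorElement_mem_frattini hX
  have hsqF : ∀ x : X, x ^ 2 ∈ F := CfsgLib.PGroup.Frattini.pow_mem_frattini hX
  -- no fixed points modulo the Frattini subgroup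
  have hnofix : ∀ x : X, (∀ l, x⁻¹ * φ l x ∈ F) → x ∈ F := by
    intro x hx
    letI : CommGroup (X ⧸ F) :=
      { (inferInstance : Group (X ⧸ F)) with mul_comm := CfsgLib.PGroup.Frattini.quotient_mul_comm hX }
    letI := Fintype.ofFinite Λ
    let N : X →* X ⧸ F := MonoidHom.mk' (fun y => ∏ l : Λ, QuotientGroup.mk' F (φ l y))
      fun a b => by simp [Finset.prod_mul_distrib]
    have hN : N.ker = ⊤ := hgen _ fun y l => by
      rw [MonoidHom.mem_ker, map_mul, map_inv, inv_mul_eq_one]
      refine (Fintype.prod_equiv (Equiv.mulRight l) _ _ fun m => ?_).symm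
      simp [map_mul]
    have h1 : N x = 1 := MonoidHom.mem_ker.mp (hN ▸ Subgroup.mem_top x)
    have h2 : N x = QuotientGroup.mk' F x ^ Nat.card Λ := by
      show ∏ l : Λ, QuotientGroup.mk' F (φ l x) = _
      rw [Finset.prod_congr rfl (fun l _ => show QuotientGroup.mk' F (φ l x) = QuotientGroup.mk' F x from
        (QuotientGroup.eq.mpr (hx l)).symm), Finset.prod_const,
        Finset.card_univ, Nat.card_eq_fintype_card]
    rw [h1] at h2
    have h3 : (QuotientGroup.mk' F x) ^ 2 = 1 :=
      CfsgLib.PGroup.Frattini.quotient_pow_eq_one hX _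
    have := pow_gcd_eq_one.mpr ⟨h2.symm, h3⟩
    rw [((Nat.coprime_two_left).mpr hodd).symm.gcd_eq_one, pow_one] at this
    exact (QuotientGroup.eq_one_iff x).mp this
  -- the Frattini subgroup is central
  have hFc : F ≤ Subgroup.center X := by
    by_cases htriv : ∀ l, ∀ x ∈ F, φ l x = x
    · intro f hf
      rw [Subgroup.mem_center_iff]
      intro y
      have hK : Subgroup.centralizer (F : Set X) = ⊤ := hgen _ fun x l => by
        rw [Subgroup.mem_centralizer_iff]
        intro g hg
        have e : φ l x * g * (φ l x)⁻¹ = x * g * x⁻¹ := by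
          conv_lhs => rw [← htriv l g hg, ← map_inv, ← map_mul, ← map_mul]
          exact htriv l _ ((inferInstance : F.Normal).conj_mem g hg x)
        calc g * (x⁻¹ * φ l x) = x⁻¹ * (x * g * x⁻¹) * φ l x := by group
          _ = x⁻¹ * φ l x * g := by rw [← e]; group
      exact ((Subgroup.mem_centralizer_iff.mp (hK ▸ Subgroup.mem_top y)) f hf).symm
    · push Not at htriv
      obtain ⟨l, w, hw, hlw⟩ := htriv
      rcases hshape F (hchar F) hFt ⟨l, w, hw, hlw⟩ with ⟨h4, h2⟩ | ⟨h8, ⟨z, hz, hz1, hz2, hu⟩, a, ha, b, hb, hab⟩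
      · intro f hf
        rw [Subgroup.mem_center_iff]
        intro y
        have := inner_mod hX hodd φ F ⊥ bot_le (by rw [h4, Subgroup.card_bot]) (hchar F)
          (fun l z hz => by rw [Subgroup.mem_bot.mp hz, map_one]) ⟨l, w, hw, hlw⟩ y f hf
        rw [Subgroup.mem_bot, inv_mul_eq_one] at this
        calc y * f = y * f * y⁻¹ * y := by group
          _ = f * y := by rw [← this]
      · exfalso
        obtain ⟨hsq, hcz, hcl, ha2, hcent⟩ := quaternion_facts h8 hz hz1 hz2 hu ha hb hab
        have hzn : ∀ y : X, y * z * y⁻¹ = z := fun y =>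
          (hu _ ((inferInstance : F.Normal).conj_mem z hz y) (by rw [conj_pow, hz2, mul_one, mul_inv_cancel])).resolve_left
            fun h => hz1 (by rw [mul_inv_eq_one, mul_eq_left] at h; exact h)
        haveI : (Subgroup.zpowers z).Normal := ⟨fun g hg y => by
          obtain ⟨i, rfl⟩ := hg
          exact ⟨i, by simp only [← conj_zpow, hzn]⟩⟩
        have hzc : Nat.card (Subgroup.zpowers z) = 2 := by
          rw [Nat.card_zpowers, orderOf_eq_prime hz2 hz1]
        have hzf : ∀ l, ∀ g ∈ Subgroup.zpowers z, φ l g = g := by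
          intro l g hg
          obtain ⟨i, rfl⟩ := hg
          have hl : φ l z = z := (hu _ (hchar F l z hz) (by rw [← map_pow, hz2, map_one])).resolve_left
            fun h => hz1 ((φ l).injective (h.trans (map_one _).symm))
          simp only [map_zpow, hl]
        have hmod := inner_mod hX hodd φ F (Subgroup.zpowers z) (Subgroup.zpowers_le.mpr hz)
          (by rw [h8, hzc]) (hchar F) hzf ⟨l, w, hw, hlw⟩
        have htwo : ∀ y : X, ∀ f ∈ F, y * f * y⁻¹ = f ∨ y * f * y⁻¹ = f * z := by
          intro y f hf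
          have hm := hmod y f hf
          have h1 : f⁻¹ * (y * f * y⁻¹) = 1 ∨ f⁻¹ * (y * f * y⁻¹) = z := by
            refine hu _ (mul_mem (inv_mem hf) ((inferInstance : F.Normal).conj_mem f hf y)) ?_
            obtain ⟨i, hi⟩ := hm
            rw [← hi, ← zpow_natCast, ← zpow_mul, mul_comm, zpow_mul, zpow_natCast, hz2, one_zpow]
          exact h1.imp (fun h => (inv_mul_eq_one.mp h).symm) (fun h => inv_mul_eq_iff_eq_mul.mp h)
        have hflip : a * b * a⁻¹ = b * z ∧ b * a * b⁻¹ = a * z :=
          ⟨(htwo a b hb).resolve_left fun h => hab (mul_inv_eq_iff_eq_mul.mp h),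
            (htwo b a ha).resolve_left fun h => hab (mul_inv_eq_iff_eq_mul.mp h).symm⟩
        have hsup : F ⊔ Subgroup.centralizer (F : Set X) = ⊤ := by
          rw [eq_top_iff]
          intro y _
          obtain ⟨v, hv, hva, hvb⟩ : ∃ v ∈ F, (y * v) * a * (y * v)⁻¹ = a ∧
              (y * v) * b * (y * v)⁻¹ = b := by
            have hcj : ∀ v f : X, (y * v) * f * (y * v)⁻¹ = y * (v * f * v⁻¹) * y⁻¹ := fun v f => by group
            have hzz : z * z = 1 := by rw [← pow_two]; exact hz2
            have hyz : ∀ f : X, y * (f * z) * y⁻¹ = y * f * y⁻¹ * z := fun f => by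
              conv_rhs => rw [← hzn y]
              group
            rcases htwo y a ha with e1 | e1 <;> rcases htwo y b hb with e2 | e2
            · exact ⟨1, one_mem F, by rw [mul_one, e1], by rw [mul_one, e2]⟩
            · exact ⟨a, ha, by rw [hcj, mul_inv_cancel_right, e1],
                by rw [hcj, hflip.1, hyz, e2, mul_assoc, hzz, mul_one]⟩
            · exact ⟨b, hb, by rw [hcj, hflip.2, hyz, e1, mul_assoc, hzz, mul_one],
                by rw [hcj, mul_inv_cancel_right, e2]⟩
            · refine ⟨a * b, mul_mem ha hb, ?_, ?_⟩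
              · rw [hcj, show a * b * a * (a * b)⁻¹ = a * (b * a * b⁻¹) * a⁻¹ by group, hflip.2,
                  show a * (a * z) * a⁻¹ = a * a * (z * a⁻¹) by group]
                rw [← hcz a⁻¹ (inv_mem ha), mul_assoc a a, mul_inv_cancel_left, hyz, e1, mul_assoc,
                  hzz, mul_one]
              · rw [hcj, show a * b * b * (a * b)⁻¹ = a * b * a⁻¹ by group, hflip.1, hyz, e2,
                  mul_assoc, hzz, mul_one]
          have hcl' : y * v ∈ Subgroup.centralizer (F : Set X) := by
            have : Subgroup.closure {a, b} ≤ Subgroup.centralizer ({y * v} : Set X) := by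
              rw [Subgroup.closure_le]
              rintro g (rfl | rfl)
              · exact Subgroup.mem_centralizer_singleton_iff.mpr (mul_inv_eq_iff_eq_mul.mp hva).symm
              · exact Subgroup.mem_centralizer_singleton_iff.mpr (mul_inv_eq_iff_eq_mul.mp hvb).symm
            rw [hcl] at this
            rw [Subgroup.mem_centralizer_iff]
            intro g hg
            exact Subgroup.mem_centralizer_singleton_iff.mp (this hg)
          have := Subgroup.mul_mem _ (Subgroup.mem_sup_right (S := F) hcl')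
            (Subgroup.mem_sup_left (T := Subgroup.centralizer (F : Set X)) (inv_mem hv))
          simpa using this
        have htop : Subgroup.centralizer (F : Set X) = ⊤ :=
          frattini_nongenerating (by rw [sup_comm]; exact hsup)
        exact hab (Subgroup.mem_centralizer_iff.mp (htop ▸ Subgroup.mem_top b) a ha)
  -- squares and commutators
  set D := commutator X with hD
  have hDF : D ≤ F := by
    rw [hD, commutator_def, Subgroup.commutator_le]
    exact fun x _ y _ => hcomF x y
  have hsqc : ∀ x y : X, ⁅x, y⁆ ^ 2 = 1 := by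
    intro x y
    have hc1 := Subgroup.mem_center_iff.mp (hFc (hcomF x y))
    have hc2 := Subgroup.mem_center_iff.mp (hFc (hsqF x))
    have e : x * ⁅x, y⁆ * x⁻¹ = ⁅x, y⁆ := by rw [hc1 x, mul_inv_cancel_right]
    calc ⁅x, y⁆ ^ 2 = (x * ⁅x, y⁆ * x⁻¹) * ⁅x, y⁆ := by rw [e, pow_two]
      _ = ⁅x ^ 2, y⁆ := by simp [commutatorElement_def, pow_two, mul_assoc]
      _ = 1 := commutatorElement_eq_one_iff_mul_comm.mpr (hc2 y).symm
  have hD2 : ∀ d ∈ D, d ^ 2 = 1 := by
    intro d hd
    rw [hD, commutator_eq_closure] at hd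
    induction hd using Subgroup.closure_induction with
    | mem g hg => obtain ⟨x, y, rfl⟩ := hg; exact hsqc x y
    | one => exact one_pow 2
    | mul g g' hg hg' e e' =>
      rw [(show Commute g g' from (Subgroup.mem_center_iff.mp (hFc (hDF (by
        rw [hD, commutator_eq_closure]; exact hg')))) g).mul_pow, e, e', one_mul]
    | inv g _ e => rw [inv_pow, e, inv_one]
  have hFD : F = D := by
    refine le_antisymm ?_ hDF
    -- squaring modulo the derived subgroup is an equivariant homomorphism
    letI : CommGroup (X ⧸ D) :=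
      { (inferInstance : Group (X ⧸ D)) with
        mul_comm := fun p r => by
          obtain ⟨p, rfl⟩ := QuotientGroup.mk'_surjective D p
          obtain ⟨r, rfl⟩ := QuotientGroup.mk'_surjective D r
          rw [← commutatorElement_eq_one_iff_mul_comm, ← map_commutatorElement]
          exact (QuotientGroup.eq_one_iff _).mpr
            (Subgroup.commutator_mem_commutator (Subgroup.mem_top p) (Subgroup.mem_top r)) }
    let q : X →* X ⧸ D := (powMonoidHom 2).comp (QuotientGroup.mk' D)
    have hFle : ∀ K : Subgroup X, (∀ x, x ^ 2 ∈ K) → D ≤ K → F ≤ K := by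
      intro K hK hDK
      exact CfsgLib.LocalEven.Residual.frattini_le (p := 2) (fun a b => hDK (Subgroup.commutator_mem_commutator (Subgroup.mem_top a) (Subgroup.mem_top b))) hK
    by_cases htriv : ∀ l, ∀ x ∈ F, φ l x = x
    · have hq : q.ker = ⊤ := hgen _ fun x l => by
        rw [MonoidHom.mem_ker, map_mul, map_inv, inv_mul_eq_one]
        show (QuotientGroup.mk' D x) ^ 2 = (QuotientGroup.mk' D (φ l x)) ^ 2
        rw [← map_pow, ← map_pow, ← map_pow (φ l), htriv l _ (hsqF x)]
      refine hFle D (fun x => ?_) le_rfl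
      have := (MonoidHom.mem_ker (f := q)).mp (hq ▸ Subgroup.mem_top x)
      rw [← QuotientGroup.eq_one_iff]
      exact this
    · push Not at htriv
      obtain ⟨l, w, hw, hlw⟩ := htriv
      rcases hshape F (hchar F) hFt ⟨l, w, hw, hlw⟩ with ⟨h4, h2⟩ | ⟨-, -, a, ha, b, hb, hab⟩
      · obtain ⟨i, hi, hi'⟩ := (Nat.dvd_prime_pow Nat.prime_two).mp
          (show Nat.card D ∣ 2 ^ 2 from (Subgroup.card_dvd_of_le hDF).trans (by rw [h4]; rfl))
        interval_cases i
        · exfalso
          apply hna
          intro x y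
          have : ⁅x, y⁆ ∈ D := Subgroup.commutator_mem_commutator (Subgroup.mem_top x) (Subgroup.mem_top y)
          have hD1 : D = ⊥ := Subgroup.card_eq_one.mp (by simpa using hi')
          rw [hD1, Subgroup.mem_bot] at this
          exact commutatorElement_eq_one_iff_mul_comm.mp this
        · exfalso
          rw [pow_one] at hi'
          have hDfix : ∀ m, ∀ d ∈ D, φ m d = d := by
            intro m d hd
            by_cases hd1 : d = 1
            · rw [hd1, map_one]
            · have hmd := hchar D m d hd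
              by_contra hne
              letI := Fintype.ofFinite D
              have h2' : Fintype.card D = 2 := by rw [← Nat.card_eq_fintype_card, hi']
              have h3' : 2 < Fintype.card D := Fintype.two_lt_card_iff.mpr
                ⟨1, ⟨d, hd⟩, ⟨φ m d, hmd⟩, fun h => hd1 (congrArg Subtype.val h).symm,
                  fun h => hd1 ((φ m).injective (by rw [map_one]; exact (congrArg Subtype.val h).symm)),
                  fun h => hne (congrArg Subtype.val h).symm⟩
              omega
          have hDf : D.relIndex F = 2 := by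
            have := Subgroup.card_mul_index (D.subgroupOf F)
            rw [Nat.card_congr (Subgroup.subgroupOfEquivOfLe hDF).toEquiv, hi', h4] at this
            change 2 * D.relIndex F = 4 at this
            omega
          have hbot : (⊥ : Subgroup X).relIndex D = 2 := by rw [Subgroup.relIndex_bot_left, hi']
          have := two_cosets hodd φ (Z := ⊥) bot_le hDF
            (fun m g hg => by rw [Subgroup.mem_bot.mp hg, map_one]; exact one_mem _)
            (hchar D) (hchar F) hbot hDf l w hw
          rw [Subgroup.mem_bot, inv_mul_eq_one] at this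
          exact hlw this.symm
        · exact (Subgroup.eq_of_le_of_card_ge hDF (by rw [hi', h4]; rfl)).ge
      · exact absurd (Subgroup.mem_center_iff.mp (hFc hb) a) hab
  have hF2 : ∀ f ∈ F, f ^ 2 = 1 := fun f hf => hD2 f (hFD ▸ hf)
  -- the centre
  set C := Subgroup.center X with hC
  have hCt : C ≠ ⊤ := fun h => hna fun x y => (Subgroup.mem_center_iff.mp (show y ∈ Subgroup.center X by rw [← hC, h]; exact Subgroup.mem_top y)) x
  have hCF : C = F := by
    refine le_antisymm (fun x hx => hnofix x fun l => ?_) hFc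
    by_cases htriv : ∀ m, ∀ g ∈ C, φ m g = g
    · rw [htriv l x hx, inv_mul_cancel]; exact one_mem _
    · push Not at htriv
      obtain ⟨m, w, hw, hmw⟩ := htriv
      rcases hshape C (hchar C) hCt ⟨m, w, hw, hmw⟩ with ⟨h4, h2⟩ | ⟨-, -, a, ha, b, hb, hab⟩
      · obtain ⟨i, hi, hi'⟩ := (Nat.dvd_prime_pow Nat.prime_two).mp
          (show Nat.card F ∣ 2 ^ 2 from (Subgroup.card_dvd_of_le hFc).trans (by rw [h4]; rfl))
        interval_cases i
        · exfalso
          apply hna
          intro x y
          have := hcomF x y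
          have hF1 : F = ⊥ := Subgroup.card_eq_one.mp (by simpa using hi')
          rw [hF1, Subgroup.mem_bot] at this
          exact commutatorElement_eq_one_iff_mul_comm.mp this
        · exfalso
          rw [pow_one] at hi'
          have hf : F.relIndex C = 2 := by
            have := Subgroup.card_mul_index (F.subgroupOf C)
            rw [Nat.card_congr (Subgroup.subgroupOfEquivOfLe hFc).toEquiv, hi', h4] at this
            change 2 * F.relIndex C = 4 at this
            omega
          have hbot : (⊥ : Subgroup X).relIndex F = 2 := by rw [Subgroup.relIndex_bot_left, hi']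
          have := two_cosets hodd φ (Z := ⊥) bot_le hFc
            (fun m g hg => by rw [Subgroup.mem_bot.mp hg, map_one]; exact one_mem _)
            (hchar F) (hchar C) hbot hf m w hw
          rw [Subgroup.mem_bot, inv_mul_eq_one] at this
          exact hmw this.symm
        · have := Subgroup.eq_of_le_of_card_ge hFc (by rw [hi', h4]; rfl)
          rw [this]
          exact mul_mem (inv_mem hx) (hchar C l x hx)
      · exact absurd (Subgroup.mem_center_iff.mp hb a) hab
  refine Outcome.special hna ⟨hX, by rw [← hF]; exact hCF.symm, by rw [← hD]; exact (hCF.trans hFD).symm⟩ ?_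
    (fun x hx => hF2 x (hCF.le hx)) (fun x hx => hCF.ge (hnofix x (fun l => hCF.le (hx l))))
  obtain ⟨i, hi⟩ := IsPGroup.iff_card.mp (hX.to_subgroup C)
  have hi0 : i ≠ 0 := fun h0 => by
    rw [h0, pow_zero] at hi
    haveI := hX.center_nontrivial
    exact absurd hi (Finite.one_lt_card (α := C)).ne'
  have hi2 : i ≤ 2 := by
    by_contra hcon
    have h8 : 8 ≤ Nat.card C := by
      rw [hi]; exact le_trans (by norm_num) (Nat.pow_le_pow_right two_pos (by omega : 3 ≤ i))
    have hncyc : ¬ IsCyclic C := fun hc => by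
      obtain ⟨g, hg⟩ := hc.exists_generator
      have h1 : orderOf g ∣ 2 := orderOf_dvd_iff_pow_eq_one.mpr (Subtype.ext (hF2 g (hCF ▸ g.2)))
      rw [orderOf_eq_card_of_forall_mem_zpowers hg] at h1
      have := Nat.le_of_dvd two_pos h1
      omega
    obtain ⟨u, hu, v, hv, h1, h2, h3, h4, h5⟩ := exists_two_involutions hX C
      (fun a ha b _ => (Subgroup.mem_center_iff.mp ha b).symm) hncyc
    exact height C (hchar C) hCt (eightIn_of hX C le_rfl
      (fun a ha b _ => (Subgroup.mem_center_iff.mp ha b).symm) h8 hu hv h1 h2 h3 h4 h5)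
  rw [hi]
  interval_cases i
  · exact absurd rfl hi0
  · exact Or.inl rfl
  · exact Or.inr rfl

/-- The main dichotomy. -/
theorem analyse (hX : IsPGroup 2 X) (hodd : Odd (Nat.card Λ)) (φ : Λ →* MulAut X)
    (hnt : ∃ l, ∃ x : X, φ l x ≠ x)
    (hshape : ∀ M : Subgroup X, (∀ l, ∀ x ∈ M, φ l x ∈ M) → M ≠ ⊤ →
      (∃ l, ∃ x ∈ M, φ l x ≠ x) → Shape M)
    (height : ∀ M : Subgroup X, (∀ l, ∀ x ∈ M, φ l x ∈ M) → M ≠ ⊤ → ¬ EightIn M) :
    Outcome φ := by
  classical
  haveI : Fact (Nat.Prime 2) := ⟨Nat.prime_two⟩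
  set W := Subgroup.closure (Set.range fun q : X × Λ => q.1⁻¹ * φ q.2 q.1) with hW
  have hgen : ∀ x l, x⁻¹ * φ l x ∈ W := fun x l => Subgroup.subset_closure ⟨(x, l), rfl⟩
  by_cases hWt : W = ⊤
  · by_cases hna : ∀ x y : X, x * y = y * x
    · exact Outcome.comm hna
    · exact full_case hX hodd φ hWt hna hshape height
  have hWi : ∀ l, ∀ w ∈ W, φ l w ∈ W := by
    intro l w hw
    have : φ l w = w * (w⁻¹ * φ l w) := by rw [mul_inv_cancel_left]
    rw [this]
    exact mul_mem hw (hgen w l)
  haveI hWn : W.Normal := ⟨fun w hw y => by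
    induction hw using Subgroup.closure_induction with
    | mem g hg =>
      obtain ⟨⟨x, l⟩, rfl⟩ := hg
      have e : y * (x⁻¹ * φ l x) * y⁻¹ =
          ((x * y⁻¹)⁻¹ * φ l (x * y⁻¹)) * ((y⁻¹)⁻¹ * φ l y⁻¹)⁻¹ := by
        simp [mul_assoc]
      rw [e]
      exact mul_mem (hgen _ _) (inv_mem (hgen _ _))
    | one => simp
    | mul a b _ _ ha hb =>
      rw [show y * (a * b) * y⁻¹ = (y * a * y⁻¹) * (y * b * y⁻¹) by group]
      exact mul_mem ha hb
    | inv a _ ha =>
      rw [show y * a⁻¹ * y⁻¹ = (y * a * y⁻¹)⁻¹ by group]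
      exact inv_mem ha⟩
  have hWnt : ∃ l, ∃ x ∈ W, φ l x ≠ x := by
    by_contra hcon
    push Not at hcon
    obtain ⟨l, x, hlx⟩ := hnt
    have := eq_one_of_stab hX hodd φ l (w := x) (z := x⁻¹ * φ l x) (by rw [mul_inv_cancel_left])
      (hcon l _ (hgen x l))
    exact hlx (inv_mul_eq_one.mp this).symm
  have hWs := hshape W hWi hWt hWnt
  -- a subgroup above `W`
  haveI : Nontrivial (X ⧸ W) := by
    rw [← Finite.one_lt_card_iff_nontrivial]
    have : 1 ≤ W.index := Nat.pos_of_ne_zero Subgroup.index_ne_zero_of_finite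
    rcases Nat.lt_or_ge 1 W.index with h | h
    · exact h
    · exact absurd (Subgroup.index_eq_one.mp (by omega)) hWt
  obtain ⟨cb, hcb⟩ : ∃ cb : X ⧸ W, orderOf cb = 2 := by
    obtain ⟨n, hn, hcard⟩ := (hX.to_quotient W).nontrivial_iff_card.mp inferInstance
    exact exists_prime_orderOf_dvd_card' 2 (hcard ▸ dvd_pow_self 2 hn.ne')
  set M := (Subgroup.zpowers cb).comap (QuotientGroup.mk' W) with hM
  have hWM : W ≤ M := fun w hw => by
    show QuotientGroup.mk' W w ∈ Subgroup.zpowers cb
    rw [show QuotientGroup.mk' W w = 1 from (QuotientGroup.eq_one_iff w).mpr hw]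
    exact one_mem _
  have hMi : ∀ l, ∀ x ∈ M, φ l x ∈ M := by
    intro l x hx
    have : φ l x = x * (x⁻¹ * φ l x) := by rw [mul_inv_cancel_left]
    rw [this]
    exact mul_mem hx (hWM (hgen x l))
  obtain ⟨c, hcc⟩ := QuotientGroup.mk'_surjective W cb
  have hcM : c ∈ M := by show QuotientGroup.mk' W c ∈ Subgroup.zpowers cb; rw [hcc]; exact Subgroup.mem_zpowers _
  have hcW : c ∉ W := fun h => by
    rw [← hcc, show QuotientGroup.mk' W c = 1 from (QuotientGroup.eq_one_iff c).mpr h,
      orderOf_one] at hcb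
    omega
  have hMcard : Nat.card M = 2 * Nat.card W := by
    have h1 := Subgroup.card_mul_index (W.subgroupOf M)
    rw [Nat.card_congr (Subgroup.subgroupOfEquivOfLe hWM).toEquiv] at h1
    change Nat.card W * W.relIndex M = _ at h1
    have h2 : W.relIndex M = 2 := by
      have := Subgroup.relIndex_ker (K := M) (QuotientGroup.mk' W)
      rw [QuotientGroup.ker_mk'] at this
      rw [this, hM, Subgroup.map_comap_eq_self_of_surjective (QuotientGroup.mk'_surjective W),
        Nat.card_zpowers, hcb]
    rw [h2] at h1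
    omega
  have hMtop : M = ⊤ := by
    by_contra hMt
    have hMnt : ∃ l, ∃ x ∈ M, φ l x ≠ x := by
      obtain ⟨l, x, hx, h⟩ := hWnt; exact ⟨l, x, hWM hx, h⟩
    rcases hshape M hMi hMt hMnt with ⟨h4, -⟩ | ⟨h8, ⟨z, hz, hz1, hz2, hu⟩, -⟩
    · have := shape_two_le hWs
      omega
    · rcases hWs with ⟨h4, h2⟩ | ⟨h8', -⟩
      · letI := Fintype.ofFinite W
        obtain ⟨p, r, s, hpr, hps, hrs⟩ := Fintype.two_lt_card_iff.mp
          (show 2 < Fintype.card W by rw [← Nat.card_eq_fintype_card, h4]; norm_num)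
        rcases hu p (hWM p.2) (h2 p p.2) with e1 | e1 <;> rcases hu r (hWM r.2) (h2 r r.2) with e2 | e2 <;>
          rcases hu s (hWM s.2) (h2 s s.2) with e3 | e3
        all_goals first
          | exact hpr (Subtype.ext (e1.trans e2.symm))
          | exact hps (Subtype.ext (e1.trans e3.symm))
          | exact hrs (Subtype.ext (e2.trans e3.symm))
      · omega
  have hidx : W.index = 2 := by
    have := W.card_mul_index
    rw [← Subgroup.card_top (G := X), ← hMtop, hMcard, mul_comm 2] at this
    exact Nat.eq_of_mul_eq_mul_left Nat.card_pos this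
  rcases hWs with ⟨h4, h2⟩ | ⟨h8, ⟨z, hz, hz1, hz2, hu⟩, a, ha, b, hb, hab⟩
  · refine Outcome.comm ?_
    have hcent : ∀ x, ∀ w ∈ W, x * w = w * x := by
      intro x w hw
      have := inner_mod hX hodd φ W ⊥ bot_le (by rw [h4, Subgroup.card_bot]) hWi
        (fun l z hz => by rw [Subgroup.mem_bot.mp hz, map_one]) hWnt x w hw
      rw [Subgroup.mem_bot, inv_mul_eq_one] at this
      calc x * w = x * w * x⁻¹ * x := by group
        _ = w * x := by rw [← this]
    have hdec : ∀ x, ∃ w ∈ W, x = w ∨ x = c * w := by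
      intro x
      by_cases hx : x ∈ W
      · exact ⟨x, hx, Or.inl rfl⟩
      · refine ⟨c⁻¹ * x, ?_, Or.inr (mul_inv_cancel_left c x).symm⟩
        rw [Subgroup.mul_mem_iff_of_index_two hidx, inv_mem_iff]
        exact iff_of_false hcW hx
    intro x y
    obtain ⟨w, hw, rfl | rfl⟩ := hdec x
    · exact (hcent y _ hw).symm
    obtain ⟨w', hw', rfl | rfl⟩ := hdec y
    · exact hcent _ _ hw'
    · calc c * w * (c * w') = c * ((w * c) * w') := by group
        _ = c * (c * (w * w')) := by rw [← hcent c w hw, mul_assoc]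
        _ = c * (c * (w' * w)) := by rw [hcent w w' hw']
        _ = c * ((w' * c) * w) := by rw [← hcent c w' hw', mul_assoc]
        _ = c * w' * (c * w) := by group
  · obtain ⟨hsq, hcz, hcl, ha2, hcent⟩ := quaternion_facts h8 hz hz1 hz2 hu ha hb hab
    have hzn : ∀ y : X, y * z * y⁻¹ = z := fun y =>
      (hu _ (hWn.conj_mem z hz y) (by rw [conj_pow, hz2, mul_one, mul_inv_cancel])).resolve_left
        fun h => hz1 (by rw [mul_inv_eq_one, mul_eq_left] at h; exact h)
    haveI : (Subgroup.zpowers z).Normal := ⟨fun g hg y => by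
      obtain ⟨i, rfl⟩ := hg
      exact ⟨i, by simp only [← conj_zpow, hzn]⟩⟩
    have hzf : ∀ l, ∀ g ∈ Subgroup.zpowers z, φ l g = g := by
      intro l g hg
      obtain ⟨i, rfl⟩ := hg
      have hl : φ l z = z := (hu _ (hWi l z hz) (by rw [← map_pow, hz2, map_one])).resolve_left
        fun h => hz1 ((φ l).injective (h.trans (map_one _).symm))
      simp only [map_zpow, hl]
    have hmod := inner_mod hX hodd φ W (Subgroup.zpowers z) (Subgroup.zpowers_le.mpr hz)
      (by rw [h8, Nat.card_zpowers, orderOf_eq_prime hz2 hz1]) hWi hzf hWnt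
    have htwo : ∀ y : X, ∀ f ∈ W, y * f * y⁻¹ = f ∨ y * f * y⁻¹ = f * z := by
      intro y f hf
      have h1 : f⁻¹ * (y * f * y⁻¹) = 1 ∨ f⁻¹ * (y * f * y⁻¹) = z := by
        refine hu _ (mul_mem (inv_mem hf) (hWn.conj_mem f hf y)) ?_
        obtain ⟨i, hi⟩ := hmod y f hf
        rw [← hi, ← zpow_natCast, ← zpow_mul, mul_comm, zpow_mul, zpow_natCast, hz2, one_zpow]
      exact h1.imp (fun h => (inv_mul_eq_one.mp h).symm) (fun h => inv_mul_eq_iff_eq_mul.mp h)
    have hfl1 : a * b * a⁻¹ = b * z :=
      (htwo a b hb).resolve_left fun h => hab (mul_inv_eq_iff_eq_mul.mp h)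
    have hfl2 : b * a * b⁻¹ = a * z :=
      (htwo b a ha).resolve_left fun h => hab (mul_inv_eq_iff_eq_mul.mp h).symm
    have hzz : z * z = 1 := by rw [← pow_two]; exact hz2
    have hcj : ∀ v f : X, (c * v) * f * (c * v)⁻¹ = c * (v * f * v⁻¹) * c⁻¹ := fun v f => by group
    have hyz : ∀ f : X, c * (f * z) * c⁻¹ = c * f * c⁻¹ * z := fun f => by
      conv_rhs => rw [← hzn c]
      group
    obtain ⟨v, hv, hva, hvb⟩ : ∃ v ∈ W, (c * v) * a * (c * v)⁻¹ = a ∧
        (c * v) * b * (c * v)⁻¹ = b := by
      rcases htwo c a ha with e1 | e1 <;> rcases htwo c b hb with e2 | e2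
      · exact ⟨1, one_mem W, by rw [mul_one, e1], by rw [mul_one, e2]⟩
      · exact ⟨a, ha, by rw [hcj, mul_inv_cancel_right, e1],
          by rw [hcj, hfl1, hyz, e2, mul_assoc, hzz, mul_one]⟩
      · exact ⟨b, hb, by rw [hcj, hfl2, hyz, e1, mul_assoc, hzz, mul_one],
          by rw [hcj, mul_inv_cancel_right, e2]⟩
      · refine ⟨a * b, mul_mem ha hb, ?_, ?_⟩
        · rw [hcj, show a * b * a * (a * b)⁻¹ = a * (b * a * b⁻¹) * a⁻¹ by group, hfl2,
            show a * (a * z) * a⁻¹ = a * a * (z * a⁻¹) by group]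
          rw [← hcz a⁻¹ (inv_mem ha), mul_assoc a a, mul_inv_cancel_left, hyz, e1, mul_assoc,
            hzz, mul_one]
        · rw [hcj, show a * b * b * (a * b)⁻¹ = a * b * a⁻¹ by group, hfl1, hyz, e2,
            mul_assoc, hzz, mul_one]
    refine Outcome.quaternion W hidx (Or.inr ⟨h8, ⟨z, hz, hz1, hz2, hu⟩, a, ha, b, hb, hab⟩) h8
      (c * v) (fun h => hcW ((Subgroup.mul_mem_cancel_right W hv).mp h)) ?_
    intro w hw
    have : Subgroup.closure {a, b} ≤ Subgroup.centralizer ({c * v} : Set X) := by
      rw [Subgroup.closure_le]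
      rintro g (rfl | rfl)
      · exact Subgroup.mem_centralizer_singleton_iff.mpr (mul_inv_eq_iff_eq_mul.mp hva).symm
      · exact Subgroup.mem_centralizer_singleton_iff.mpr (mul_inv_eq_iff_eq_mul.mp hvb).symm
    rw [hcl] at this
    exact (Subgroup.mem_centralizer_singleton_iff.mp (this hw)).symm

/-- A two-group without a noncyclic abelian subgroup of order eight that is moved by a group of
automorphisms of odd order is a four-group or a quaternion group of order eight. -/
theorem shape_of_no_eight (hX : IsPGroup 2 X) (hodd : Odd (Nat.card Λ)) (φ : Λ →* MulAut X)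
    (K : Subgroup X) (hKi : ∀ l, ∀ x ∈ K, φ l x ∈ K) (hnt : ∃ l, ∃ x ∈ K, φ l x ≠ x)
    (h8 : ¬ EightIn K) : Shape K := by
  classical
  haveI : Fact (Nat.Prime 2) := ⟨Nat.prime_two⟩
  induction hn : Nat.card K using Nat.strong_induction_on generalizing K with
  | _ n IH =>
  subst hn
  have hinv : ∀ l, ∀ x ∈ K, φ l⁻¹ x ∈ K := fun l => hKi l⁻¹
  let ψ : Λ →* MulAut K :=
    { toFun := fun l =>
        { toFun := fun x => ⟨φ l x, hKi l x x.2⟩
          invFun := fun x => ⟨φ l⁻¹ x, hinv l x x.2⟩
          left_inv := fun x => Subtype.ext (by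
            show φ l⁻¹ (φ l x) = x
            rw [← MulAut.mul_apply, ← map_mul, inv_mul_cancel, map_one, MulAut.one_apply])
          right_inv := fun x => Subtype.ext (by
            show φ l (φ l⁻¹ x) = x
            rw [← MulAut.mul_apply, ← map_mul, mul_inv_cancel, map_one, MulAut.one_apply])
          map_mul' := fun x y => Subtype.ext (map_mul (φ l) (x : X) y) }
      map_one' := MulEquiv.ext fun x => Subtype.ext (by show φ 1 (x : X) = x; simp)
      map_mul' := fun l m => MulEquiv.ext fun x => Subtype.ext (by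
        show φ (l * m) (x : X) = φ l (φ m x); simp) }
  have hK8 : ¬ EightIn (⊤ : Subgroup K) := fun h => h8
    ((eightIn_map K.subtype K.subtype_injective h).mono (Subgroup.map_subtype_le _))
  have hout := analyse (hX.to_subgroup K) hodd ψ
    (by obtain ⟨l, x, hx, h⟩ := hnt; exact ⟨l, ⟨x, hx⟩, fun e => h (congrArg Subtype.val e)⟩)
    (fun M hMi hMt hMnt => by
      have hlt : Nat.card (M.map K.subtype) < Nat.card K := by
        rw [← Nat.card_congr (Subgroup.equivMapOfInjective M K.subtype K.subtype_injective).toEquiv]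
        exact lt_of_le_of_ne (Subgroup.card_le_card_group M)
          fun e => hMt (Subgroup.eq_top_of_card_eq M e)
      have hs := IH _ hlt (M.map K.subtype)
        (fun l x hx => by
          obtain ⟨x, hx, rfl⟩ := hx
          exact ⟨ψ l x, hMi l x hx, rfl⟩)
        (by
          obtain ⟨l, x, hx, h⟩ := hMnt
          exact ⟨l, x, ⟨x, hx, rfl⟩, fun e => h (Subtype.ext e)⟩)
        (fun h => h8 (h.mono (Subgroup.map_subtype_le _))) rfl
      -- pull back
      rcases hs with ⟨h4, h2⟩ | ⟨hc, ⟨z, ⟨z', hz', rfl⟩, hz1, hz2, hu⟩, a, ⟨a', ha', rfl⟩, b,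
          ⟨b', hb', rfl⟩, hab⟩
      · refine Or.inl ⟨?_, fun x hx => Subtype.ext (by
          simpa using h2 x ⟨x, hx, rfl⟩)⟩
        rw [← h4]
        exact Nat.card_congr (Subgroup.equivMapOfInjective M K.subtype K.subtype_injective).toEquiv
      · refine Or.inr ⟨?_, ⟨z', hz', fun e => hz1 (by rw [e, map_one]), Subtype.ext (by
          simpa using hz2), fun x hx h => ?_⟩, a', ha', b', hb', fun e => hab ?_⟩
        · rw [← hc]
          exact Nat.card_congr (Subgroup.equivMapOfInjective M K.subtype K.subtype_injective).toEquiv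
        · rcases hu x ⟨x, hx, rfl⟩ (by simpa using congrArg Subtype.val h) with e | e
          · exact Or.inl (Subtype.ext e)
          · exact Or.inr (Subtype.ext e)
        · simpa using congrArg Subtype.val e)
    (fun M _ _ h => hK8 (h.mono le_top))
  have hXK := hX.to_subgroup K
  rcases hout with hc | ⟨W, hidx, hQ, hW8, c, hcW, hcw⟩ | ⟨hna, hs, hz, hz2, hfix⟩
  · -- commutative
    have hc' : ∀ a ∈ K, ∀ b ∈ K, a * b = b * a := fun a ha b hb =>
      congrArg Subtype.val (hc ⟨a, ha⟩ ⟨b, hb⟩)
    have hncyc : ¬ IsCyclic K := by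
      intro hcy
      obtain ⟨g, hg⟩ := hcy.exists_generator
      obtain ⟨l, x, hx, hlx⟩ := hnt
      haveI : Nontrivial K := ⟨⟨⟨x, hx⟩, 1, fun e => hlx (by
        have : x = 1 := congrArg Subtype.val e
        rw [this, map_one])⟩⟩
      -- squares form an invariant subgroup of index two
      obtain ⟨k, hk⟩ := IsPGroup.iff_card.mp hXK
      obtain ⟨i, hi⟩ : ∃ i : ℤ, g ^ i = ψ l g := hg (ψ l g)
      have hall : ∀ j : ℕ, (ψ (l ^ j)) g = g ^ (i ^ j) := by
        intro j
        induction j with
        | zero => simp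
        | succ j ih =>
          rw [pow_succ', map_mul, MulAut.mul_apply, ih, map_zpow, ← hi, ← zpow_mul, pow_succ']
      have h1 := hall (Nat.card Λ)
      rw [pow_card_eq_one', map_one, MulAut.one_apply] at h1
      have hog : orderOf g = 2 ^ k := by rw [orderOf_eq_card_of_forall_mem_zpowers hg, hk]
      have h2 : ((2 ^ k : ℕ) : ℤ) ∣ i ^ Nat.card Λ - 1 := by
        rw [← hog, orderOf_dvd_iff_zpow_eq_one, zpow_sub, zpow_one, ← h1, mul_inv_cancel]
      have h3 : ((2 ^ k : ℕ) : ℤ) ∣ i - 1 := by
        have hgs := geom_sum_mul i (Nat.card Λ)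
        rw [← hgs] at h2
        have hk1 : k ≠ 0 := fun h0 => by
          rw [h0, pow_zero] at hk
          exact absurd hk (Finite.one_lt_card (α := K)).ne'
        have hi_odd : Odd i := by
          by_contra hev
          rw [Int.not_odd_iff_even] at hev
          have he : Even (i ^ Nat.card Λ) := hev.pow_of_ne_zero Nat.card_pos.ne'
          have h2' : (2 : ℤ) ∣ i ^ Nat.card Λ - 1 := by
            rw [← hgs]
            exact dvd_trans (by push_cast; exact dvd_pow_self 2 hk1) h2
          obtain ⟨r, hr⟩ := h2'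
          obtain ⟨r', hr'⟩ := he
          omega
        have hS : Odd (∑ j ∈ Finset.range (Nat.card Λ), i ^ j) := by
          have key : ∀ n : ℕ, (∑ j ∈ Finset.range n, i ^ j) % 2 = (n : ℤ) % 2 := by
            intro n
            induction n with
            | zero => simp
            | succ n ih =>
              have h1 : i ^ n % 2 = 1 := Int.odd_iff.mp hi_odd.pow
              rw [Finset.sum_range_succ]
              push_cast
              omega
          rw [Int.odd_iff, key]
          obtain ⟨t, ht⟩ := hodd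
          omega
        push_cast at h2 ⊢
        exact ((IsCoprime.pow_left (Int.prime_two.coprime_iff_not_dvd.mpr
          (by rwa [← even_iff_two_dvd, Int.not_even_iff_odd]))).dvd_of_dvd_mul_left h2)
      have hgfix : ψ l g = g := by
        rw [← hi]
        rw [← hog, orderOf_dvd_iff_zpow_eq_one, zpow_sub, zpow_one, mul_inv_eq_one] at h3
        exact h3
      obtain ⟨j, hj⟩ := hg ⟨x, hx⟩
      have hj' : g ^ j = ⟨x, hx⟩ := hj
      apply hlx
      have hfx : ψ l ⟨x, hx⟩ = ⟨x, hx⟩ := by rw [← hj', map_zpow, hgfix]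
      exact congrArg Subtype.val hfx
    obtain ⟨u, hu, v, hv, h1, h2, h3, h4, h5⟩ := exists_two_involutions hX K hc' hncyc
    have hle : Nat.card K < 8 := lt_of_not_ge fun h => h8
      (eightIn_of hX K le_rfl hc' h hu hv h1 h2 h3 h4 h5)
    obtain ⟨k, hk⟩ := IsPGroup.iff_card.mp hXK
    have hk2 : k = 2 := by
      have hk' : k < 3 := (Nat.pow_lt_pow_iff_right (by norm_num : 1 < 2)).mp (show 2 ^ k < 2 ^ 3 by omega)
      interval_cases k
      · haveI : Subsingleton K := Finite.card_le_one_iff_subsingleton.mp (by simpa using hk.le)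
        exact absurd (congrArg Subtype.val (Subsingleton.elim (⟨u, hu⟩ : K) 1)) h3
      · exact absurd (isCyclic_of_prime_card (p := 2) (by simpa using hk)) hncyc
      · rfl
    refine Or.inl ⟨by rw [hk, hk2]; rfl, fun x hx => ?_⟩
    by_contra hx2
    apply hncyc
    refine isCyclic_of_orderOf_eq_card (⟨x, hx⟩ : K) ?_
    rw [hk, hk2, Subgroup.orderOf_mk]
    obtain ⟨i, hi, hi'⟩ := (Nat.dvd_prime_pow Nat.prime_two).mp
      (show orderOf x ∣ 2 ^ 2 by
        have := K.orderOf_dvd_natCard hx
        rwa [hk, hk2] at this)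
    rw [hi']
    interval_cases i
    · exact absurd (by simp [orderOf_eq_one_iff.mp (by simpa using hi')]) hx2
    · exact absurd (orderOf_dvd_iff_pow_eq_one.mp (by rw [hi']; simp)) hx2
    · rfl
  · -- a quaternion subgroup with a centralizing element gives a subgroup of order eight
    exfalso
    apply hK8
    rcases hQ with ⟨h4, -⟩ | ⟨-, ⟨z, hz, hz1, hz2, hu⟩, a, ha, b, hb, hab⟩
    · omega
    obtain ⟨hsq, hcz, hcl, ha2, hcent⟩ := quaternion_facts hW8 hz hz1 hz2 hu ha hb hab
    have hc2 : c ^ 2 = 1 ∨ c ^ 2 = z := by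
      have h2W : c ^ 2 ∈ W := by
        rw [pow_two, Subgroup.mul_mem_iff_of_index_two hidx]
      exact hcent _ h2W ((show Commute c a from hcw a ha).pow_left 2)
        ((show Commute c b from hcw b hb).pow_left 2)
    have hca : c * a = a * c := hcw a ha
    obtain ⟨t, htW, ht2, htA⟩ : ∃ t, t ∉ W ∧ t ^ 2 = 1 ∧ t * a = a * t := by
      rcases hc2 with h | h
      · exact ⟨c, hcW, h, hca⟩
      · refine ⟨a * c, fun hh => hcW ((Subgroup.mul_mem_cancel_left W ha).mp hh), ?_, ?_⟩
        · rw [(show Commute a c from hca.symm).mul_pow, ha2, h, ← pow_two, hz2]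
        · rw [mul_assoc, hca]
    set A := Subgroup.closure ({a, t} : Set K) with hA
    have hAc : IsMulCommutative A := Subgroup.isMulCommutative_closure (by
      rintro p (rfl | rfl) r (rfl | rfl)
      · rfl
      · exact htA.symm
      · exact htA
      · rfl)
    have hAcomm : ∀ p ∈ A, ∀ r ∈ A, p * r = r * p := fun p hp r hr =>
      congrArg Subtype.val (hAc.is_comm.comm ⟨p, hp⟩ ⟨r, hr⟩)
    have haA : a ∈ A := Subgroup.subset_closure (by simp)
    have htA' : t ∈ A := Subgroup.subset_closure (by simp)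
    have hord : orderOf a = 4 := by
      refine orderOf_eq_prime_pow (p := 2) (n := 1) ?_ ?_
      · rw [pow_one, ha2]; exact hz1
      · show a ^ (2 ^ 2) = 1
        rw [show (2 : ℕ) ^ 2 = 2 * 2 from rfl, pow_mul, ha2, hz2]
    have h8A : 8 ≤ Nat.card A := by
      have hz' : Subgroup.zpowers a ≤ A := Subgroup.zpowers_le.mpr haA
      obtain ⟨m, hm⟩ := Subgroup.card_dvd_of_le hz'
      rw [Nat.card_zpowers, hord] at hm
      have : m ≠ 1 := fun h1 => by
        rw [h1, mul_one] at hm
        have := Subgroup.eq_of_le_of_card_ge hz' (by rw [Nat.card_zpowers, hord, hm])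
        rw [← this] at htA'
        exact htW ((Subgroup.zpowers_le.mpr ha) htA')
      have hm0 : m ≠ 0 := fun h0 => by rw [h0, mul_zero] at hm; exact Nat.card_pos.ne' hm
      omega
    refine eightIn_of hXK A le_top hAcomm h8A (u := a ^ 2) (v := t) (pow_mem haA 2) htA'
      (by rw [ha2]; exact hz2) ht2 (by rw [ha2]; exact hz1) (fun e => htW (e ▸ one_mem W))
      (fun e => htW (e ▸ pow_mem ha 2))
  · -- special: only the quaternion group remains
    haveI : Nontrivial K := by
      by_contra h
      rw [not_nontrivial_iff_subsingleton] at h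
      exact hna fun x y => Subsingleton.elim _ _
    obtain ⟨-, hfr, hder⟩ := hs
    have hsqc : ∀ x : K, x ^ 2 ∈ Subgroup.center K := fun x => hfr ▸
      CfsgLib.PGroup.Frattini.pow_mem_frattini hXK x
    obtain ⟨y, hy⟩ : ∃ y : K, y ∉ Subgroup.center K := by
      by_contra hcon
      push Not at hcon
      exact hna fun x y => Subgroup.mem_center_iff.mp (hcon y) x
    rcases hz with hz | hz
    · obtain ⟨z, hzC, hz1⟩ : ∃ z ∈ Subgroup.center K, z ≠ 1 :=
        (Subgroup.bot_or_exists_ne_one _).resolve_left fun h => by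
          rw [h, Subgroup.card_bot] at hz; omega
      have hzu : ∀ w ∈ Subgroup.center K, w = 1 ∨ w = z := by
        intro w hw
        by_contra hcon
        push Not at hcon
        letI := Fintype.ofFinite (Subgroup.center K)
        have h3 := Fintype.two_lt_card_iff.mpr (⟨1, ⟨z, hzC⟩, ⟨w, hw⟩,
          fun e => hz1 (congrArg Subtype.val e).symm, fun e => hcon.1 (congrArg Subtype.val e).symm,
          fun e => hcon.2 (congrArg Subtype.val e).symm⟩ :
          ∃ p r s : Subgroup.center K, p ≠ r ∧ p ≠ s ∧ r ≠ s)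
        rw [← Nat.card_eq_fintype_card] at h3
        omega
      have hcen : ∀ u : K, u ∉ Subgroup.center K →
          (Subgroup.centralizer ({u} : Set K)).index ≤ 2 := by
        intro u _
        rw [Subgroup.index]
        refine le_trans (Nat.card_le_card_of_injective
          (fun q : K ⧸ Subgroup.centralizer ({u} : Set K) => (⟨⁅q.out, u⁆,
            hder ▸ Subgroup.commutator_mem_commutator (Subgroup.mem_top _) (Subgroup.mem_top _)⟩ :
              Subgroup.center K)) ?_) hz.le
        intro p r hpr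
        simp only [Subtype.mk.injEq] at hpr
        rw [← QuotientGroup.out_eq' p, ← QuotientGroup.out_eq' r]
        apply QuotientGroup.eq.mpr
        rw [Subgroup.mem_centralizer_singleton_iff]
        rw [commutatorElement_def, commutatorElement_def, mul_left_inj] at hpr
        calc p.out⁻¹ * r.out * u = p.out⁻¹ * (r.out * u * r.out⁻¹) * r.out := by group
          _ = p.out⁻¹ * (p.out * u * p.out⁻¹) * r.out := by rw [hpr]
          _ = u * (p.out⁻¹ * r.out) := by group
      obtain ⟨k, hk⟩ := IsPGroup.iff_card.mp hXK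
      have hk3 : k ≤ 3 := by
        by_contra hk4
        have h16 : 16 ≤ Nat.card K := by
          rw [hk]; exact le_trans (by norm_num) (Nat.pow_le_pow_right two_pos (by omega : 4 ≤ k))
        set Cy := Subgroup.centralizer ({y} : Set K) with hCy
        have hCy8 : 8 ≤ Nat.card Cy := by
          have h1 := Cy.card_mul_index
          have h2 := hcen y hy
          nlinarith
        set B := Subgroup.closure ({y, z} : Set K) with hB
        have hzy : z * y = y * z := (Subgroup.mem_center_iff.mp hzC y).symm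
        have hBc : Nat.card B ≤ 4 := by
          let f : Bool × Bool → K := fun p => (if p.1 then y else 1) * (if p.2 then z else 1)
          have hzz : z * z = 1 := by rw [← pow_two]; exact hz2 z hzC
          have hzz' : ∀ w, z * (z * w) = w := fun w => by rw [← mul_assoc, hzz, one_mul]
          have hzy' : ∀ w, z * (y * w) = y * (z * w) := fun w => by
            rw [← mul_assoc, hzy, mul_assoc]
          have hzi : z⁻¹ = z := inv_eq_of_mul_eq_one_right hzz
          have hsub : ∀ x ∈ B, x ∈ Set.range f := by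
            rcases hzu _ (hsqc y) with h | h <;> rw [pow_two] at h
            all_goals intro x hx
            · have h' : ∀ w, y * (y * w) = w := fun w => by rw [← mul_assoc, h, one_mul]
              have hyi : y⁻¹ = y := inv_eq_of_mul_eq_one_right h
              induction hx using Subgroup.closure_induction with
              | mem g hg =>
                rcases hg with rfl | rfl
                · exact ⟨(true, false), by simp [f]⟩
                · exact ⟨(false, true), by simp [f]⟩
              | one => exact ⟨(false, false), by simp [f]⟩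
              | mul a b _ _ ha hb =>
                obtain ⟨⟨a1, a2⟩, rfl⟩ := ha
                obtain ⟨⟨b1, b2⟩, rfl⟩ := hb
                refine ⟨(xor a1 b1, xor a2 b2), ?_⟩
                cases a1 <;> cases a2 <;> cases b1 <;> cases b2 <;>
                  simp [f, mul_assoc, hzy, hzy', hzz, hzz', h, h']
              | inv a _ ha =>
                obtain ⟨⟨a1, a2⟩, rfl⟩ := ha
                refine ⟨(a1, a2), ?_⟩
                cases a1 <;> cases a2 <;> simp [f, mul_inv_rev, hyi, hzi, hzy]
            · have h' : ∀ w, y * (y * w) = z * w := fun w => by rw [← mul_assoc, h]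
              have hyi : y⁻¹ = y * z := inv_eq_of_mul_eq_one_right (by rw [← mul_assoc, h, hzz])
              induction hx using Subgroup.closure_induction with
              | mem g hg =>
                rcases hg with rfl | rfl
                · exact ⟨(true, false), by simp [f]⟩
                · exact ⟨(false, true), by simp [f]⟩
              | one => exact ⟨(false, false), by simp [f]⟩
              | mul a b _ _ ha hb =>
                obtain ⟨⟨a1, a2⟩, rfl⟩ := ha
                obtain ⟨⟨b1, b2⟩, rfl⟩ := hb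
                refine ⟨(xor a1 b1, xor (xor a2 b2) (a1 && b1)), ?_⟩
                cases a1 <;> cases a2 <;> cases b1 <;> cases b2 <;>
                  simp [f, mul_assoc, hzy, hzy', hzz, hzz', h, h']
              | inv a _ ha =>
                obtain ⟨⟨a1, a2⟩, rfl⟩ := ha
                refine ⟨(a1, xor a1 a2), ?_⟩
                cases a1 <;> cases a2 <;>
                  simp [f, mul_assoc, mul_inv_rev, hyi, hzi, hzy, hzy', hzz, hzz']
          refine le_trans (Nat.card_le_card_of_surjective
            (fun p : Bool × Bool => (⟨f p, ?_⟩ : B)) ?_) (by simp)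
          · refine mul_mem ?_ ?_
            all_goals split_ifs
            all_goals first | exact one_mem _ | exact Subgroup.subset_closure (by simp)
          · rintro ⟨x, hx⟩
            obtain ⟨p, rfl⟩ := hsub x hx
            exact ⟨p, rfl⟩
        obtain ⟨v, hvC, hvB⟩ : ∃ v ∈ Cy, v ∉ B := by
          by_contra hcon
          push Not at hcon
          have := Subgroup.card_le_of_le (show Cy ≤ B from hcon)
          omega
        set A := Subgroup.closure ({y, z, v} : Set K) with hA
        have hvy : v * y = y * v := Subgroup.mem_centralizer_singleton_iff.mp hvC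
        have hAc : IsMulCommutative A := Subgroup.isMulCommutative_closure (by
          have hzc : ∀ w, w * z = z * w := Subgroup.mem_center_iff.mp hzC
          rintro p (rfl | rfl | rfl) r (rfl | rfl | rfl)
          · rfl
          · exact hzc _
          · exact hvy.symm
          · exact (hzc _).symm
          · rfl
          · exact (hzc _).symm
          · exact hvy
          · exact hzc _
          · rfl)
        have hAcomm : ∀ p ∈ A, ∀ r ∈ A, p * r = r * p := fun p hp r hr =>
          congrArg Subtype.val (hAc.is_comm.comm ⟨p, hp⟩ ⟨r, hr⟩)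
        have hBA : B ≤ A := Subgroup.closure_mono (by intro x; simp; tauto)
        have hB4 : 4 ≤ Nat.card B := by
          obtain ⟨m, hm⟩ := IsPGroup.iff_card.mp (hXK.to_subgroup B)
          have h1 : Subgroup.zpowers z ≤ B := Subgroup.zpowers_le.mpr (Subgroup.subset_closure (by simp))
          have h2 : Nat.card (Subgroup.zpowers z) = 2 := by
            rw [Nat.card_zpowers, orderOf_eq_prime (hz2 z hzC) hz1]
          obtain ⟨r, hr⟩ := Subgroup.card_dvd_of_le h1
          rw [h2] at hr
          have : r ≠ 1 := fun h1' => by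
            have := Subgroup.eq_of_le_of_card_ge h1 (by rw [h2, hr, h1'])
            have hyB : y ∈ B := Subgroup.subset_closure (by simp)
            rw [← this] at hyB
            exact hy ((Subgroup.zpowers_le.mpr hzC) hyB)
          have hr0 : r ≠ 0 := fun h0 => by rw [h0, mul_zero] at hr; exact Nat.card_pos.ne' hr
          omega
        have hA8 : 8 ≤ Nat.card A := by
          obtain ⟨r, hr⟩ := Subgroup.card_dvd_of_le hBA
          have : r ≠ 1 := fun h1 => by
            have := Subgroup.eq_of_le_of_card_ge hBA (by rw [hr, h1, mul_one])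
            exact hvB (this ▸ Subgroup.subset_closure (by simp))
          have hr0 : r ≠ 0 := fun h0 => by rw [h0, mul_zero] at hr; exact Nat.card_pos.ne' hr
          calc 8 = 4 * 2 := rfl
            _ ≤ Nat.card B * r := Nat.mul_le_mul hB4 (by omega)
            _ = _ := hr.symm
        have hncyc : ¬ IsCyclic A := fun hc => by
          obtain ⟨g, hg⟩ := hc.exists_generator
          have h4' : g ^ 4 = 1 := Subtype.ext (by
            have := hz2 _ (hsqc (g : K))
            rw [← pow_mul] at this
            simpa using this)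
          have := Nat.le_of_dvd (by norm_num) (orderOf_dvd_iff_pow_eq_one.mpr h4')
          rw [orderOf_eq_card_of_forall_mem_zpowers hg] at this
          omega
        obtain ⟨p, hp, r, hr, e1, e2, e3, e4, e5⟩ := exists_two_involutions hXK A hAcomm hncyc
        exact hK8 (eightIn_of hXK A le_top hAcomm hA8 hp hr e1 e2 e3 e4 e5)
      have hk' : k = 3 := by
        interval_cases k
        · haveI : Subsingleton K := Finite.card_le_one_iff_subsingleton.mp (by simpa using hk.le)
          exact absurd (fun x y : K => Subsingleton.elim (x * y) (y * x)) hna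
        · exfalso
          haveI : IsCyclic K := isCyclic_of_prime_card (p := 2) (by simpa using hk)
          letI := IsCyclic.commGroup (α := K)
          exact hna fun x y => mul_comm x y
        · exact absurd (fun x y => (IsPGroup.isMulCommutative_of_card_eq_prime_sq hk).is_comm.comm x y) hna
        · rfl
      subst hk'
      -- no involution outside the centre
      have hinv : ∀ u : K, u ^ 2 = 1 → u ∈ Subgroup.center K := by
        intro u hu2
        by_contra huC
        apply hna
        have hall : ∀ w : K, w ^ 2 = 1 := by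
          set C := Subgroup.center K
          set π := QuotientGroup.mk' C
          have hsqm : ∀ l : Λ, ∀ w : K, π (ψ l w) = π w → ∀ m : ℕ, π (ψ (l ^ m) w) = π w := by
            intro l w hlw m
            induction m with
            | zero => simp
            | succ m ih =>
              rw [pow_succ', map_mul, MulAut.mul_apply]
              have e1 := QuotientGroup.eq.mp ih.symm
              have e2 : ψ l (w⁻¹ * ψ (l ^ m) w) ∈ C := by
                rw [Subgroup.mem_center_iff] at e1 ⊢
                intro g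
                have := congrArg (ψ l) (e1 ((ψ l).symm g))
                simpa [map_mul] using this
              rw [← hlw]
              refine (QuotientGroup.eq.mpr ?_).symm
              simpa [map_mul, map_inv] using e2
          obtain ⟨l, hl⟩ : ∃ l, π (ψ l u) ≠ π u := by
            by_contra hcon
            push Not at hcon
            exact huC (hfix u fun l => QuotientGroup.eq.mp (hcon l).symm)
          have hl2 : π (ψ l (ψ l u)) ≠ π u := by
            intro e
            obtain ⟨t, ht⟩ := hodd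
            apply hl
            have := hsqm (l * l) u (by rw [map_mul, MulAut.mul_apply]; exact e) (t + 1)
            rwa [← pow_two, ← pow_mul, show 2 * (t + 1) = Nat.card Λ + 1 by omega, pow_succ,
              pow_card_eq_one', one_mul] at this
          have hlC : ∀ w : K, w ∈ C → ψ l w ∈ C := fun w hw => by
            rw [Subgroup.mem_center_iff] at hw ⊢
            intro g
            have := congrArg (ψ l) (hw ((ψ l).symm g))
            simpa [map_mul] using this
          have hl12 : π (ψ l (ψ l u)) ≠ π (ψ l u) := by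
            intro e
            apply hl
            have h' := QuotientGroup.eq.mp e.symm
            rw [← map_inv, ← map_mul] at h'
            refine (QuotientGroup.eq.mpr ?_).symm
            have h'' : (ψ l).symm (ψ l (u⁻¹ * ψ l u)) ∈ C := by
              rw [Subgroup.mem_center_iff] at h' ⊢
              intro g
              have := congrArg (ψ l).symm (h' (ψ l g))
              simpa [map_mul] using this
            simpa using h''
          have hne1 : ∀ w : K, w ∉ C → π w ≠ 1 := fun w hw e => hw ((QuotientGroup.eq_one_iff w).mp e)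
          have hnC : ∀ w : K, w ∉ C → ψ l w ∉ C := fun w hw h => hw (by
            rw [Subgroup.mem_center_iff] at h ⊢
            intro g
            have := congrArg (ψ l).symm (h (ψ l g))
            simpa [map_mul] using this)
          have hquot : Nat.card (K ⧸ C) = 4 := by
            have := C.card_mul_index
            rw [hz, hk] at this
            change 2 * Nat.card (K ⧸ C) = 2 ^ 3 at this
            omega
          letI := Fintype.ofFinite (K ⧸ C)
          have huniv : ({1, π u, π (ψ l u), π (ψ l (ψ l u))} : Finset (K ⧸ C)) = Finset.univ := by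
            apply Finset.eq_univ_of_card
            rw [Finset.card_insert_of_notMem (by
                simp [Ne.symm (hne1 u huC), Ne.symm (hne1 _ (hnC u huC)),
                  Ne.symm (hne1 _ (hnC _ (hnC u huC)))]),
              Finset.card_insert_of_notMem (by simp [Ne.symm hl, Ne.symm hl2]),
              Finset.card_insert_of_notMem (by simp [Ne.symm hl12]), Finset.card_singleton,
              ← Nat.card_eq_fintype_card, hquot]
          intro w
          have hw := Finset.mem_univ (π w)
          rw [← huniv] at hw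
          simp only [Finset.mem_insert, Finset.mem_singleton] at hw
          have hrep : ∀ v : K, v ^ 2 = 1 → π w = π v → w ^ 2 = 1 := by
            intro v hv e
            have hd := QuotientGroup.eq.mp e.symm
            rw [show w = v * (v⁻¹ * w) by rw [mul_inv_cancel_left],
              (show Commute v (v⁻¹ * w) from Subgroup.mem_center_iff.mp hd v).mul_pow, hv,
              hz2 _ hd, one_mul]
          rcases hw with h | h | h | h
          · exact hrep 1 (one_pow 2) (by rw [h, map_one])
          · exact hrep u hu2 h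
          · exact hrep _ (by rw [← map_pow, hu2, map_one]) h
          · exact hrep _ (by rw [← map_pow, ← map_pow, hu2, map_one, map_one]) h
        intro p r
        have h1 : ∀ w : K, w⁻¹ = w := fun w => inv_eq_of_mul_eq_one_right (by rw [← pow_two]; exact hall w)
        calc p * r = (p * r)⁻¹ := (h1 _).symm
          _ = r * p := by rw [mul_inv_rev, h1, h1]
      obtain ⟨a, b, hab⟩ : ∃ a b : K, a * b ≠ b * a := by
        by_contra hcon
        push Not at hcon
        exact hna hcon
      refine Or.inr ⟨hk, ⟨z, z.2, fun e => hz1 (Subtype.ext e), congrArg Subtype.val (hz2 z hzC),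
        fun x hx h => ?_⟩, a, a.2, b, b.2, fun e => hab (Subtype.ext e)⟩
      exact (hzu ⟨x, hx⟩ (hinv ⟨x, hx⟩ (Subtype.ext h))).imp (congrArg Subtype.val)
        (congrArg Subtype.val)
    · exfalso
      apply hK8
      have hncyc : ¬ IsCyclic (Subgroup.center K) := fun hc => by
        obtain ⟨g, hg⟩ := hc.exists_generator
        have := Nat.le_of_dvd two_pos
          (orderOf_dvd_iff_pow_eq_one.mpr (Subtype.ext (hz2 g g.2) : g ^ 2 = 1))
        rw [orderOf_eq_card_of_forall_mem_zpowers hg] at this
        omega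
      obtain ⟨p, hp, r, hr, e1, e2, e3, e4, e5⟩ := exists_two_involutions hXK (Subgroup.center K)
        (fun a ha b _ => (Subgroup.mem_center_iff.mp ha b).symm) hncyc
      set A := Subgroup.closure ((Subgroup.center K : Set K) ∪ {y}) with hA
      have hAc : IsMulCommutative A := Subgroup.isMulCommutative_closure (by
        rintro a (ha | rfl) b (hb | rfl)
        · exact (Subgroup.mem_center_iff.mp ha b).symm
        · exact (Subgroup.mem_center_iff.mp ha _).symm
        · exact Subgroup.mem_center_iff.mp hb _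
        · rfl)
      have hle : Subgroup.center K ≤ A := fun x hx => Subgroup.subset_closure (Or.inl hx)
      have hA8 : 8 ≤ Nat.card A := by
        obtain ⟨m, hm⟩ := Subgroup.card_dvd_of_le hle
        rw [hz] at hm
        have : m ≠ 1 := fun h1 => by
          have := Subgroup.eq_of_le_of_card_ge hle (by rw [hz, hm, h1])
          exact hy (this ▸ Subgroup.subset_closure (Or.inr rfl))
        have hm0 : m ≠ 0 := fun h0 => by rw [h0, mul_zero] at hm; exact Nat.card_pos.ne' hm
        omega
      exact eightIn_of hXK A le_top (fun u hu v hv => congrArg Subtype.val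
        (hAc.is_comm.comm ⟨u, hu⟩ ⟨v, hv⟩)) hA8 (hle hp) (hle hr) e1 e2 e3 e4 e5

end CfsgLib.TwoGroups.NoAbelianEight
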