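import Cfsg.Agent.Lib.TwoGroups.AnisotropicMap
import Cfsg.Agent.Lib.PGroup.CoprimeFix

/-!
# Automorphisms of a 2-group with three involutions

The automorphism group of a 2-group with exactly three involutions is solvable.
-/

set_option autoImplicit false

namespace CfsgLib.TwoGroups.ThreeInvolutions

open Subgroup AnisotropicMap
open scoped commutatorElement

/-- An elementary group of order at most four embeds in the four group. -/
theorem exists_embedding {A : Type*} [Group A] [Finite A] (hexp : ∀ a : A, a * a = 1)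
    (h4 : Nat.card A ≤ 4) :
    ∃ ι : A → ZMod 2 × ZMod 2, Function.Injective ι ∧ ∀ a c, ι (a * c) = ι a + ι c := by
  classical
  have hcomm : ∀ x y : A, x * y = y * x := fun x y => by
    have := hexp (x * y)
    rw [mul_eq_one_iff_eq_inv, mul_inv_rev, inv_eq_of_mul_eq_one_right (hexp y),
      inv_eq_of_mul_eq_one_right (hexp x)] at this
    exact this
  by_cases h1 : ∀ a : A, a = 1
  · exact ⟨fun _ => 0, fun a c _ => (h1 a).trans (h1 c).symm, fun _ _ => (add_zero 0).symm⟩
  push Not at h1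
  obtain ⟨u, hu⟩ := h1
  by_cases h2 : ∀ a : A, a = 1 ∨ a = u
  · refine ⟨fun a => if a = 1 then 0 else (1, 0), fun a c h => ?_, fun a c => ?_⟩
    · rcases h2 a with rfl | rfl <;> rcases h2 c with rfl | rfl <;> simp [hu, Prod.ext_iff] at h ⊢
    · rcases h2 a with rfl | rfl <;> rcases h2 c with rfl | rfl <;> simp [hu, hexp]
      decide
  push Not at h2
  obtain ⟨v, hv1, hvu⟩ := h2
  let m : Multiplicative (ZMod 2 × ZMod 2) →* A := MonoidHom.mk'
    (fun i => u ^ (Multiplicative.toAdd i).1.val * v ^ (Multiplicative.toAdd i).2.val) fun i j => by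
      have hp : ∀ (x : A) (a c : ZMod 2), x ^ (a + c).val = x ^ a.val * x ^ c.val := fun x a c => by
        rw [← pow_add, ZMod.val_add, ← pow_eq_pow_mod _ (by rw [pow_two]; exact hexp x)]
      simp only [toAdd_mul, Prod.fst_add, Prod.snd_add, hp]
      exact Commute.mul_mul_mul_comm (hcomm _ _) _ _
  have hinj : Function.Injective m := by
    rw [injective_iff_map_eq_one]
    intro i hi
    obtain ⟨⟨a, c⟩, rfl⟩ := Multiplicative.ofAdd.surjective i
    have huv : u * v ≠ 1 := fun e => hvu (by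
      rw [eq_inv_of_mul_eq_one_right e, inv_eq_of_mul_eq_one_right (hexp u)])
    have hi' : u ^ a.val * v ^ c.val = 1 := hi
    obtain rfl | rfl := (show ∀ x : ZMod 2, x = 0 ∨ x = 1 by decide) a <;>
      obtain rfl | rfl := (show ∀ x : ZMod 2, x = 0 ∨ x = 1 by decide) c <;>
      simp [show (1 : ZMod 2).val = 1 from rfl, hu, hv1, huv] at hi' ⊢
  have hb : Function.Bijective m := (Nat.bijective_iff_injective_and_card m).2 ⟨hinj, by
    have h := Nat.card_le_card_of_injective m hinj
    simp only [Nat.card_eq_fintype_card (α := Multiplicative (ZMod 2 × ZMod 2)),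
      Fintype.card_multiplicative, Fintype.card_prod, ZMod.card] at h ⊢
    omega⟩
  exact ⟨fun a => Multiplicative.toAdd ((MulEquiv.ofBijective m hb).symm a),
    fun a c h => (MulEquiv.ofBijective m hb).symm.injective (Multiplicative.toAdd.injective h),
    fun a c => by simp⟩

variable {D P : Type*} [Group D] [Group.IsPerfect D] [Group P] [Finite P]

/-- With at most four square roots of one, those are fixed. -/
theorem fix_roots (hfew : Nat.card {x : P // x ^ 2 = 1} ≤ 4) (ψ : D →* MulAut P) :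
    ∀ d, ∀ a : P, a ^ 2 = 1 → ψ d a = a := by
  classical
  intro d a ha
  let π : D →* Equiv.Perm {x : {x : P // x ^ 2 = 1} // (x : P) ≠ 1} := MonoidHom.mk'
    (fun e => ((ψ e).toEquiv.subtypeEquiv fun x => by
      show x ^ 2 = 1 ↔ ψ e x ^ 2 = 1
      rw [← map_pow, MulEquiv.map_eq_one_iff]).subtypeEquiv fun x => by
        show (x : P) ≠ 1 ↔ ψ e x ≠ 1
        simp) fun e f => by
      ext x
      show ψ (e * f) _ = ψ e (ψ f _)
      rw [map_mul, MulAut.mul_apply]
  haveI := solvable_perm (α := {x : {x : P // x ^ 2 = 1} // (x : P) ≠ 1}) (by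
    haveI := Fintype.ofFinite {x : P // x ^ 2 = 1}
    rw [Nat.card_eq_fintype_card] at hfew
    rw [Nat.card_eq_fintype_card, Fintype.card_congr (Equiv.subtypeEquivRight
      (q := fun x => ¬ x = (⟨1, one_pow 2⟩ : {x : P // x ^ 2 = 1})) fun x => by
        rw [Ne, Subtype.ext_iff]), Fintype.card_subtype_compl, Fintype.card_subtype_eq]
    omega)
  by_cases h1 : a = 1
  · rw [h1, map_one]
  · exact congrArg (fun σ : Equiv.Perm {x : {x : P // x ^ 2 = 1} // (x : P) ≠ 1} =>
      ((σ ⟨⟨a, ha⟩, h1⟩ : {x : P // x ^ 2 = 1}) : P)) (hom_eq_one π d)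

/-- Invariant abelian subgroups are fixed. -/
theorem fix_abelian (hP : IsPGroup 2 P) (hfew : Nat.card {x : P // x ^ 2 = 1} ≤ 4) (ψ : D →* MulAut P)
    (W : Subgroup P) (hab : ∀ a ∈ W, ∀ c ∈ W, a * c = c * a) (hinv : ∀ d, ∀ w ∈ W, ψ d w ∈ W) :
    ∀ d, ∀ w ∈ W, ψ d w = w := by
  haveI : Group.IsSolvable W := isSolvable_of_comm fun a c => Subtype.ext (hab a a.2 c c.2)
  suffices ∀ n, ∀ d, ∀ w ∈ W, w ^ 2 ^ n = 1 → ψ d w = w by
    intro d w hw
    obtain ⟨k, hk⟩ := hP w
    exact this k d w hw hk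
  intro n
  induction n with
  | zero => intro d w _ h; rw [pow_zero, pow_one] at h; rw [h, map_one]
  | succ n ih =>
    intro d w hw h
    have hsq : ∀ e, ψ e (w ^ 2) = w ^ 2 := fun e =>
      ih e _ (W.pow_mem hw 2) (by rw [← pow_mul, ← pow_succ']; exact h)
    have hroot : ∀ e, (w⁻¹ * ψ e w) ^ 2 = 1 := fun e => by
      rw [(show Commute w⁻¹ (ψ e w) from hab _ (W.inv_mem hw) _ (hinv e w hw)).mul_pow, inv_pow,
        ← map_pow, hsq, inv_mul_cancel]
    let c : D →* W := MonoidHom.mk' (fun e => ⟨w⁻¹ * ψ e w, W.mul_mem (W.inv_mem hw) (hinv e w hw)⟩)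
      fun a b => Subtype.ext (by
        show w⁻¹ * ψ (a * b) w = (w⁻¹ * ψ a w) * (w⁻¹ * ψ b w)
        have hb := fix_roots hfew ψ a _ (hroot b)
        rw [map_mul ψ, MulAut.mul_apply]
        conv_rhs => rw [← hb, map_mul, map_inv]
        group)
    exact inv_mul_eq_one.1 (congrArg Subtype.val (hom_eq_one c d)) |>.symm

/-- The class two case with central involutions. -/
theorem core (hfew : Nat.card {x : P // x ^ 2 = 1} ≤ 4)
    (hroots : ∀ x : P, x ^ 2 = 1 → x ∈ center P) (hsq : ∀ x : P, x ^ 2 ∈ center P)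
    (ψ : D →* MulAut P) (hfix : ∀ d, ∀ z ∈ center P, ψ d z = z) : ∀ d x, ψ d x = x := by
  classical
  set Z := center P with hZ
  have hexp : ∀ a : P ⧸ Z, a * a = 1 := fun a => by
    obtain ⟨x, rfl⟩ := QuotientGroup.mk_surjective a
    rw [← QuotientGroup.mk_mul, QuotientGroup.eq_one_iff, ← pow_two]; exact hsq x
  have hk : ∀ x y : P, ⁅x, y⁆ ∈ Z := fun x y => by
    rw [← QuotientGroup.eq_one_iff, commutatorElement_def]
    simp only [QuotientGroup.mk_mul, QuotientGroup.mk_inv, inv_eq_of_mul_eq_one_right (hexp _)]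
    have h := hexp ((x : P ⧸ Z) * (y : P ⧸ Z))
    rw [← mul_assoc] at h
    exact h
  -- the group of squares modulo squares of the centre
  let sq : Z →* Z := MonoidHom.mk' (fun z => z ^ 2) fun a c =>
    (show Commute a c from mul_comm' _ _).mul_pow 2
  haveI : sq.range.Normal := ⟨fun a ha g => by
    rw [show g * a * g⁻¹ = a by rw [mul_comm' g a, mul_inv_cancel_right]]; exact ha⟩
  have hA : ∀ a : Z ⧸ sq.range, a * a = 1 := fun a => by
    obtain ⟨x, rfl⟩ := QuotientGroup.mk_surjective a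
    rw [← QuotientGroup.mk_mul, QuotientGroup.eq_one_iff, ← pow_two]
    exact ⟨x, rfl⟩
  obtain ⟨ι, hι, hιmul⟩ := exists_embedding hA (by
    rw [← Subgroup.index_eq_card]
    have h1 := sq.range.card_mul_index
    have h2 := sq.ker.card_mul_index
    rw [Subgroup.index_ker] at h2
    have h3 : Nat.card sq.ker ≤ 4 := le_trans (Nat.card_le_card_of_injective
      (fun z : sq.ker => (⟨((z : Z) : P), by
        have := congrArg Subtype.val (MonoidHom.mem_ker.1 z.2)
        exact this⟩ : {x : P // x ^ 2 = 1}))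
      fun a c h => Subtype.ext (Subtype.ext (congrArg (fun w : {x : P // x ^ 2 = 1} => (w : P)) h))) hfew
    have h4 : 0 < Nat.card sq.range := Nat.card_pos
    have h5 : sq.range.index = Nat.card sq.ker := by
      refine Nat.eq_of_mul_eq_mul_left h4 (h1.trans ?_)
      rw [mul_comm]; exact h2.symm
    omega)
  have hι1 : ι 1 = 0 := by
    have h := hιmul 1 1
    rw [one_mul] at h
    simpa using h
  have h22 : ∀ a : ZMod 2 × ZMod 2, a + a = 0 := by decide
  let e : (z : P) → z ∈ Z → ZMod 2 × ZMod 2 := fun z hz => ι (QuotientGroup.mk ⟨z, hz⟩)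
  have emul : ∀ a c ha hc, e (a * c) (Z.mul_mem ha hc) = e a ha + e c hc := fun a c ha hc => by
    rw [← hιmul]; rfl
  have ecomm : ∀ a c ha hc, a = c → e a ha = e c hc := fun a c ha hc h => by subst h; rfl
  let qP : P → ZMod 2 × ZMod 2 := fun x => e (x ^ 2) (hsq x)
  let κ : P → P → ZMod 2 × ZMod 2 := fun x y => e ⁅x, y⁆ (hk x y)
  have hqmul : ∀ x y, qP (x * y) = κ y x + qP x + qP y := fun x y => by
    have hid : (x * y) ^ 2 = ⁅y, x⁆ * x ^ 2 * y ^ 2 := by
      have hc : ∀ g, g * ⁅y, x⁆ = ⁅y, x⁆ * g := fun g => mem_center_iff.1 (hk y x) g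
      have hyx : y * x = ⁅y, x⁆ * x * y := by rw [commutatorElement_def]; group
      calc (x * y) ^ 2 = x * (y * x) * y := by rw [pow_two]; group
        _ = x * ⁅y, x⁆ * x * y * y := by rw [hyx]; group
        _ = ⁅y, x⁆ * x * x * y * y := by rw [hc]
        _ = _ := by simp only [pow_two, mul_assoc]
    simp only [qP, κ]
    rw [ecomm _ _ _ (Z.mul_mem (Z.mul_mem (hk y x) (hsq x)) (hsq y)) hid,
      emul _ _ (Z.mul_mem (hk y x) (hsq x)) (hsq y), emul _ _ (hk y x) (hsq x)]
  have hκ : ∀ x y z, κ x (y * z) = κ x y + κ x z := fun x y z => by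
    have hid : ⁅x, y * z⁆ = ⁅x, y⁆ * ⁅x, z⁆ := by
      have hc : y * ⁅x, z⁆ = ⁅x, z⁆ * y := mem_center_iff.1 (hk x z) y
      calc ⁅x, y * z⁆ = ⁅x, y⁆ * (y * ⁅x, z⁆) * y⁻¹ := by simp only [commutatorElement_def]; group
        _ = _ := by rw [hc]; group
    simp only [κ]
    rw [ecomm _ _ _ (Z.mul_mem (hk x y) (hk x z)) hid, emul _ _ (hk x y) (hk x z)]
  have hcen : ∀ x, ∀ z ∈ Z, qP (x * z) = qP x := fun x z hz => by
    have h1 : e (z ^ 2) (hsq z) = 0 := by
      rw [← hι1]
      exact congrArg ι ((QuotientGroup.eq_one_iff _).2 ⟨⟨z, hz⟩, Subtype.ext rfl⟩)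
    have h2 : κ z x = 0 := by
      rw [← hι1]
      refine congrArg ι ?_
      rw [show (⟨⁅z, x⁆, hk z x⟩ : Z) = 1 from Subtype.ext
        (commutatorElement_eq_one_iff_mul_comm.2 (mem_center_iff.1 hz x).symm)]
      rfl
    rw [hqmul, h2, show qP z = 0 from h1, zero_add, add_zero]
  let q : P ⧸ Z → ZMod 2 × ZMod 2 := fun a => Quotient.liftOn' a qP fun x y hxy => by
    have := QuotientGroup.leftRel_apply.1 hxy
    conv_rhs => rw [← mul_inv_cancel_left x y]
    rw [hcen x _ this]
  let φ : D →* MulAut (P ⧸ Z) := MonoidHom.mk'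
    (fun d => QuotientGroup.congr Z Z (ψ d) (by
      refine le_antisymm ?_ fun z hz => ⟨z, hz, hfix d z hz⟩
      rintro _ ⟨z, hz, rfl⟩
      show ψ d z ∈ Z
      rw [hfix d z hz]; exact hz)) fun a b => by
      ext x
      obtain ⟨x, rfl⟩ := QuotientGroup.mk_surjective x
      simp [QuotientGroup.congr_mk]
  have hmain := eq_id hexp q (fun a b c => by
      obtain ⟨x, rfl⟩ := QuotientGroup.mk_surjective a
      obtain ⟨y, rfl⟩ := QuotientGroup.mk_surjective b
      obtain ⟨z, rfl⟩ := QuotientGroup.mk_surjective c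
      show qP (x * y * z) + qP (x * z) + qP (y * z) + qP (x * y) + qP x + qP y + qP z = 0
      rw [hqmul (x * y) z, hκ, hqmul x z, hqmul y z]
      linear_combination (norm := abel) h22 (κ z x) + h22 (κ z y) + h22 (qP (x * y)) + h22 (qP x)
        + h22 (qP y) + h22 (qP z) + h22 (qP z))
    (fun a => by
      obtain ⟨x, rfl⟩ := QuotientGroup.mk_surjective a
      intro h
      have h' : ι (QuotientGroup.mk ⟨x ^ 2, hsq x⟩) = ι 1 := by rw [hι1]; exact h
      obtain ⟨w, hw⟩ := (QuotientGroup.eq_one_iff _).1 (hι h')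
      have hw' : (w : P) ^ 2 = x ^ 2 := congrArg Subtype.val hw
      have hr : (x * (w : P)⁻¹) ^ 2 = 1 := by
        have hc : Commute x (w : P)⁻¹ := mem_center_iff.1 (Z.inv_mem w.2) x
        rw [hc.mul_pow, inv_pow, hw', mul_inv_cancel]
      rw [QuotientGroup.eq_one_iff]
      simpa using Z.mul_mem (hroots _ hr) w.2)
    (by
      show e ((1 : P) ^ 2) _ = 0
      rw [ecomm _ _ _ Z.one_mem (one_pow 2), ← hι1]
      rfl) φ (fun d a => by
      obtain ⟨x, rfl⟩ := QuotientGroup.mk_surjective a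
      show qP (ψ d x) = qP x
      exact ecomm _ _ _ _ (by rw [← map_pow, hfix d _ (hsq x)]))
  haveI : Group.IsSolvable Z := isSolvable_of_comm fun a c => mul_comm' a c
  refine trivial_of_stabilizes ψ Z hfix fun d x => ?_
  have h : (ψ d x : P ⧸ Z) = (x : P ⧸ Z) := hmain d x
  exact QuotientGroup.eq.1 h.symm

/-- The automorphism group is solvable. -/
theorem solvable_mulAut {X : Type*} [Group X] [Finite X] (h2 : IsPGroup 2 X)
    (h3 : Nat.card {x : X // orderOf x = 2} = 3) : Group.IsSolvable (MulAut X) := by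
  classical
  haveI : Fact (Nat.Prime 2) := ⟨Nat.prime_two⟩
  haveI : Finite (MulAut X) := Finite.of_injective (fun f : MulAut X => (f : X → X)) DFunLike.coe_injective
  have hfew : Nat.card {x : X // x ^ 2 = 1} ≤ 4 := by
    let f : {x : X // x ^ 2 = 1} → Option {x : X // orderOf x = 2} := fun x =>
      if h : (x : X) = 1 then none else some ⟨x, orderOf_eq_prime x.2 h⟩
    have hf : Function.Injective f := by
      intro a c h
      simp only [f] at h
      split_ifs at h with h1 h2
      · exact Subtype.ext (h1.trans h2.symm)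
      · simpa [Subtype.ext_iff] using h
    refine (Nat.card_le_card_of_injective f hf).trans ?_
    rw [Finite.card_option, h3]
  obtain ⟨C, hchar, hC2, hCfix⟩ := CfsgLib.PGroup.CoprimeFix.exists_critical (p := 2) h2
  -- the perfect residual
  obtain ⟨n, hn⟩ : ∃ n, derivedSeries (MulAut X) (n + 1) = derivedSeries (MulAut X) n := by
    by_contra hall
    push Not at hall
    have hlt : ∀ n, Nat.card (derivedSeries (MulAut X) n) + n ≤ Nat.card (MulAut X) := by
      intro n
      induction n with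
      | zero => simpa using Subgroup.card_le_card_group _
      | succ n ih =>
        have hle : derivedSeries (MulAut X) (n + 1) ≤ derivedSeries (MulAut X) n :=
          commutator_le_left _ _
        have : Nat.card (derivedSeries (MulAut X) (n + 1)) < Nat.card (derivedSeries (MulAut X) n) := by
          by_contra hnot
          exact hall n (Subgroup.eq_of_le_of_card_ge hle (not_lt.1 hnot))
        omega
    have := hlt (Nat.card (MulAut X))
    have := Nat.card_pos (α := derivedSeries (MulAut X) (Nat.card (MulAut X)))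
    omega
  set D := derivedSeries (MulAut X) n with hD
  haveI hperf : Group.IsPerfect D := Subgroup.isPerfect_iff.2 hn
  have hCinv : ∀ (f : MulAut X), C.map f.toMonoidHom = C := fun f =>
    Subgroup.characteristic_iff_map_eq.1 hchar f
  let ψ : D →* MulAut C := MonoidHom.mk'
    (fun d => (MulEquiv.subgroupMap (d : MulAut X) C).trans (MulEquiv.subgroupCongr (hCinv d)))
    fun a b => by ext x; rfl
  have hCp : IsPGroup 2 C := h2.to_subgroup C
  have hfewC : Nat.card {x : C // x ^ 2 = 1} ≤ 4 := le_trans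
    (Nat.card_le_card_of_injective
      (fun x => (⟨((x : C) : X), by
        have := congrArg Subtype.val x.2
        simpa using this⟩ : {x : X // x ^ 2 = 1}))
      fun a c h => Subtype.ext (Subtype.ext (congrArg (fun w : {x : X // x ^ 2 = 1} => (w : X)) h))) hfew
  have hsqC : ∀ x : C, x ^ 2 ∈ center C := fun x => mem_center_iff.2 fun y => Subtype.ext (by
    show (y : X) * ((x : C) : X) ^ 2 = ((x : C) : X) ^ 2 * y
    exact (hC2.pow x x.2 y y.2).symm.eq)
  have hcommC : ∀ x y : C, ⁅x, y⁆ ∈ center C := fun x y => mem_center_iff.2 fun w => Subtype.ext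
    (hC2.comm x x.2 y y.2 w w.2).symm.eq
  have hroots := fix_roots hfewC ψ
  have hZfix := fix_abelian hCp hfewC ψ (center C) (fun a ha c _ => (mem_center_iff.1 ha c).symm)
    (fun d z hz => mem_center_iff.2 fun y => by
      obtain ⟨y, rfl⟩ := (ψ d).surjective y
      rw [← map_mul, ← map_mul, mem_center_iff.1 hz y])
  -- roots of one commute
  have hEcomm : ∀ a c : C, a ^ 2 = 1 → c ^ 2 = 1 → a * c = c * a := by
    intro a c ha hc
    by_contra hne
    have hnc : Nontrivial C := ⟨⟨a, c, fun e => hne (by rw [e])⟩⟩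
    obtain ⟨z, hz⟩ : ∃ z : center C, orderOf z = 2 := by
      haveI := hCp.center_nontrivial
      obtain ⟨k, hk⟩ := (hCp.to_subgroup (center C)).exists_card_eq
      refine exists_prime_orderOf_dvd_card' (G := center C) 2 (hk ▸ dvd_pow_self 2 ?_)
      rintro rfl
      rw [pow_zero, Nat.card_eq_one_iff_unique] at hk
      exact not_subsingleton _ hk.1
    have hz2 : ((z : C)) ^ 2 = 1 := by
      have := pow_orderOf_eq_one z
      rw [hz] at this
      exact congrArg Subtype.val this
    have hz1 : (z : C) ≠ 1 := fun e => by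
      rw [← Subgroup.orderOf_coe, e, orderOf_one] at hz
      omega
    have hzc : ∀ y, y * (z : C) = z * y := fun y => mem_center_iff.1 z.2 y
    have haz : (a * z) ^ 2 = 1 := by rw [(show Commute a (z : C) from hzc a).mul_pow, ha, hz2, one_mul]
    let g : Fin 5 → {x : C // x ^ 2 = 1} := ![⟨1, one_pow 2⟩, ⟨z, hz2⟩, ⟨a, ha⟩, ⟨a * z, haz⟩, ⟨c, hc⟩]
    have e1 : a ≠ 1 := fun e => hne (by rw [e, one_mul, mul_one])
    have e2 : a ≠ z := fun e => hne (by rw [e]; exact (hzc c).symm)
    have e3 : c ≠ 1 := fun e => hne (by rw [e, one_mul, mul_one])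
    have e4 : c ≠ z := fun e => hne (by rw [e]; exact hzc a)
    have e5 : c ≠ a := fun e => hne (by rw [e])
    have e6 : c ≠ a * z := fun e => hne (by rw [e, mul_assoc, ← hzc a])
    have e7 : a * z ≠ 1 := fun e => e2 (by
      rw [eq_inv_of_mul_eq_one_left e]
      rw [pow_two] at hz2
      exact inv_eq_of_mul_eq_one_right hz2)
    have e8 : a * z ≠ a := fun e => hz1 (mul_eq_left.1 e)
    have e9 : a * z ≠ z := fun e => e1 (mul_eq_right.1 e)
    have hg : Function.Injective g := by
      intro i j hij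
      have := congrArg Subtype.val hij
      fin_cases i <;> fin_cases j <;>
        first
          | rfl
          | exfalso; simp [g, e1, e2, e3, e4, e5, e6, e7, e8, e9, hz1, e1.symm, e2.symm, e3.symm,
              e4.symm, e5.symm, e6.symm, e7.symm, e8.symm, e9.symm, hz1.symm] at this
    have := Nat.card_le_card_of_injective g hg
    rw [Nat.card_eq_fintype_card, Fintype.card_fin] at this
    omega
  let P₀ : Subgroup C := centralizer {x : C | x ^ 2 = 1}
  have hP₀ : ∀ {x : C}, x ∈ P₀ ↔ ∀ a : C, a ^ 2 = 1 → a * x = x * a := fun {x} => mem_centralizer_iff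
  have hP₀inv : ∀ d, ∀ x ∈ P₀, ψ d x ∈ P₀ := fun d x hx => hP₀.2 fun a ha => by
    rw [← hroots d a ha, ← map_mul, ← map_mul, hP₀.1 hx a ha]
  have hP₀eq : ∀ d, P₀.map (ψ d).toMonoidHom = P₀ := fun d => by
    refine le_antisymm ?_ fun x hx => ⟨ψ d⁻¹ x, hP₀inv _ x hx, ?_⟩
    · rintro _ ⟨x, hx, rfl⟩; exact hP₀inv d x hx
    · show ψ d (ψ d⁻¹ x) = x
      rw [← MulAut.mul_apply, ← map_mul, mul_inv_cancel, map_one, MulAut.one_apply]
  let ψ₀ : D →* MulAut P₀ := MonoidHom.mk'
    (fun d => (MulEquiv.subgroupMap (ψ d) P₀).trans (MulEquiv.subgroupCongr (hP₀eq d)))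
    fun a b => by
      ext x
      show ((ψ (a * b) (x : C) : C) : X) = ((ψ a (ψ b (x : C)) : C) : X)
      rw [map_mul, MulAut.mul_apply]
  have hfew0 : Nat.card {x : P₀ // x ^ 2 = 1} ≤ 4 := le_trans
    (Nat.card_le_card_of_injective
      (fun x => (⟨((x : P₀) : C), by
        have := congrArg Subtype.val x.2
        exact this⟩ : {x : C // x ^ 2 = 1}))
      fun a c h => Subtype.ext (Subtype.ext (congrArg (fun w : {x : C // x ^ 2 = 1} => (w : C)) h))) hfewC
  have hZ0fix := fix_abelian (hCp.to_subgroup P₀) hfew0 ψ₀ (center P₀)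
    (fun a ha c _ => (mem_center_iff.1 ha c).symm) (fun d z hz => mem_center_iff.2 fun y => by
      obtain ⟨y, rfl⟩ := (ψ₀ d).surjective y
      rw [← map_mul, ← map_mul, mem_center_iff.1 hz y])
  have h0 := core hfew0
    (fun x hx => mem_center_iff.2 fun y => Subtype.ext
      ((hP₀.1 y.2 (x : C) (congrArg Subtype.val hx)).symm))
    (fun x => mem_center_iff.2 fun y => Subtype.ext (mem_center_iff.1 (hsqC (x : C)) (y : C)))
    ψ₀ hZ0fix
  haveI : Group.IsNilpotent P₀ := (hCp.to_subgroup P₀).isNilpotent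
  have htriv : ∀ d x, ψ d x = x := by
    refine trivial_of_stabilizes ψ P₀ (fun d x hx => congrArg Subtype.val (h0 d ⟨x, hx⟩)) fun d x => ?_
    refine hP₀.2 fun a ha => ?_
    have hk := hZfix d _ (hcommC x a)
    rw [map_commutatorElement, hroots d a ha] at hk
    have h' : ψ d x * a * (ψ d x)⁻¹ = x * a * x⁻¹ := by
      simp only [commutatorElement_def] at hk
      exact mul_right_cancel hk
    calc a * (x⁻¹ * ψ d x) = x⁻¹ * (x * a * x⁻¹) * ψ d x := by group
      _ = x⁻¹ * (ψ d x * a * (ψ d x)⁻¹) * ψ d x := by rw [h']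
      _ = x⁻¹ * ψ d x * a := by group
  have hD2 : IsPGroup 2 D := fun d => by
    obtain ⟨k, m, hm, hkm⟩ := Nat.exists_eq_two_pow_mul_odd (orderOf_pos d).ne'
    refine ⟨k, ?_⟩
    have h1 : ((d ^ 2 ^ k : D) : MulAut X) = 1 := by
      refine hCfix _ ?_ fun x hx => congrArg Subtype.val (htriv (d ^ 2 ^ k) ⟨x, hx⟩)
      rw [Subgroup.orderOf_coe]
      have : orderOf (d ^ 2 ^ k) ∣ m := orderOf_dvd_of_pow_eq_one (by rw [← pow_mul, ← hkm, pow_orderOf_eq_one])
      exact (Nat.coprime_two_right.2 hm).coprime_dvd_left this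
    exact Subtype.ext h1
  haveI : Group.IsNilpotent D := hD2.isNilpotent
  refine (Group.isSolvable_def _).2 ⟨n, (Subgroup.eq_bot_iff_forall _).2 fun x hx => ?_⟩
  exact congrArg Subtype.val (hom_eq_one (MonoidHom.id D) ⟨x, hx⟩)

end CfsgLib.TwoGroups.ThreeInvolutions
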