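import Cfsg.Agent.Lib.TwoGroups.DihedralWreath
import Mathlib

/-!
# Recognising `D₈ wr 2` by three involutions

`a, t, g` with `t g = g t`, `[a, a^t] = [a, a^{tg}] = 1` and `(a a^g)² ` of order at most two fixed by `t`
give a homomorphism from `D₈ wr 2` whose range contains them.
-/

set_option autoImplicit false

namespace CfsgLib.TwoGroups.DihedralWreath

open DihedralGroup

variable {Q : Type*} [Group Q]

/-- A dihedral homomorphism from two involutions. -/
theorem exists_hom {u v : Q} (hu : u * u = 1) (hv : v * v = 1) (huv : (u * v) ^ 4 = 1) :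
    ∃ f : D →* Q, f (sr 0) = u ∧ f (sr 1) = v ∧ ∀ d, f d ∈ Subgroup.closure {u, v} := by
  set R := u * v with hR
  have huR : u * R * u = R⁻¹ := by
    rw [hR, mul_inv_rev, inv_eq_of_mul_eq_one_right hu, inv_eq_of_mul_eq_one_right hv,
      ← mul_assoc, hu, one_mul]
  have hpowu : ∀ n : ℕ, R ^ n * u = u * (R ^ n)⁻¹ := by
    intro n
    have e : u * R ^ n * u = (R⁻¹) ^ n := by
      rw [← huR]
      conv_lhs => rw [show u * R ^ n * u = u * R ^ n * u⁻¹ by rw [inv_eq_of_mul_eq_one_right hu]]
      rw [← conj_pow, inv_eq_of_mul_eq_one_right hu]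
    rw [← inv_pow, ← e, ← mul_assoc, ← mul_assoc, hu, one_mul]
  have hmod : ∀ n : ℕ, R ^ n = R ^ (n % 4) := fun n => by
    conv_lhs => rw [← Nat.mod_add_div n 4, pow_add, pow_mul, huv, one_pow, mul_one]
  have hadd : ∀ i j : ZMod 4, R ^ (i + j).val = R ^ i.val * R ^ j.val := fun i j => by
    rw [← pow_add, ZMod.val_add, ← hmod]
  have hsub : ∀ i j : ZMod 4, R ^ (j - i).val = (R ^ i.val)⁻¹ * R ^ j.val := fun i j => by
    rw [eq_inv_mul_iff_mul_eq, ← hadd, add_sub_cancel]
  let F : D → Q := fun d => match d with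
    | .r i => R ^ i.val
    | .sr i => u * R ^ i.val
  have hF : ∀ a b : D, F (a * b) = F a * F b := by
    rintro (i | i) (j | j)
    · exact hadd i j
    · show u * R ^ (j - i).val = R ^ i.val * (u * R ^ j.val)
      rw [← mul_assoc, hpowu, mul_assoc, hsub]
    · show u * R ^ (i + j).val = u * R ^ i.val * R ^ j.val
      rw [hadd, mul_assoc]
    · show R ^ (j - i).val = u * R ^ i.val * (u * R ^ j.val)
      rw [mul_assoc u, ← mul_assoc (R ^ i.val), hpowu, mul_assoc, ← mul_assoc u, hu, one_mul, hsub]
  refine ⟨MonoidHom.mk' F hF, ?_, ?_, ?_⟩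
  · show u * R ^ (0 : ZMod 4).val = u
    rw [ZMod.val_zero, pow_zero, mul_one]
  · show u * R ^ (1 : ZMod 4).val = v
    rw [show (1 : ZMod 4).val = 1 from rfl, pow_one, hR, ← mul_assoc, hu, one_mul]
  · have hu' : u ∈ Subgroup.closure ({u, v} : Set Q) := Subgroup.subset_closure (Or.inl rfl)
    have hR' : R ∈ Subgroup.closure ({u, v} : Set Q) := mul_mem hu' (Subgroup.subset_closure (Or.inr rfl))
    rintro (i | i)
    · exact pow_mem hR' _
    · exact mul_mem hu' (pow_mem hR' _)

/-- The homomorphism from `D₈ wr 2`. -/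
theorem exists_hom_wreath {a t g : Q} (ha : a * a = 1) (ht : t * t = 1) (hg : g * g = 1)
    (htg : t * g = g * t) (h1 : a * (t * a * t) = t * a * t * a)
    (h2 : a * (t * (g * a * g) * t) = t * (g * a * g) * t * a)
    (h3 : (a * (g * a * g)) * (a * (g * a * g)) * ((a * (g * a * g)) * (a * (g * a * g))) = 1)
    (h4 : t * ((a * (g * a * g)) * (a * (g * a * g))) * t = (a * (g * a * g)) * (a * (g * a * g))) :
    ∃ Φ : W →* Q, a ∈ Φ.range ∧ t ∈ Φ.range ∧ g ∈ Φ.range := by
  have ia : a⁻¹ = a := inv_eq_of_mul_eq_one_right ha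
  have it : t⁻¹ = t := inv_eq_of_mul_eq_one_right ht
  have ig : g⁻¹ = g := inv_eq_of_mul_eq_one_right hg
  set f := t * a * t with hf
  set e₂ := g * a * g with he₂
  set f₂ := t * e₂ * t with hf₂
  have tgt : t * g * t = g := by rw [htg, mul_assoc, ht, mul_one]
  have gtg : g * t * g = t := by rw [← htg, mul_assoc, hg, mul_one]
  have gfg : g * f * g = f₂ := by
    calc g * (t * a * t) * g = (g * t) * a * (t * g) := by group
      _ = (t * g) * a * (g * t) := by rw [← htg]
      _ = t * (g * a * g) * t := by group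
  have gf₂g : g * f₂ * g = f := by
    calc g * f₂ * g = g * (g * f * g) * g := by rw [gfg]
      _ = (g * g) * f * (g * g) := by group
      _ = f := by rw [hg, one_mul, mul_one]
  have conjg : ∀ x y : Q, x * y = y * x → (g * x * g) * (g * y * g) = (g * y * g) * (g * x * g) := by
    intro x y e
    calc g * x * g * (g * y * g) = g * x * (g * g) * y * g := by group
      _ = g * (x * y) * g := by rw [hg]; group
      _ = g * y * (g * g) * x * g := by rw [e, hg]; group
      _ = _ := by group
  have conjt : ∀ x y : Q, x * y = y * x → (t * x * t) * (t * y * t) = (t * y * t) * (t * x * t) := by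
    intro x y e
    calc t * x * t * (t * y * t) = t * x * (t * t) * y * t := by group
      _ = t * (x * y) * t := by rw [ht]; group
      _ = t * y * (t * t) * x * t := by rw [e, ht]; group
      _ = _ := by group
  have c1 : e₂ * f₂ = f₂ * e₂ := by
    have := conjg _ _ h1
    rwa [gfg] at this
  have c2 : e₂ * f = f * e₂ := by
    have := conjg _ _ h2
    rwa [gf₂g] at this
  -- the first factor
  set v := a * t * g * a with hv
  have hvv : v * v = 1 := by
    calc a * t * g * a * (a * t * g * a) = a * t * g * (a * a) * t * g * a := by group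
      _ = a * ((t * g) * (t * g)) * a := by rw [ha]; group
      _ = a * ((g * t) * (t * g)) * a := by rw [← htg]
      _ = a * (g * (t * t) * g) * a := by group
      _ = 1 := by rw [ht, mul_one, hg, mul_one, ha]
  set ζ := (a * e₂) * (a * e₂) with hζ
  have huv2 : (t * v) * (t * v) = (f * f₂) * (e₂ * a) := by
    calc t * (a * t * g * a) * (t * (a * t * g * a)) = f * g * a * (f * g * a) := by rw [hf]; group
      _ = f * g * (a * f) * g * a := by group
      _ = f * g * (f * a) * g * a := by rw [h1]
      _ = f * (g * f) * ((g * g) * (a * g)) * a := by rw [hg]; group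
      _ = f * (g * f * g) * (g * a * g) * a := by group
      _ = f * f₂ * (e₂ * a) := by rw [gfg, ← he₂]; group
  have hz1 : (e₂ * a) * (e₂ * a) = ζ⁻¹ := by
    have ie : e₂⁻¹ = e₂ := by
      rw [he₂, mul_inv_rev, mul_inv_rev, ia, ig]; group
    rw [hζ, mul_inv_rev, mul_inv_rev, ia, ie]
  have hz2 : (f * f₂) * (f * f₂) = t * ζ * t := by
    calc (f * f₂) * (f * f₂) = t * a * (t * t) * e₂ * (t * t) * a * (t * t) * e₂ * t := by
          rw [hf, hf₂]; group
      _ = t * ((a * e₂) * (a * e₂)) * t := by rw [ht]; group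
      _ = _ := by rw [hζ]
  have hcomm : Commute (f * f₂) (e₂ * a) :=
    ((show Commute f e₂ from c2.symm).mul_right (show Commute f a from h1.symm)).mul_left
      ((show Commute f₂ e₂ from c1.symm).mul_right (show Commute f₂ a from h2.symm))
  have huv4 : (t * v) ^ 4 = 1 := by
    rw [show (4 : ℕ) = 2 + 2 from rfl, pow_add, pow_two, huv2]
    calc (f * f₂) * (e₂ * a) * ((f * f₂) * (e₂ * a))
        = (f * f₂) * ((e₂ * a) * (f * f₂)) * (e₂ * a) := by group
      _ = (f * f₂) * ((f * f₂) * (e₂ * a)) * (e₂ * a) := by rw [hcomm.eq]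
      _ = ((f * f₂) * (f * f₂)) * ((e₂ * a) * (e₂ * a)) := by group
      _ = 1 := by rw [hz1, hz2, h4, mul_inv_cancel]
  obtain ⟨α, hα0, hα1, hαmem⟩ := exists_hom ht hvv huv4
  set β : D →* Q := (MulAut.conj a).toMonoidHom.comp α with hβ
  -- the two factors commute
  have k11 : t * (a * t * a) = a * t * a * t := by
    calc t * (a * t * a) = f * a := by rw [hf]; group
      _ = a * f := h1.symm
      _ = _ := by rw [hf]; group
  have k12 : t * (t * g) = t * g * t := by rw [← mul_assoc, ht, one_mul, tgt]
  have k21 : v * (a * t * a) = a * t * a * v := by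
    calc v * (a * t * a) = a * t * g * (a * a) * t * a := by rw [hv]; group
      _ = a * (t * g * t) * a := by rw [ha]; group
      _ = a * ((t * t) * g) * a := by rw [tgt, ht, one_mul]
      _ = a * t * (t * g) * a := by group
      _ = a * t * (a * a) * (t * g) * a := by rw [ha]; group
      _ = _ := by rw [hv]; group
  have k22 : v * (t * g) = t * g * v := by
    have e : (t * g) * a * (t * g) = f₂ := by
      calc t * g * a * (t * g) = t * g * a * (g * t) := by rw [← htg]
        _ = _ := by rw [hf₂, he₂]; group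
    calc v * (t * g) = a * ((t * g) * a * (t * g)) := by rw [hv]; group
      _ = f₂ * a := by rw [e, h2]
      _ = (t * g) * a * (t * g) * a := by rw [e]
      _ = _ := by rw [hv]; group
  have hβu : a * t * a⁻¹ = a * t * a := by rw [ia]
  have hβv : a * v * a⁻¹ = t * g := by
    rw [ia, hv]
    calc a * (a * t * g * a) * a = (a * a) * t * g * (a * a) := by group
      _ = _ := by rw [ha]; group
  have hAB : ∀ d d' : D, Commute (α d) (β d') := by
    intro d d'
    have hle : Subgroup.closure ({t, v} : Set Q) ≤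
        Subgroup.centralizer ((Subgroup.closure ({t, v} : Set Q)).map (MulAut.conj a).toMonoidHom : Set Q) := by
      rw [Subgroup.closure_le, MonoidHom.map_closure, Subgroup.centralizer_closure]
      intro x hx
      rw [SetLike.mem_coe, Subgroup.mem_centralizer_iff]
      rintro _ ⟨y, hy, rfl⟩
      simp only [MulEquiv.coe_toMonoidHom, MulAut.conj_apply]
      rcases hx with rfl | rfl <;> rcases hy with rfl | rfl
      · rw [hβu]; exact k11.symm
      · rw [hβv]; exact k12.symm
      · rw [hβu]; exact k21.symm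
      · rw [hβv]; exact k22.symm
    exact (Subgroup.mem_centralizer_iff.1 (hle (hαmem d)) _ ⟨α d', hαmem d', rfl⟩).symm
  -- the interchanging involution
  let s₀ : Multiplicative (ZMod 2) →* Q :=
    MonoidHom.mk' (fun s => if s = 1 then 1 else a) (fun s s' => by
      have hc : ∀ s : Multiplicative (ZMod 2), s = 1 ∨ s = Multiplicative.ofAdd 1 := by decide
      rcases hc s with rfl | rfl <;> rcases hc s' with rfl | rfl
      · simp
      · simp
      · simp
      · rw [if_pos (by decide), if_neg (by decide), ha])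
  let Φ : W →* Q := SemidirectProduct.lift (α.noncommCoprod β hAB) s₀ fun s => by
    have hc : ∀ s : Multiplicative (ZMod 2), s = 1 ∨ s = Multiplicative.ofAdd 1 := by decide
    rcases hc s with rfl | rfl
    · refine MonoidHom.ext fun x => ?_
      simp
    · refine MonoidHom.ext fun x => ?_
      show α x.2 * (a * α x.1 * a⁻¹) = a * (α x.1 * (a * α x.2 * a⁻¹)) * a⁻¹
      rw [ia, (show α x.2 * (a * α x.1 * a) = a * α x.1 * a * α x.2 by
        have := (hAB x.2 x.1).eq
        simp only [hβ, MonoidHom.comp_apply, MulEquiv.coe_toMonoidHom, MulAut.conj_apply, ia] at this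
        exact this)]
      calc a * α x.1 * a * α x.2 = a * α x.1 * a * α x.2 * (a * a) := by rw [ha, mul_one]
        _ = _ := by group
  have htR : t ∈ Φ.range := ⟨SemidirectProduct.inl (sr 0, 1), by
    rw [SemidirectProduct.lift_inl, MonoidHom.noncommCoprod_apply, hα0, map_one, mul_one]⟩
  have htgR : t * g ∈ Φ.range := ⟨SemidirectProduct.inl (1, sr 1), by
    rw [SemidirectProduct.lift_inl, MonoidHom.noncommCoprod_apply, map_one, one_mul, hβ,
      MonoidHom.comp_apply, hα1]
    exact hβv⟩
  refine ⟨Φ, ⟨SemidirectProduct.inr (Multiplicative.ofAdd 1), ?_⟩, htR, ?_⟩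
  · rw [SemidirectProduct.lift_inr]
    simp [s₀, if_neg (show (Multiplicative.ofAdd (1 : ZMod 2)) ≠ 1 by decide)]
  · have := mul_mem htR htgR
    rwa [← mul_assoc, ht, one_mul] at this

end CfsgLib.TwoGroups.DihedralWreath
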