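import Cfsg.Agent.Lib.TwoGroups.WreathOverSetup
import Cfsg.Agent.Lib.TwoGroups.WreathQuotient

/-!
# The normaliser of `D₈ wr 2` in a 2-group of sectional rank at most four

It has index two over the wreath product and its quotient by the centre is again `D₈ wr 2`.
-/

set_option autoImplicit false
set_option linter.unusedSectionVars false
set_option linter.style.haveILetI false

namespace CfsgLib.TwoGroups.WreathOver

open DihedralWreath DihedralGroup Subgroup

variable {S : Type*} [Group S] [Finite S]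

namespace Setup

variable (h : Setup S)

theorem card_P : Nat.card h.P = 128 := by
  rw [P, ← Nat.card_congr (MonoidHom.ofInjective h.inj).toEquiv, SemidirectProduct.card, Nat.card_prod,
    Nat.card_eq_fintype_card, DihedralGroup.card,
    Nat.card_congr (Multiplicative.toAdd : Multiplicative (ZMod 2) ≃ ZMod 2), Nat.card_zmod]

theorem z_ne_one : h.z ≠ 1 := fun e => absurd (h.inj (e.trans h.ι.map_one.symm)) (by decide)

theorem z_sq : h.z * h.z = 1 := h.inC_sq h.z_inC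

/-- `Z(S) = Z(P)`. -/
theorem center_eq : Subgroup.center S = (Subgroup.center h.P).map h.P.subtype := by
  have hne : Subgroup.center S ≠ ⊥ := by
    haveI : Fact (Nat.Prime 2) := ⟨Nat.prime_two⟩
    haveI : Nontrivial S := ⟨h.z, 1, h.z_ne_one⟩
    haveI := h.two.center_nontrivial
    exact (Subgroup.nontrivial_iff_ne_bot _).1 inferInstance
  obtain ⟨c, hc, hc1⟩ := (Subgroup.bot_or_exists_ne_one _).resolve_left hne
  have hcz : c = h.z := (h.centralizer_le (Subgroup.mem_centralizer_iff.2 fun x _ =>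
    Subgroup.mem_center_iff.1 hc x)).resolve_left hc1
  have hzc : h.z ∈ Subgroup.center S := hcz ▸ hc
  refine le_antisymm (fun s hs => ?_) ?_
  · have hsP : s ∈ h.P := by
      rcases h.centralizer_le (Subgroup.mem_centralizer_iff.2 fun x _ =>
        Subgroup.mem_center_iff.1 hs x) with rfl | rfl
      · exact one_mem _
      · exact ⟨_, rfl⟩
    exact ⟨⟨s, hsP⟩, Subgroup.mem_center_iff.2 fun x => Subtype.ext (Subgroup.mem_center_iff.1 hs x), rfl⟩
  · rintro _ ⟨s, hs, rfl⟩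
    rcases h.centralizer_le (c := (s : S)) (Subgroup.mem_centralizer_iff.2 fun x hx =>
      congrArg Subtype.val (Subgroup.mem_center_iff.1 hs ⟨x, hx⟩)) with e | e
    · show (s : S) ∈ _; rw [e]; exact one_mem _
    · show (s : S) ∈ _; rw [e]; exact hzc

theorem z_mem_center : h.z ∈ Subgroup.center S := by
  rw [h.center_eq]
  exact ⟨⟨h.z, _, rfl⟩, Subgroup.mem_center_iff.2 fun x => Subtype.ext (h.z_comm_P x.2).symm, rfl⟩

theorem mem_center_cases {s : S} (hs : s ∈ Subgroup.center S) : s = 1 ∨ s = h.z :=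
  h.centralizer_le (Subgroup.mem_centralizer_iff.2 fun x _ => Subgroup.mem_center_iff.1 hs x)

theorem card_center (h : Setup S) : Nat.card (Subgroup.center S) = 2 := by
  rw [Nat.card_eq_two_iff]
  refine ⟨1, ⟨h.z, h.z_mem_center⟩, fun e => h.z_ne_one (congrArg Subtype.val e).symm, ?_⟩
  refine Set.eq_univ_of_forall fun s => ?_
  rcases h.mem_center_cases s.2 with e | e
  · exact Or.inl (Subtype.ext e)
  · exact Or.inr (Subtype.ext e)

/-- Outside `P` the normaliser exchanges the two `2⁴`. -/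
theorem swap_V {g : S} (hg : g ∈ normalizer (h.P : Set S)) (hgP : g ∉ h.P) :
    (h.V 0).map (MulAut.conj g).toMonoidHom = h.V 1 ∧ (h.V 1).map (MulAut.conj g).toMonoidHom = h.V 0 := by
  have h0 : (h.V 0).map (MulAut.conj g).toMonoidHom = h.V 1 :=
    (h.conj_V hg (Or.inl rfl)).resolve_left fun e =>
      hgP (h.mem_of_fix hg (Coprime.mem_normalizer_of_conj_map_le (Coprime.conj_map_le_iff.1 e.le)))
  refine ⟨h0, (h.conj_V hg (Or.inr rfl)).resolve_right fun e => ?_⟩
  exact h.V_ne (map_injective (MulAut.conj g).injective (h0.trans e.symm))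

theorem inv_mul_mem {g g' : S} (hg : g ∈ normalizer (h.P : Set S)) (hgP : g ∉ h.P)
    (hg' : g' ∈ normalizer (h.P : Set S)) (hg'P : g' ∉ h.P) : g⁻¹ * g' ∈ h.P := by
  refine h.mem_of_fix (mul_mem (inv_mem hg) hg') (Coprime.mem_normalizer_of_conj_map_le fun v hv => ?_)
  have : g' * v * g'⁻¹ ∈ h.V 1 := (h.swap_V hg' hg'P).1 ▸ ⟨v, hv, rfl⟩
  rw [← (h.swap_V hg hgP).1] at this
  obtain ⟨u, hu, he⟩ := this
  simp only [MulEquiv.coe_toMonoidHom, MulAut.conj_apply] at he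
  have e : g⁻¹ * g' * v * (g⁻¹ * g')⁻¹ = u := by
    calc g⁻¹ * g' * v * (g⁻¹ * g')⁻¹ = g⁻¹ * (g' * v * g'⁻¹) * g := by group
      _ = u := by rw [← he]; group
  rw [e]; exact hu

theorem exists_outside (hlt : h.P ≠ ⊤) : ∃ g, g ∈ normalizer (h.P : Set S) ∧ g ∉ h.P := by
  haveI : Fact (Nat.Prime 2) := ⟨Nat.prime_two⟩
  haveI := h.two.isNilpotent
  exact (SetLike.exists_of_lt (Group.normalizerCondition_of_isNilpotent _ (lt_top_iff_ne_top.2 hlt))).imp
    fun g hg => ⟨hg.1, hg.2⟩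

theorem relIndex_eq_two (hlt : h.P ≠ ⊤) : h.P.relIndex (normalizer (h.P : Set S)) = 2 := by
  obtain ⟨g, hg, hgP⟩ := h.exists_outside hlt
  rw [relIndex, index_eq_two_iff]
  refine ⟨⟨g⁻¹, inv_mem hg⟩, fun b => ?_⟩
  simp only [mem_subgroupOf, Subgroup.coe_mul]
  by_cases hb : (b : S) ∈ h.P
  · exact Or.inr ⟨hb, fun hh => hgP (inv_mem_iff.1 ((mul_mem_cancel_left hb).1 hh))⟩
  · refine Or.inl ⟨?_, hb⟩
    have := h.inv_mul_mem (inv_mem b.2) (fun hh => hb (inv_mem_iff.1 hh)) (inv_mem hg)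
      (fun hh => hgP (inv_mem_iff.1 hh))
    rwa [inv_inv] at this

/-- Modulo `⟨z₁, z₂⟩` an outside element fixing `z₁` acts as `sigma` on both factors. -/
theorem base_class {g : S} (hg : g ∈ normalizer (h.P : Set S)) (hgP : g ∉ h.P)
    (hz : g * h.z₁ * g⁻¹ = h.z₁ ∧ g * h.z₂ * g⁻¹ = h.z₂) (p q : D) :
    ∃ e, h.InC e ∧ g * h.ι (base p q) * g⁻¹ = h.ι (base (sigma p) (sigma q)) * e := by
  obtain ⟨h0, h1⟩ := h.swap_V hg hgP
  have f0 : ∀ s ∈ h.V 0, g * s * g⁻¹ ∈ h.V 1 := fun s hs => h0 ▸ ⟨s, hs, rfl⟩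
  have f1 : ∀ s ∈ h.V 1, g * s * g⁻¹ ∈ h.V 0 := fun s hs => h1 ▸ ⟨s, hs, rfl⟩
  have b0 : ∀ s ∈ h.V 0, g⁻¹ * s * g ∈ h.V 1 := by
    intro s hs
    rw [← h1] at hs
    obtain ⟨u, hu, rfl⟩ := hs
    simpa [mul_assoc] using hu
  have b1 : ∀ s ∈ h.V 1, g⁻¹ * s * g ∈ h.V 0 := by
    intro s hs
    rw [← h0] at hs
    obtain ⟨u, hu, rfl⟩ := hs
    simpa [mul_assoc] using hu
  refine h.conj_base_class sigma sigma_mul ?_ p q
  rintro i (rfl | rfl)
  · rw [show sigma (sr 0) = sr 1 from rfl]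
    exact h.commutator_class hz.1 hz.2 (c := 0) (c' := 1) (Or.inl ⟨rfl, rfl⟩) (d := 1) (d' := 0)
      (Or.inr ⟨rfl, rfl⟩) f0 b0
  · rw [show sigma (sr 1) = sr 0 from rfl]
    exact h.commutator_class hz.1 hz.2 (c := 1) (c' := 0) (Or.inr ⟨rfl, rfl⟩) (d := 0) (d' := 1)
      (Or.inl ⟨rfl, rfl⟩) f1 b1

theorem conj_inC {g : S} (hz : g * h.z₁ * g⁻¹ = h.z₁ ∧ g * h.z₂ * g⁻¹ = h.z₂) {e : S} (he : h.InC e) :
    g * e * g⁻¹ = e := by
  rcases h.inC_cases he with rfl | rfl | rfl | rfl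
  · simp
  · exact hz.1
  · exact hz.2
  · rw [h.z_eq, ← conj_mul, hz.1, hz.2]

theorem t_conj_inC {e : S} (he : h.InC e) : h.InC (h.t * e * h.t⁻¹) := by
  obtain ⟨w, hw, rfl⟩ := he
  rw [right_eq_one hw.1, h.t_conj_base]
  exact ⟨_, ⟨rfl, hw.2.2, hw.2.1⟩, rfl⟩

/-- An element normalising `P`, outside `P` and fixing `z₁, z₂`. -/
def Out (g : S) : Prop :=
  g ∈ normalizer (h.P : Set S) ∧ g ∉ h.P ∧ g * h.z₁ * g⁻¹ = h.z₁ ∧ g * h.z₂ * g⁻¹ = h.z₂

theorem out_mul_base {g : S} (hg : h.Out g) (p q : D) : h.Out (g * h.ι (base p q)) := by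
  have hw := h.base_mem p q
  have fix : ∀ e, h.InC e → h.ι (base p q) * e * (h.ι (base p q))⁻¹ = e := fun e he => by
    rw [← h.inC_comm he, mul_inv_cancel_right]
  refine ⟨mul_mem hg.1 (le_normalizer hw), fun hh => hg.2.1 ((mul_mem_cancel_right hw).1 hh), ?_, ?_⟩
  · rw [show g * h.ι (base p q) * h.z₁ * (g * h.ι (base p q))⁻¹ =
      g * (h.ι (base p q) * h.z₁ * (h.ι (base p q))⁻¹) * g⁻¹ by group, fix _ h.z₁_inC, hg.2.2.1]
  · rw [show g * h.ι (base p q) * h.z₂ * (g * h.ι (base p q))⁻¹ =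
      g * (h.ι (base p q) * h.z₂ * (h.ι (base p q))⁻¹) * g⁻¹ by group, fix _ h.z₂_inC, hg.2.2.2]

theorem exists_out (hlt : h.P ≠ ⊤) : ∃ g, h.Out g := by
  obtain ⟨g, hg, hgP⟩ := h.exists_outside hlt
  rcases h.conj_z₁ hg with e | e
  · exact ⟨g, hg, hgP, e⟩
  · refine ⟨h.t * g, mul_mem (le_normalizer h.t_mem) hg,
      fun hh => hgP ((mul_mem_cancel_left h.t_mem).1 hh), ?_, ?_⟩
    · rw [show h.t * g * h.z₁ * (h.t * g)⁻¹ = h.t * (g * h.z₁ * g⁻¹) * h.t⁻¹ by group, e.1, h.t_z₂]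
    · rw [show h.t * g * h.z₂ * (h.t * g)⁻¹ = h.t * (g * h.z₂ * g⁻¹) * h.t⁻¹ by group, e.2, h.t_z₁]

/-- The square can be moved into `⟨z₁, z₂⟩`. -/
theorem exists_out_sq (hlt : h.P ≠ ⊤) : ∃ g, h.Out g ∧ h.InC (g * g) := by
  obtain ⟨g, hg⟩ := h.exists_out hlt
  have hg2 : g * g ∈ h.P := by
    have := h.inv_mul_mem (inv_mem hg.1) (fun hh => hg.2.1 (inv_mem_iff.1 hh)) hg.1 hg.2.1
    rwa [inv_inv] at this
  obtain ⟨w, hw⟩ := hg2
  have hwr : w.right = 1 := by
    have key : ∀ x : W, x * base (r 2) 1 = base (r 2) 1 * x → x.right = 1 := by decide +kernel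
    refine key w (h.inj ?_)
    rw [map_mul, map_mul, hw]
    show g * g * h.z₁ = h.z₁ * (g * g)
    calc g * g * h.z₁ = g * (g * h.z₁ * g⁻¹) * g⁻¹ * (g * g) := by group
      _ = _ := by rw [hg.2.2.1, hg.2.2.1]
  obtain ⟨k₁, k₂, rfl⟩ := exists_base hwr
  obtain ⟨_, ⟨c, hc, rfl⟩, he⟩ := h.base_class hg.1 hg.2.1 hg.2.2 k₁ k₂
  obtain ⟨i, j, rfl⟩ := exists_base hc.1
  have hfix : base k₁ k₂ = base (sigma k₁ * i) (sigma k₂ * j) := h.inj (by
    rw [← base_mul, map_mul, ← he, hw]; group)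
  have e := congrArg SemidirectProduct.left hfix
  simp only [base, Prod.mk.injEq] at e
  have key : ∀ k i : D, (i = 1 ∨ i = r 2) → k = sigma k * i →
      ∃ w, sigma w * k * w = 1 ∨ sigma w * k * w = r 2 := by decide
  obtain ⟨w₁, hw₁⟩ := key k₁ i hc.2.1 e.1
  obtain ⟨w₂, hw₂⟩ := key k₂ j hc.2.2 e.2
  obtain ⟨e', he', hconj⟩ := h.base_class hg.1 hg.2.1 hg.2.2 w₁ w₂
  refine ⟨g * h.ι (base w₁ w₂), h.out_mul_base hg w₁ w₂, ?_⟩
  rw [show g * h.ι (base w₁ w₂) * (g * h.ι (base w₁ w₂)) =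
    (g * h.ι (base w₁ w₂) * g⁻¹) * (g * g) * h.ι (base w₁ w₂) by group, hconj, ← hw,
    mul_assoc (h.ι (base (sigma w₁) (sigma w₂))), h.inC_comm he', ← mul_assoc, mul_assoc,
    h.inC_comm he', ← mul_assoc, ← map_mul, ← map_mul, base_mul, base_mul]
  exact h.inC_mul ⟨_, ⟨rfl, hw₁, hw₂⟩, rfl⟩ he'

/-- A normalised outside element. -/
theorem exists_normalised (hlt : h.P ≠ ⊤) :
    ∃ g, h.Out g ∧ (g * g = 1 ∨ g * g = h.z) ∧
      (g * h.t * g⁻¹ = h.t ∨ g * h.t * g⁻¹ = h.t * h.z) := by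
  obtain ⟨g, hg, hsq⟩ := h.exists_out_sq hlt
  obtain ⟨x, hx⟩ : g * h.t * g⁻¹ ∈ h.P := (mem_normalizer_iff.1 hg.1 _).1 h.t_mem
  have key : ∀ x : W, x * base (r 2) 1 ≠ base (r 2) 1 * x → x = tau * base x.left.2 x.left.1 := by
    decide +kernel
  have hxt : x = tau * base x.left.2 x.left.1 := by
    refine key x fun e => ?_
    have e' := congrArg h.ι e
    rw [map_mul, map_mul, hx] at e'
    have hzz : h.z₁ = h.z₂ := by
      have hinv : g⁻¹ * h.z₁ * g = h.z₁ := by
        conv_lhs => rw [← hg.2.2.1]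
        group
      calc h.z₁ = (g * h.t * g⁻¹ * h.z₁) * (g * h.t * g⁻¹)⁻¹ := by
            rw [show g * h.t * g⁻¹ * h.z₁ = h.z₁ * (g * h.t * g⁻¹) from e', mul_inv_cancel_right]
        _ = g * (h.t * (g⁻¹ * h.z₁ * g) * h.t⁻¹) * g⁻¹ := by group
        _ = h.z₂ := by rw [hinv, h.t_z₁, hg.2.2.2]
    exact absurd (h.inj hzz) (by decide)
  set p := x.left.2
  set q := x.left.1
  have hgtg : g * h.t * g⁻¹ = h.t * h.ι (base p q) := by rw [← hx, hxt, map_mul]; rfl
  have hq : q = p⁻¹ := by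
    have key : ∀ p q : D, (tau * base p q) * (tau * base p q) = 1 → q = p⁻¹ := by decide +kernel
    refine key p q (h.inj ?_)
    rw [map_mul, ← hxt, hx, map_one, show g * h.t * g⁻¹ * (g * h.t * g⁻¹) = g * (h.t * h.t) * g⁻¹ by group,
      h.t_sq]
    group
  -- `p` is a rotation
  obtain ⟨j, hj⟩ : ∃ j, p = r j := by
    obtain ⟨e, he, hc⟩ := h.base_class hg.1 hg.2.1 hg.2.2 p q
    have h2 : g * (h.t * h.ι (base p q)) * g⁻¹ = h.t * (h.t * (g * g) * h.t⁻¹ * (g * g)) := by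
      rw [← hgtg]
      calc g * (g * h.t * g⁻¹) * g⁻¹ = (g * g) * h.t * (g * g)⁻¹ := by group
        _ = g * g * h.t * (g * g) := by rw [h.inC_inv hsq]
        _ = h.t * h.t * (g * g) * h.t * (g * g) := by rw [h.t_sq]; group
        _ = _ := by rw [inv_eq_of_mul_eq_one_right h.t_sq]; group
    rw [show g * (h.t * h.ι (base p q)) * g⁻¹ = (g * h.t * g⁻¹) * (g * h.ι (base p q) * g⁻¹) by group,
      hgtg, hc, mul_assoc, mul_right_inj, ← mul_assoc, ← map_mul, base_mul] at h2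
    have hC : h.InC (h.ι (base (p * sigma p) (q * sigma q))) := by
      have := h.inC_mul (h.inC_mul (h.t_conj_inC hsq) hsq) he
      rwa [← h2, mul_assoc, h.inC_sq he, mul_one] at this
    obtain ⟨w, hw, hwe⟩ := hC
    rw [h.inj hwe] at hw
    have key : ∀ p : D, (p * sigma p = 1 ∨ p * sigma p = r 2) → ∃ j, p = r j := by decide
    exact key p hw.2.1
  -- remove it
  set w := h.ι (base (r (-j)) 1) with hw
  have hout := h.out_mul_base hg (r (-j)) 1
  have hsq' : h.InC (g * w * (g * w)) := by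
    obtain ⟨e, he, hc⟩ := h.base_class hg.1 hg.2.1 hg.2.2 (r (-j)) 1
    rw [show g * w * (g * w) = (g * w * g⁻¹) * (g * g) * w by group, hw, hc,
      mul_assoc (h.ι (base (sigma (r (-j))) (sigma 1))), h.inC_comm (h.inC_mul he hsq) (r (-j)) 1 |> fun e' =>
        (show h.ι (base (sigma (r (-j))) (sigma 1)) * (e * (g * g)) * h.ι (base (r (-j)) 1) =
          h.ι (base (sigma (r (-j))) (sigma 1)) * h.ι (base (r (-j)) 1) * (e * (g * g)) by
            rw [mul_assoc, e', ← mul_assoc]), ← map_mul, base_mul]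
    refine h.inC_mul ⟨_, ⟨rfl, Or.inl ?_, Or.inl ?_⟩, rfl⟩ (h.inC_mul he hsq)
    · show sigma (r (-j)) * r (-j) = 1
      have key : ∀ i : ZMod 4, sigma (r i) * r i = 1 := by decide
      exact key _
    · show sigma 1 * 1 = 1
      decide
  obtain ⟨c, hc, hcomm⟩ : ∃ c, h.InC c ∧ g * w * h.t * (g * w)⁻¹ = h.t * c := by
    have e1 : w * h.t * w⁻¹ = h.t * h.ι (base 1 (r (-j)) * (base (r (-j)) 1)⁻¹) := by
      rw [map_mul, map_inv, ← h.t_conj_base (r (-j)) 1, ← hw, inv_eq_of_mul_eq_one_right h.t_sq]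
      simp only [← mul_assoc]
      rw [h.t_sq, one_mul]
    rw [base_inv, base_mul, one_mul, inv_one, mul_one] at e1
    obtain ⟨e, he, hb⟩ := h.base_class hg.1 hg.2.1 hg.2.2 (r (-j))⁻¹ (r (-j))
    refine ⟨_, h.inC_mul ⟨base (p * sigma (r (-j))⁻¹) (q * sigma (r (-j))), ⟨rfl, Or.inl ?_, Or.inl ?_⟩, rfl⟩ he, ?_⟩
    · show p * sigma (r (-j))⁻¹ = 1
      rw [hj]
      have key : ∀ i : ZMod 4, r i * sigma (r (-i))⁻¹ = 1 := by decide
      exact key _
    · show q * sigma (r (-j)) = 1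
      rw [hq, hj]
      have key : ∀ i : ZMod 4, (r i)⁻¹ * sigma (r (-i)) = 1 := by decide
      exact key _
    · rw [show g * w * h.t * (g * w)⁻¹ = g * (w * h.t * w⁻¹) * g⁻¹ by group, e1,
        show g * (h.t * h.ι (base (r (-j))⁻¹ (r (-j)))) * g⁻¹ =
          (g * h.t * g⁻¹) * (g * h.ι (base (r (-j))⁻¹ (r (-j))) * g⁻¹) by group, hgtg, hb,
        ← base_mul p q (sigma (r (-j))⁻¹) (sigma (r (-j))), map_mul]
      group
  -- `⟨z₁, z₂⟩` collapses to `⟨z⟩`
  have hc' : c = 1 ∨ c = h.z := by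
    have e : (h.t * c) * (h.t * c) = 1 := by
      rw [← hcomm, show g * w * h.t * (g * w)⁻¹ * (g * w * h.t * (g * w)⁻¹) =
        g * w * (h.t * h.t) * (g * w)⁻¹ by group, h.t_sq]
      group
    have e' : (h.t * c * h.t⁻¹) * c = 1 := by rw [inv_eq_of_mul_eq_one_right h.t_sq]; rw [← mul_assoc] at e; exact e
    rcases h.inC_cases hc with r0 | r0 | r0 | r0
    · exact Or.inl r0
    · rw [r0, h.t_z₁] at e'
      rw [show h.z₂ * h.z₁ = h.z from by rw [h.z_eq]; exact (h.inC_comm h.z₁_inC 1 (r 2)).symm] at e'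
      exact absurd e' h.z_ne_one
    · rw [r0, h.t_z₂, ← h.z_eq] at e'
      exact absurd e' h.z_ne_one
    · exact Or.inr r0
  refine ⟨g * w, hout, ?_, hc'.imp (fun e => by rw [hcomm, e, mul_one]) fun e => by rw [hcomm, e]⟩
  set g₁ := g * w
  set d := g₁ * g₁ with hd
  have hd2 : d * h.t * d⁻¹ = h.t := by
    calc d * h.t * d⁻¹ = g₁ * (g₁ * h.t * g₁⁻¹) * g₁⁻¹ := by rw [hd]; group
      _ = g₁ * (h.t * c) * g₁⁻¹ := by rw [hcomm]
      _ = (g₁ * h.t * g₁⁻¹) * (g₁ * c * g₁⁻¹) := by group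
      _ = h.t * (c * c) := by rw [hcomm, h.conj_inC hout.2.2 hc]; group
      _ = _ := by rw [h.inC_sq hc, mul_one]
  have hd3 : h.t * d * h.t⁻¹ = d := by
    calc h.t * d * h.t⁻¹ = d * h.t * d⁻¹ * d * h.t⁻¹ := by rw [hd2]
      _ = d := by group
  rcases h.inC_cases hsq' with r0 | r0 | r0 | r0
  · exact Or.inl r0
  · rw [r0, h.t_z₁] at hd3
    exact absurd (h.inj hd3) (by decide)
  · rw [r0, h.t_z₂] at hd3
    exact absurd (h.inj hd3) (by decide)
  · exact Or.inr r0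

/-- The quotient of the normaliser by the centre is `D₈ wr 2`. -/
theorem quotient_mulEquiv (hlt : h.P ≠ ⊤)
    [((Subgroup.center S).subgroupOf (normalizer (h.P : Set S))).Normal] :
    Nonempty (W ≃* normalizer (h.P : Set S) ⧸ (Subgroup.center S).subgroupOf (normalizer (h.P : Set S))) := by
  obtain ⟨g, hg, hgg, hgt⟩ := h.exists_normalised hlt
  set N := normalizer (h.P : Set S) with hN
  set π := QuotientGroup.mk' ((Subgroup.center S).subgroupOf N) with hπ
  have hπz : ∀ {u v : N}, ((v : S) = u ∨ (v : S) = u * h.z) → π v = π u := fun {u v} e => by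
    refine (QuotientGroup.eq (s := (Subgroup.center S).subgroupOf N)).2 (mem_subgroupOf.2 ?_)
    show (v : S)⁻¹ * u ∈ Subgroup.center S
    rcases e with e | e <;> rw [e]
    · rw [inv_mul_cancel]; exact one_mem _
    · rw [mul_inv_rev, mul_assoc, inv_mul_cancel, mul_one]; exact inv_mem h.z_mem_center
  let j : W →* N := h.ι.codRestrict N fun w => le_normalizer (⟨w, rfl⟩ : h.ι w ∈ h.P)
  set e₁ : W := base (sr 0) 1 with he₁
  obtain ⟨_, ⟨c, hc, rfl⟩, hconj⟩ := h.base_class hg.1 hg.2.1 hg.2.2 (sr 0) 1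
  obtain ⟨i, k, rfl⟩ := exists_base hc.1
  have hi := hc.2.1
  have hk := hc.2.2
  rw [← map_mul, base_mul, show sigma (sr 0) = sr 1 from rfl, show sigma 1 = (1 : D) from rfl, one_mul] at hconj
  set G : N := ⟨g, hg.1⟩ with hG
  set a := π (j e₁) with ha
  set t := π (j tau) with ht
  set gb := π G with hgb
  have map2 : ∀ w w', π (j (w * w')) = π (j w) * π (j w') := fun w w' => by rw [map_mul, map_mul]
  have hgb2 : gb * gb = 1 := by
    rw [hgb, ← map_mul, ← map_one π]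
    exact hπz (hgg.imp id fun e => by simpa using e)
  have ha2 : a * a = 1 := by
    rw [ha, ← map2, show e₁ * e₁ = 1 by decide, map_one, map_one]
  have ht2 : t * t = 1 := by
    rw [ht, ← map2, show tau * tau = 1 by decide, map_one, map_one]
  have itb : t⁻¹ = t := inv_eq_of_mul_eq_one_right ht2
  have igb : gb⁻¹ = gb := inv_eq_of_mul_eq_one_right hgb2
  have hgte : π (G * j tau * G⁻¹) = t := by
    rw [ht]
    exact hπz (hgt.imp id id)
  have htg : t * gb = gb * t := by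
    rw [map_mul, map_mul, map_inv, ← hgb, ← ht] at hgte
    exact (mul_inv_eq_iff_eq_mul.1 hgte).symm
  have he2 : gb * a * gb = π (j (base (sr 1 * i) k)) := by
    conv_lhs => rw [show gb * a * gb = gb * a * gb⁻¹ by rw [igb]]
    rw [hgb, ha, ← map_inv, ← map_mul, ← map_mul]
    exact congrArg π (Subtype.ext hconj)
  have htat : t * a * t = π (j (base 1 (sr 0))) := by
    rw [ht, ha, ← map2, ← map2, show tau * e₁ * tau = base 1 (sr 0) by decide]
  have h1 : a * (t * a * t) = t * a * t * a := by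
    rw [htat, ha, ← map2, ← map2, show e₁ * base 1 (sr 0) = base 1 (sr 0) * e₁ by decide]
  have htgat : t * (gb * a * gb) * t = π (j (base k (sr 1 * i))) := by
    have key : ∀ p q : D, tau * base p q * tau = base q p := by decide +kernel
    rw [he2, ht, ← map2, ← map2, key]
  have h2 : a * (t * (gb * a * gb) * t) = t * (gb * a * gb) * t * a := by
    have key : ∀ k x : D, (k = 1 ∨ k = r 2) →
        e₁ * base k x = base k x * e₁ := by decide +kernel
    rw [htgat, ha, ← map2, ← map2, key k _ hk]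
  have hζ : (a * (gb * a * gb)) * (a * (gb * a * gb)) = π (j (base (r 2) 1)) := by
    have key : ∀ i k : D, (i = 1 ∨ i = r 2) → (k = 1 ∨ k = r 2) →
        e₁ * base (sr 1 * i) k * (e₁ * base (sr 1 * i) k) = base (r 2) 1 := by decide +kernel
    rw [he2, ha, ← map2, ← map2, key i k hi hk]
  have h3 : (a * (gb * a * gb)) * (a * (gb * a * gb)) * ((a * (gb * a * gb)) * (a * (gb * a * gb))) = 1 := by
    rw [hζ, ← map2, show base (r 2) 1 * base (r 2) 1 = 1 by decide, map_one, map_one]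
  have hz12 : π (j (base 1 (r 2))) = π (j (base (r 2) 1)) := hπz (Or.inr (by
    show h.z₂ = h.z₁ * h.z
    rw [h.z_eq, ← mul_assoc, h.inC_sq h.z₁_inC, one_mul]))
  have h4 : t * ((a * (gb * a * gb)) * (a * (gb * a * gb))) * t = (a * (gb * a * gb)) * (a * (gb * a * gb)) := by
    rw [hζ, ht, ← map2, ← map2, show tau * base (r 2) 1 * tau = base 1 (r 2) by decide, hz12]
  obtain ⟨Φ, hΦa, hΦt, hΦg⟩ := exists_hom_wreath ha2 ht2 hgb2 htg h1 h2 h3 h4
  -- surjectivity
  let R : Subgroup W := Φ.range.comap (π.comp j)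
  have hR2 : base (r 2) 1 ∈ R := by
    show π (j (base (r 2) 1)) ∈ Φ.range
    rw [← hζ]
    exact mul_mem (mul_mem hΦa (mul_mem (mul_mem hΦg hΦa) hΦg)) (mul_mem hΦa (mul_mem (mul_mem hΦg hΦa) hΦg))
  have hRk : base 1 (r 2) ∈ R := by
    show π (j (base 1 (r 2))) ∈ Φ.range
    rw [hz12]; exact hR2
  have hR1 : base (sr 1) 1 ∈ R := by
    have hm : base (sr 1 * i) k ∈ R := by
      show π (j (base (sr 1 * i) k)) ∈ Φ.range
      rw [← he2]; exact mul_mem (mul_mem hΦg hΦa) hΦg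
    have hi' : base i 1 ∈ R := by
      rcases hi with rfl | rfl
      · exact R.one_mem
      · exact hR2
    have hk' : base 1 k ∈ R := by
      rcases hk with rfl | rfl
      · exact R.one_mem
      · exact hRk
    have e : base (sr 1) 1 = base (sr 1 * i) k * (base i 1 * base 1 k)⁻¹ := by
      rw [base_mul, base_inv, base_mul, mul_one, one_mul, mul_inv_cancel_right, mul_inv_cancel]
    rw [e]
    exact mul_mem hm (inv_mem (mul_mem hi' hk'))
  have hR0 : base (sr 0) 1 ∈ R := hΦa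
  have hRt : tau ∈ R := hΦt
  have hside : ∀ d : D, base d 1 ∈ R := by
    have m : ∀ {x y : D}, base x 1 ∈ R → base y 1 ∈ R → base (x * y) 1 ∈ R := fun {x y} hx hy => by
      have := mul_mem hx hy
      rwa [base_mul, mul_one] at this
    intro d
    rcases words d with rfl | rfl | rfl | rfl | rfl | rfl | rfl | rfl
    · exact R.one_mem
    · exact hR0
    · exact hR1
    · exact m hR0 hR1
    · exact m hR1 hR0
    · exact m (m hR0 hR1) hR0
    · exact m (m hR1 hR0) hR1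
    · exact m (m hR0 hR1) (m hR0 hR1)
  have hall : ∀ w : W, w ∈ R := by
    intro w
    have key : ∀ x : W, x = base x.left.1 1 * (tau * base x.left.2 1 * tau) ∨
        x = base x.left.1 1 * (tau * base x.left.2 1 * tau) * tau := by decide +kernel
    rcases key w with e | e <;> rw [e]
    · exact mul_mem (hside _) (mul_mem (mul_mem hRt (hside _)) hRt)
    · exact mul_mem (mul_mem (hside _) (mul_mem (mul_mem hRt (hside _)) hRt)) hRt
  have hsurj : Function.Surjective Φ := by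
    intro x
    obtain ⟨n, rfl⟩ := QuotientGroup.mk'_surjective _ x
    by_cases hn : (n : S) ∈ h.P
    · obtain ⟨w, hw⟩ := hn
      have : π n = π (j w) := congrArg π (Subtype.ext hw.symm)
      rw [this]; exact hall w
    · obtain ⟨w, hw⟩ := h.inv_mul_mem hg.1 hg.2.1 n.2 hn
      have : n = G * j w := Subtype.ext (show (n : S) = g * h.ι w by rw [hw, mul_inv_cancel_left])
      rw [this, map_mul]
      exact mul_mem hΦg (hall w)
  refine ⟨MulEquiv.ofBijective Φ ?_⟩
  refine (Nat.bijective_iff_surjective_and_card Φ).2 ⟨hsurj, ?_⟩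
  have hW : Nat.card W = 128 := by
    rw [Nat.card_congr (MonoidHom.ofInjective h.inj).toEquiv]; exact h.card_P
  have hNc : Nat.card N = 256 := by
    rw [← Coprime.card_mul_relIndex' (le_normalizer : h.P ≤ N), h.card_P, h.relIndex_eq_two hlt]
  have hZc : Nat.card ((Subgroup.center S).subgroupOf N) = 2 := by
    rw [Nat.card_congr (subgroupOfEquivOfLe (Subgroup.center_le_normalizer _)).toEquiv, h.card_center]
  have := Subgroup.card_eq_card_quotient_mul_card_subgroup ((Subgroup.center S).subgroupOf N)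
  rw [hNc, hZc] at this
  omega

end Setup

end CfsgLib.TwoGroups.WreathOver
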