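import Cfsg.Agent.Lib.TwoGroups.DihedralWreath
import Cfsg.Agent.Lib.Coprime.SchurZassenhaus
import Cfsg.Prelude.Def_CaseTheorems
import Cfsg.Prelude.Def_Transfer
import Mathlib

/-!
# A copy of `D₈ wr 2` inside a 2-group of sectional rank at most four: basic facts

No involutory extension of the base acts trivially modulo `⟨z₁, z₂⟩`; hence the centraliser is the
centre and the normaliser of each `2⁴` is the wreath product itself.
-/

set_option autoImplicit false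
set_option linter.unusedSectionVars false
set_option linter.style.haveILetI false

namespace CfsgLib.TwoGroups.WreathOver

open DihedralWreath DihedralGroup Subgroup

variable {S : Type*} [Group S] [Finite S]

/-- The hypotheses. -/
structure Setup (S : Type*) [Group S] where
  ι : W →* S
  inj : Function.Injective ι
  two : IsPGroup 2 S
  rank : Cfsg.SectionalPRankLE 2 4 S

namespace Setup

variable (h : Setup S)

/-- The copy of `D₈ wr 2`. -/
def P : Subgroup S := h.ι.range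

/-- `z₁`. -/
def z₁ : S := h.ι (base (r 2) 1)

/-- `z₂`. -/
def z₂ : S := h.ι (base 1 (r 2))

/-- The central involution. -/
def z : S := h.ι (base (r 2) (r 2))

/-- The interchanging involution. -/
def t : S := h.ι tau

/-- `⟨z₁, z₂⟩` as a set. -/
def InC (s : S) : Prop := ∃ w, IsC w ∧ h.ι w = s

theorem t_mem : h.t ∈ h.P := ⟨_, rfl⟩

theorem base_mem (p q : D) : h.ι (base p q) ∈ h.P := ⟨_, rfl⟩

theorem exists_base {w : W} (hw : w.right = 1) : ∃ p q, w = base p q :=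
  ⟨_, _, right_eq_one hw⟩

theorem inC_one : h.InC 1 := ⟨1, ⟨rfl, Or.inl rfl, Or.inl rfl⟩, map_one _⟩

theorem isC_mul : ∀ {w w' : W}, IsC w → IsC w' → IsC (w * w') := by
  have key : ∀ p q : D, (p = 1 ∨ p = r 2) → (q = 1 ∨ q = r 2) → (p * q = 1 ∨ p * q = r 2) := by decide
  intro w w' hw hw'
  rw [right_eq_one hw.1, right_eq_one hw'.1, base_mul]
  exact ⟨rfl, key _ _ hw.2.1 hw'.2.1, key _ _ hw.2.2 hw'.2.2⟩

theorem isC_sq_one : ∀ {w : W}, IsC w → w * w = 1 := by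
  have key : ∀ p : D, (p = 1 ∨ p = r 2) → p * p = 1 := by decide
  intro w hw
  rw [right_eq_one hw.1, base_mul, key _ hw.2.1, key _ hw.2.2]
  rfl

theorem inC_mul {a b : S} (ha : h.InC a) (hb : h.InC b) : h.InC (a * b) := by
  obtain ⟨w, hw, rfl⟩ := ha
  obtain ⟨w', hw', rfl⟩ := hb
  exact ⟨_, isC_mul hw hw', map_mul _ _ _⟩

theorem inC_sq {a : S} (ha : h.InC a) : a * a = 1 := by
  obtain ⟨w, hw, rfl⟩ := ha
  rw [← map_mul, isC_sq_one hw, map_one]

theorem inC_inv {a : S} (ha : h.InC a) : a⁻¹ = a := inv_eq_of_mul_eq_one_right (h.inC_sq ha)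

theorem inC_comm {a : S} (ha : h.InC a) (p q : D) : a * h.ι (base p q) = h.ι (base p q) * a := by
  obtain ⟨w, hw, rfl⟩ := ha
  rw [← map_mul, ← map_mul, isC_central w hw]

theorem inC_cases {a : S} (ha : h.InC a) : a = 1 ∨ a = h.z₁ ∨ a = h.z₂ ∨ a = h.z := by
  obtain ⟨w, ⟨hw, hp, hq⟩, rfl⟩ := ha
  rw [right_eq_one hw]
  rcases hp with e | e <;> rcases hq with e' | e' <;> rw [e, e']
  · exact Or.inl (map_one _)
  · exact Or.inr (Or.inr (Or.inl rfl))
  · exact Or.inr (Or.inl rfl)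
  · exact Or.inr (Or.inr (Or.inr rfl))

theorem z₁_inC : h.InC h.z₁ := ⟨_, ⟨rfl, Or.inr rfl, Or.inl rfl⟩, rfl⟩

theorem z₂_inC : h.InC h.z₂ := ⟨_, ⟨rfl, Or.inl rfl, Or.inr rfl⟩, rfl⟩

theorem z_inC : h.InC h.z := ⟨_, ⟨rfl, Or.inr rfl, Or.inr rfl⟩, rfl⟩

theorem z_eq : h.z = h.z₁ * h.z₂ := by rw [z, z₁, z₂, ← map_mul, base_mul, mul_one, one_mul]

theorem t_sq : h.t * h.t = 1 := by
  rw [t, ← map_mul, show tau * tau = 1 from by decide, map_one]

theorem t_conj_base (p q : D) : h.t * h.ι (base p q) * h.t⁻¹ = h.ι (base q p) := by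
  rw [t, ← map_inv, ← map_mul, ← map_mul]
  have key : ∀ p q : D, tau * base p q * tau⁻¹ = base q p := by decide +kernel
  rw [key]

theorem z_comm_P {s : S} (hs : s ∈ h.P) : h.z * s = s * h.z := by
  obtain ⟨w, rfl⟩ := hs
  rw [z, ← map_mul, ← map_mul, z_central]

/-- An element of the normaliser of `P` fixes the centre. -/
theorem conj_z {g : S} (hg : g ∈ normalizer (h.P : Set S)) : g * h.z * g⁻¹ = h.z := by
  have hmem : g * h.z * g⁻¹ ∈ h.P := (mem_normalizer_iff.1 hg _).1 ⟨_, rfl⟩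
  obtain ⟨w, hw⟩ := hmem
  rcases center_cases w (fun v => h.inj (by
    rw [map_mul, map_mul, hw]
    have hv : g⁻¹ * h.ι v * g ∈ h.P := (mem_normalizer_iff''.1 hg _).1 ⟨v, rfl⟩
    calc g * h.z * g⁻¹ * h.ι v = g * (h.z * (g⁻¹ * h.ι v * g)) * g⁻¹ := by group
      _ = g * ((g⁻¹ * h.ι v * g) * h.z) * g⁻¹ := by rw [h.z_comm_P hv]
      _ = _ := by group)) with rfl | rfl
  · rw [map_one] at hw
    have : h.z = 1 := conj_eq_one_iff.1 hw.symm
    exact absurd (h.inj (this.trans h.ι.map_one.symm)) (by decide)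
  · exact hw.symm

/-- No involutory extension of the base is trivial modulo `⟨z₁, z₂⟩`. -/
theorem no_extension {g : S} (hgP : g ∉ h.P) (hg2 : h.InC (g * g))
    (hconj : ∀ p q, ∃ c, h.InC c ∧ g * h.ι (base p q) * g⁻¹ = h.ι (base p q) * c) : False := by
  classical
  have hgc : ∀ c, h.InC c → ∃ c', h.InC c' ∧ g * c * g⁻¹ = c' := by
    rintro _ ⟨w, hw, rfl⟩
    obtain ⟨p, q, rfl⟩ := exists_base hw.1
    obtain ⟨c, hc, e⟩ := hconj p q
    exact ⟨_, h.inC_mul ⟨_, hw, rfl⟩ hc, e⟩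
  -- `L = K ⟨g⟩`
  let L : Subgroup S :=
    { carrier := {s | ∃ p q, s = h.ι (base p q) ∨ s = h.ι (base p q) * g}
      one_mem' := ⟨1, 1, Or.inl h.ι.map_one.symm⟩
      mul_mem' := by
        rintro a b ⟨p, q, ha⟩ ⟨p', q', hb⟩
        obtain ⟨c, ⟨w, hw, rfl⟩, e⟩ := hconj p' q'
        obtain ⟨i, j, rfl⟩ := exists_base hw.1
        have hswap : g * h.ι (base p' q') = h.ι (base (p' * i) (q' * j)) * g := by
          rw [← base_mul, map_mul, ← e, inv_mul_cancel_right]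
        rcases ha with rfl | rfl <;> rcases hb with rfl | rfl
        · exact ⟨p * p', q * q', Or.inl (by rw [← map_mul, base_mul])⟩
        · exact ⟨p * p', q * q', Or.inr (by rw [← mul_assoc, ← map_mul, base_mul])⟩
        · exact ⟨p * (p' * i), q * (q' * j), Or.inr (by
            rw [mul_assoc, hswap, ← mul_assoc, ← map_mul, base_mul])⟩
        · obtain ⟨w₂, hw₂, e₂⟩ := hg2
          obtain ⟨i₂, j₂, rfl⟩ := exists_base hw₂.1
          refine ⟨p * (p' * i) * i₂, q * (q' * j) * j₂, Or.inl ?_⟩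
          calc h.ι (base p q) * g * (h.ι (base p' q') * g)
              = h.ι (base p q) * (g * h.ι (base p' q')) * g := by group
            _ = h.ι (base p q) * h.ι (base (p' * i) (q' * j)) * (g * g) := by rw [hswap]; group
            _ = _ := by rw [← e₂, ← map_mul, ← map_mul, base_mul, base_mul]
      inv_mem' := by
        rintro a ⟨p, q, rfl | rfl⟩
        · exact ⟨p⁻¹, q⁻¹, Or.inl (by rw [← map_inv, base_inv])⟩
        · obtain ⟨w₂, hw₂, e₂⟩ := hg2
          obtain ⟨i₂, j₂, rfl⟩ := exists_base hw₂.1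
          obtain ⟨c, ⟨w, hw, rfl⟩, e⟩ := hconj p⁻¹ q⁻¹
          obtain ⟨i, j, rfl⟩ := exists_base hw.1
          refine ⟨i₂⁻¹ * (p⁻¹ * i), j₂⁻¹ * (q⁻¹ * j), Or.inr ?_⟩
          rw [← base_mul, ← base_mul, map_mul, map_mul, ← e, ← base_inv i₂, map_inv, e₂, ← base_inv p, map_inv]
          group }
  let K : Subgroup L := (((h.ι.comp SemidirectProduct.inl).range).subgroupOf L)
  let C : Subgroup L :=
    { carrier := {s | h.InC (s : S)}
      one_mem' := h.inC_one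
      mul_mem' := fun {a b} ha hb => h.inC_mul ha hb
      inv_mem' := fun {a} ha => by
        show h.InC ((a : S)⁻¹)
        rw [h.inC_inv ha]; exact ha }
  haveI : C.Normal := ⟨fun c hc a => by
    obtain ⟨p, q, ha⟩ := a.2
    show h.InC ((a : S) * c * (a : S)⁻¹)
    rcases ha with ha | ha <;> rw [ha]
    · rw [← h.inC_comm hc, mul_inv_cancel_right]; exact hc
    · obtain ⟨c', hc', e⟩ := hgc c hc
      rw [show h.ι (base p q) * g * (c : S) * (h.ι (base p q) * g)⁻¹ =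
        h.ι (base p q) * (g * c * g⁻¹) * (h.ι (base p q))⁻¹ by group, e, ← h.inC_comm hc',
        mul_inv_cancel_right]
      exact hc'⟩
  -- squares lie in `C`
  have hsq : ∀ a : L, a * a ∈ C := by
    intro a
    show h.InC ((a : S) * a)
    obtain ⟨p, q, ha⟩ := a.2
    rcases ha with ha | ha <;> rw [ha]
    · exact ⟨_, isC_sq p q, by rw [map_mul]⟩
    · obtain ⟨c, hc, e⟩ := hconj p q
      rw [show h.ι (base p q) * g * (h.ι (base p q) * g) =
        h.ι (base p q) * (g * h.ι (base p q) * g⁻¹) * (g * g) by group, e,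
        ← mul_assoc (h.ι (base p q))]
      exact h.inC_mul (h.inC_mul ⟨_, isC_sq p q, map_mul _ _ _⟩ hc) hg2
  have hQ2 : ∀ x : L ⧸ C, x * x = 1 := fun x => QuotientGroup.induction_on x fun a =>
    (QuotientGroup.eq_one_iff (a * a)).2 (hsq a)
  have hQc : IsMulCommutative (⊤ : Subgroup (L ⧸ C)) := isMulCommutative_iff.2 fun x y => by
    refine Subtype.ext ?_
    show (x : L ⧸ C) * y = y * x
    have hinv : ∀ u : L ⧸ C, u⁻¹ = u := fun u => inv_eq_of_mul_eq_one_right (hQ2 u)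
    calc (x : L ⧸ C) * y = ((x : L ⧸ C) * y)⁻¹ := (hinv _).symm
      _ = _ := by rw [mul_inv_rev, hinv, hinv]
  have hle := h.rank L C ⊤ hQc fun x _ => by rw [pow_two]; exact hQ2 x
  rw [Subgroup.card_top] at hle
  -- but the quotient has order at least 32
  have hC4 : Nat.card C ≤ 4 := by
    let f : C → Fin 2 × Fin 2 := fun c => ⟨if ∃ w, IsC w ∧ h.ι w = ((c : L) : S) ∧ w.left.1 = 1 then 0 else 1,
      if ∃ w, IsC w ∧ h.ι w = ((c : L) : S) ∧ w.left.2 = 1 then 0 else 1⟩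
    have hf : Function.Injective f := by
      intro c c' e
      obtain ⟨w, hw, hwe⟩ := c.2
      obtain ⟨w', hw', hwe'⟩ := c'.2
      have key : ∀ {u : W} {x : C}, IsC u → h.ι u = ((x : L) : S) →
          ((∃ w, IsC w ∧ h.ι w = ((x : L) : S) ∧ w.left.1 = 1) ↔ u.left.1 = 1) ∧
          ((∃ w, IsC w ∧ h.ι w = ((x : L) : S) ∧ w.left.2 = 1) ↔ u.left.2 = 1) := fun hu hx =>
        ⟨⟨fun ⟨w, _, e, e1⟩ => h.inj (hx.trans e.symm) ▸ e1, fun e1 => ⟨_, hu, hx, e1⟩⟩,
          ⟨fun ⟨w, _, e, e1⟩ => h.inj (hx.trans e.symm) ▸ e1, fun e1 => ⟨_, hu, hx, e1⟩⟩⟩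
      have k1 := key (x := c) hw hwe
      have k2 := key (x := c') hw' hwe'
      simp only [f, Prod.mk.injEq, k1.1, k1.2, k2.1, k2.2] at e
      refine Subtype.ext (Subtype.ext ?_)
      rw [← hwe, ← hwe', right_eq_one hw.1, right_eq_one hw'.1]
      have hd : ∀ p p' : D, (p = 1 ∨ p = r 2) → (p' = 1 ∨ p' = r 2) →
          ((if p = 1 then (0 : Fin 2) else 1) = if p' = 1 then 0 else 1) → p = p' := by decide
      rw [hd _ _ hw.2.1 hw'.2.1 e.1, hd _ _ hw.2.2 hw'.2.2 e.2]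
    simpa using Nat.card_le_card_of_injective f hf
  have hLc : 128 ≤ Nat.card L := by
    let f : (D × D) × Fin 2 → L := fun x => if x.2 = 0 then ⟨h.ι (base x.1.1 x.1.2), _, _, Or.inl rfl⟩
      else ⟨h.ι (base x.1.1 x.1.2) * g, _, _, Or.inr rfl⟩
    have hb : ∀ {p q p' q' : D}, h.ι (base p q) = h.ι (base p' q') → ((p, q) : D × D) = (p', q') :=
      fun e => congrArg SemidirectProduct.left (h.inj e)
    have hf : Function.Injective f := by
      rintro ⟨⟨p, q⟩, i⟩ ⟨⟨p', q'⟩, j⟩ e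
      have e' := congrArg Subtype.val e
      fin_cases i <;> fin_cases j
      · exact Prod.ext (hb e') rfl
      · refine absurd ?_ hgP
        change h.ι (base p q) = h.ι (base p' q') * g at e'
        exact ⟨(base p' q')⁻¹ * base p q, by rw [map_mul, map_inv, e', inv_mul_cancel_left]⟩
      · refine absurd ?_ hgP
        change h.ι (base p q) * g = h.ι (base p' q') at e'
        exact ⟨(base p q)⁻¹ * base p' q', by rw [map_mul, map_inv, ← e', inv_mul_cancel_left]⟩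
      · change h.ι (base p q) * g = h.ι (base p' q') * g at e'
        exact Prod.ext (hb (mul_right_cancel e')) rfl
    have := Nat.card_le_card_of_injective f hf
    rw [Nat.card_prod, Nat.card_prod, Nat.card_eq_fintype_card, DihedralGroup.card, Nat.card_fin] at this
    omega
  have := Nat.mul_le_mul hle hC4
  rw [← Subgroup.card_eq_card_quotient_mul_card_subgroup] at this
  omega

/-- The centraliser of `P` is its centre. -/
theorem centralizer_le {c : S} (hc : c ∈ centralizer (h.P : Set S)) : c = 1 ∨ c = h.z := by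
  have key : ∀ n : ℕ, ∀ c ∈ centralizer (h.P : Set S), c ^ 2 ^ n = 1 → c ∈ h.P := by
    intro n
    induction n with
    | zero => intro c _ e; rw [pow_zero, pow_one] at e; rw [e]; exact one_mem _
    | succ n ih =>
      intro c hc e
      by_contra hcP
      have hc2 : c * c ∈ h.P := ih _ (mul_mem hc hc) (by rw [← pow_two, ← pow_mul, ← pow_succ']; exact e)
      refine h.no_extension hcP ?_ fun p q => ⟨1, h.inC_one, ?_⟩
      · obtain ⟨w, hw⟩ := hc2
        rcases center_cases w (fun v => h.inj (by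
          rw [map_mul, map_mul, hw]
          exact (mem_centralizer_iff.1 (mul_mem hc hc) _ ⟨v, rfl⟩).symm)) with rfl | rfl
        · rw [← hw, map_one]; exact h.inC_one
        · rw [← hw]; exact h.z_inC
      · rw [mul_one, ← mem_centralizer_iff.1 hc _ (h.base_mem p q), mul_inv_cancel_right]
  obtain ⟨n, hn⟩ := h.two c
  obtain ⟨w, rfl⟩ := key n c hc hn
  rcases center_cases w (fun v => h.inj (by
    rw [map_mul, map_mul]
    exact (mem_centralizer_iff.1 hc _ ⟨v, rfl⟩).symm)) with rfl | rfl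
  · exact Or.inl (map_one _)
  · exact Or.inr rfl

/-- The image of a normal `2⁴`. -/
def V (c : ZMod 4) : Subgroup S := (Vsub c).map h.ι

/-- Normalising `P`, fixing `z₁` and preserving or exchanging the two `2⁴`. -/
theorem commutator_class {g : S} (hz₁ : g * h.z₁ * g⁻¹ = h.z₁) (hz₂ : g * h.z₂ * g⁻¹ = h.z₂)
    {c c' : ZMod 4} (hc : c = 0 ∧ c' = 1 ∨ c = 1 ∧ c' = 0) {d d' : ZMod 4}
    (hd : d = 0 ∧ d' = 1 ∨ d = 1 ∧ d' = 0)
    (hV : ∀ s ∈ h.V c, g * s * g⁻¹ ∈ h.V d) (hV' : ∀ s ∈ h.V d', g⁻¹ * s * g ∈ h.V c') :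
    (∃ e, h.InC e ∧ g * h.ι (base (sr c) 1) * g⁻¹ = h.ι (base (sr d) 1) * e) ∧
    (∃ e, h.InC e ∧ g * h.ι (base 1 (sr c)) * g⁻¹ = h.ι (base 1 (sr d)) * e) := by
  have hgC : ∀ e, h.InC e → g * e * g⁻¹ = e := by
    intro e he
    rcases h.inC_cases he with rfl | rfl | rfl | rfl
    · simp
    · exact hz₁
    · exact hz₂
    · rw [h.z_eq, ← conj_mul, hz₁, hz₂]
  -- the pairing
  have pair1 : ∀ c c' : ZMod 4, (c = 0 ∧ c' = 1 ∨ c = 1 ∧ c' = 0) → ∀ p q : D, fourMem c' p → fourMem c' q →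
      (sr c * p * sr c * p⁻¹ = 1 ∨ sr c * p * sr c * p⁻¹ = r 2) ∧ (1 : D) * q * 1 * q⁻¹ = 1 := by decide
  have sel : ∀ d d' : ZMod 4, (d = 0 ∧ d' = 1 ∨ d = 1 ∧ d' = 0) → ∀ p : D, fourMem d p →
      (p * sr d' * p⁻¹ * (sr d')⁻¹ = 1 → p = 1 ∨ p = r 2) ∧
      ((p = 1 ∨ p = r 2) ∨ (sr d)⁻¹ * p = 1 ∨ (sr d)⁻¹ * p = r 2) := by decide
  have hne : ∀ c : ZMod 4, sr c ≠ (1 : D) ∧ sr c ≠ r 2 := by decide
  have main : ∀ (first : Bool),
      ∃ e, h.InC e ∧ g * h.ι (if first then base (sr c) 1 else base 1 (sr c)) * g⁻¹ =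
        h.ι (if first then base (sr d) 1 else base 1 (sr d)) * e := by
    intro first
    set v₀ : W := if first then base (sr c) 1 else base 1 (sr c) with hv₀
    have hv₀V : h.ι v₀ ∈ h.V c := by
      refine ⟨v₀, ?_, rfl⟩
      cases first <;> simp [hv₀, Vsub, IsV, fourMem, base]
    obtain ⟨v, hv, hve⟩ := hV _ hv₀V
    obtain ⟨p, q, rfl⟩ := exists_base hv.1
    -- commutators with `h.V d'` stay in one factor
    have hcomm : ∀ u, IsV d' u → ∃ e : D, (e = 1 ∨ e = r 2) ∧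
        base p q * u * (base p q)⁻¹ * u⁻¹ = if first then base e 1 else base 1 e := by
      intro u hu
      obtain ⟨u₀, hu₀, hu₀e⟩ := hV' _ ⟨u, hu, rfl⟩
      obtain ⟨i, j, rfl⟩ := exists_base hu₀.1
      have hu₀' : h.ι u = g * h.ι (base i j) * g⁻¹ := by rw [hu₀e]; group
      have hcalc : h.ι (base p q * u * (base p q)⁻¹ * u⁻¹) =
          g * h.ι (v₀ * base i j * v₀⁻¹ * (base i j)⁻¹) * g⁻¹ := by
        simp only [map_mul, map_inv, hu₀', hve]
        group
      obtain ⟨k1, -⟩ := pair1 c c' hc i j hu₀.2.1 hu₀.2.2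
      obtain ⟨k1', -⟩ := pair1 c c' hc j i hu₀.2.2 hu₀.2.1
      have hsr : (sr c : D)⁻¹ = sr c := rfl
      cases first
      · refine ⟨sr c * j * sr c * j⁻¹, k1', h.inj ?_⟩
        rw [hcalc, hv₀]
        simp only [Bool.false_eq_true, if_false, base_mul, base_inv, hsr, inv_one, one_mul, mul_one,
          mul_inv_cancel]
        exact hgC _ ⟨_, ⟨rfl, Or.inl rfl, k1'⟩, rfl⟩
      · refine ⟨sr c * i * sr c * i⁻¹, k1, h.inj ?_⟩
        rw [hcalc, hv₀]
        simp only [if_true, base_mul, base_inv, hsr, inv_one, one_mul, mul_one, mul_inv_cancel]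
        exact hgC _ ⟨_, ⟨rfl, k1, Or.inl rfl⟩, rfl⟩
    have hp := hv.2.1
    have hq := hv.2.2
    have hu1 : IsV d' (base (sr d') 1) := ⟨rfl, Or.inr (Or.inr (Or.inl rfl)), Or.inl rfl⟩
    have hu2 : IsV d' (base 1 (sr d')) := ⟨rfl, Or.inl rfl, Or.inr (Or.inr (Or.inl rfl))⟩
    have notC : ¬ ((p = 1 ∨ p = r 2) ∧ (q = 1 ∨ q = r 2)) := by
      intro hpq
      have hE : h.InC (h.ι (base p q)) := ⟨_, ⟨rfl, hpq.1, hpq.2⟩, rfl⟩
      have e1 : g * h.ι v₀ * g⁻¹ = g * h.ι (base p q) * g⁻¹ := by rw [hgC _ hE, hve]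
      have e2 := h.inj (mul_left_cancel (mul_right_cancel e1))
      have e3 := congrArg SemidirectProduct.left e2
      cases first
      · simp only [hv₀, Bool.false_eq_true, if_false, base, Prod.mk.injEq] at e3
        rcases hpq.2 with e | e
        · exact (hne c).1 (e3.2.trans e)
        · exact (hne c).2 (e3.2.trans e)
      · simp only [hv₀, if_true, base, Prod.mk.injEq] at e3
        rcases hpq.1 with e | e
        · exact (hne c).1 (e3.1.trans e)
        · exact (hne c).2 (e3.1.trans e)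
    cases first
    · obtain ⟨e, -, he⟩ := hcomm _ hu1
      have hp' : p = 1 ∨ p = r 2 := (sel d d' hd p hp).1 (by
        have := congrArg (fun w : W => w.left.1) he
        simpa [base_mul, base_inv, base] using this)
      have hq' : (sr d)⁻¹ * q = 1 ∨ (sr d)⁻¹ * q = r 2 :=
        (sel d d' hd q hq).2.resolve_left fun hh => notC ⟨hp', hh⟩
      refine ⟨h.ι (base p ((sr d)⁻¹ * q)), ⟨_, ⟨rfl, hp', hq'⟩, rfl⟩, ?_⟩
      rw [← hve]
      simp only [Bool.false_eq_true, if_false]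
      rw [← map_mul, base_mul, one_mul, mul_inv_cancel_left]
    · obtain ⟨e, -, he⟩ := hcomm _ hu2
      have hq' : q = 1 ∨ q = r 2 := (sel d d' hd q hq).1 (by
        have := congrArg (fun w : W => w.left.2) he
        simpa [base_mul, base_inv, base] using this)
      have hp' : (sr d)⁻¹ * p = 1 ∨ (sr d)⁻¹ * p = r 2 :=
        (sel d d' hd p hp).2.resolve_left fun hh => notC ⟨hh, hq'⟩
      refine ⟨h.ι (base ((sr d)⁻¹ * p) q), ⟨_, ⟨rfl, hp', hq'⟩, rfl⟩, ?_⟩
      rw [← hve]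
      simp only [if_true]
      rw [← map_mul, base_mul, one_mul, mul_inv_cancel_left]
  exact ⟨by simpa using main true, by simpa using main false⟩

/-- Two homomorphisms of the base agreeing modulo `⟨z₁, z₂⟩` on the generators agree everywhere. -/
theorem conj_base_class {g : S} (τ : D → D) (hτ : ∀ d d' : D, τ (d * d') = τ d * τ d')
    (h1 : ∀ i : ZMod 4, i = 0 ∨ i = 1 →
      (∃ e, h.InC e ∧ g * h.ι (base (sr i) 1) * g⁻¹ = h.ι (base (τ (sr i)) 1) * e) ∧
      (∃ e, h.InC e ∧ g * h.ι (base 1 (sr i)) * g⁻¹ = h.ι (base 1 (τ (sr i))) * e))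
    (p q : D) : ∃ e, h.InC e ∧ g * h.ι (base p q) * g⁻¹ = h.ι (base (τ p) (τ q)) * e := by
  have hτ1 : τ 1 = 1 := by
    have := hτ 1 1
    rw [mul_one] at this
    exact mul_eq_left.1 this.symm
  have hm : ∀ {a a' b b' : D},
      (∃ e, h.InC e ∧ g * h.ι (base a b) * g⁻¹ = h.ι (base (τ a) (τ b)) * e) →
      (∃ e, h.InC e ∧ g * h.ι (base a' b') * g⁻¹ = h.ι (base (τ a') (τ b')) * e) →
      ∃ e, h.InC e ∧ g * h.ι (base (a * a') (b * b')) * g⁻¹ =
        h.ι (base (τ (a * a')) (τ (b * b'))) * e := by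
    rintro a a' b b' ⟨e, he, h1⟩ ⟨e', he', h2⟩
    refine ⟨e * e', h.inC_mul he he', ?_⟩
    rw [← base_mul, map_mul, ← conj_mul, h1, h2, hτ, hτ, ← base_mul, map_mul, mul_assoc, mul_assoc,
      ← mul_assoc e, h.inC_comm he, mul_assoc]
  have hone : ∃ e, h.InC e ∧ g * h.ι (base 1 1) * g⁻¹ = h.ι (base (τ 1) (τ 1)) * e := by
    refine ⟨1, h.inC_one, ?_⟩
    rw [hτ1, show base 1 1 = (1 : W) from rfl, map_one]; group
  have g0 : ∀ i : ZMod 4, i = 0 ∨ i = 1 →
      (∃ e, h.InC e ∧ g * h.ι (base (sr i) 1) * g⁻¹ = h.ι (base (τ (sr i)) (τ 1)) * e) ∧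
      (∃ e, h.InC e ∧ g * h.ι (base 1 (sr i)) * g⁻¹ = h.ι (base (τ 1) (τ (sr i))) * e) := by
    intro i hi
    rw [hτ1]; exact h1 i hi
  have hpair : ∀ i : ZMod 4, i = 0 ∨ i = 1 → ∀ j : ZMod 4, j = 0 ∨ j = 1 →
      (∃ e, h.InC e ∧ g * h.ι (base (sr i * sr j) 1) * g⁻¹ = h.ι (base (τ (sr i * sr j)) (τ 1)) * e) ∧
      (∃ e, h.InC e ∧ g * h.ι (base 1 (sr i * sr j)) * g⁻¹ = h.ι (base (τ 1) (τ (sr i * sr j))) * e) := by
    intro i hi j hj
    have a := hm (g0 i hi).1 (g0 j hj).1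
    have b := hm (g0 i hi).2 (g0 j hj).2
    rw [mul_one] at a b
    exact ⟨a, b⟩
  have side : ∀ d : D,
      (∃ e, h.InC e ∧ g * h.ι (base d 1) * g⁻¹ = h.ι (base (τ d) (τ 1)) * e) ∧
      (∃ e, h.InC e ∧ g * h.ι (base 1 d) * g⁻¹ = h.ι (base (τ 1) (τ d)) * e) := by
    intro d
    have z0 : (0 : ZMod 4) = 0 ∨ (0 : ZMod 4) = 1 := Or.inl rfl
    have z1 : (1 : ZMod 4) = 0 ∨ (1 : ZMod 4) = 1 := Or.inr rfl
    rcases words d with rfl | rfl | rfl | rfl | rfl | rfl | rfl | rfl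
    · exact ⟨hone, hone⟩
    · exact g0 0 z0
    · exact g0 1 z1
    · exact hpair 0 z0 1 z1
    · exact hpair 1 z1 0 z0
    · have a := hm (hpair 0 z0 1 z1).1 (g0 0 z0).1
      have b := hm (hpair 0 z0 1 z1).2 (g0 0 z0).2
      rw [mul_one] at a b
      exact ⟨a, b⟩
    · have a := hm (hpair 1 z1 0 z0).1 (g0 1 z1).1
      have b := hm (hpair 1 z1 0 z0).2 (g0 1 z1).2
      rw [mul_one] at a b
      exact ⟨a, b⟩
    · have a := hm (hpair 0 z0 1 z1).1 (hpair 0 z0 1 z1).1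
      have b := hm (hpair 0 z0 1 z1).2 (hpair 0 z0 1 z1).2
      rw [mul_one] at a b
      exact ⟨a, b⟩
  have := hm (side p).1 (side q).2
  rwa [mul_one, one_mul] at this

/-- `P` permutes its two normal `2⁴` trivially. -/
theorem P_le_normalizer_V {c : ZMod 4} (hc : c = 0 ∨ c = 1) : h.P ≤ normalizer (h.V c : Set S) := by
  rintro _ ⟨w, rfl⟩
  refine Coprime.mem_normalizer_of_conj_map_le ?_
  rintro _ ⟨v, hv, rfl⟩
  refine ⟨w * v * w⁻¹, ?_, by rw [map_mul, map_mul, map_inv]⟩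
  have key : ∀ c : ZMod 4, c = 0 ∨ c = 1 → ∀ u : D, ∀ d : D, fourMem c d → fourMem c (u * d * u⁻¹) := by decide
  have key2 : ∀ x : W, x = base x.left.1 x.left.2 ∨ x = base x.left.1 x.left.2 * tau := by decide +kernel
  have hT : ∀ u ∈ Vsub c, tau * u * tau⁻¹ ∈ Vsub c := by
    intro u hu
    have e : tau * u * tau⁻¹ = base u.left.2 u.left.1 := by
      conv_lhs => rw [right_eq_one hu.1]
      have : ∀ p q : D, tau * base p q * tau⁻¹ = base q p := by decide +kernel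
      exact this _ _
    rw [e]
    exact ⟨rfl, hu.2.2, hu.2.1⟩
  have hB : ∀ p q : D, ∀ u ∈ Vsub c, base p q * u * (base p q)⁻¹ ∈ Vsub c := by
    intro p q u hu
    rw [right_eq_one hu.1, base_inv, base_mul, base_mul]
    exact ⟨rfl, key c hc p _ hu.2.1, key c hc q _ hu.2.2⟩
  rcases key2 w with e | e <;> rw [e]
  · exact hB _ _ v hv
  · rw [show base w.left.1 w.left.2 * tau * v * (base w.left.1 w.left.2 * tau)⁻¹ =
      base w.left.1 w.left.2 * (tau * v * tau⁻¹) * (base w.left.1 w.left.2)⁻¹ by group]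
    exact hB _ _ _ (hT v hv)

theorem card_V {c : ZMod 4} : Nat.card (h.V c) = 16 := by
  classical
  rw [V, card_map_of_injective h.inj]
  rw [Nat.card_eq_fintype_card, ← Fintype.card_congr (Equiv.subtypeEquivRight fun w => mem_Vsub.symm),
    Fintype.card_subtype]
  exact card_isV c

theorem V_ne : h.V 0 ≠ h.V 1 := fun e => by
  have h1 : h.ι (base (sr 0) 1) ∈ h.V 1 :=
    e ▸ ⟨_, ⟨rfl, Or.inr (Or.inr (Or.inl rfl)), Or.inl rfl⟩, rfl⟩
  obtain ⟨w, hw, he⟩ := h1
  rw [h.inj he] at hw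
  exact absurd hw.2.1 (by decide)

/-- The elementary abelian normal subgroups of order sixteen of `P`. -/
theorem normal_sixteen {V : Subgroup S} (hVP : V ≤ h.P) (hn : ∀ g ∈ h.P, ∀ v ∈ V, g * v * g⁻¹ ∈ V)
    (hc : ∀ a ∈ V, ∀ b ∈ V, a * b = b * a) (h2 : ∀ a ∈ V, a * a = 1) (h16 : Nat.card V = 16) :
    V = h.V 0 ∨ V = h.V 1 := by
  classical
  have hsub : ∀ v ∈ V, v ∈ h.V 0 ∨ v ∈ h.V 1 := by
    intro v hv
    obtain ⟨w, rfl⟩ := hVP hv
    rcases candidates w (h.inj (by rw [map_mul, map_one]; exact h2 _ hv)) (fun u => h.inj (by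
      simp only [map_mul, map_inv]
      exact hc _ hv _ (hn _ ⟨u, rfl⟩ _ hv))) with e | e
    · exact Or.inl ⟨w, e, rfl⟩
    · exact Or.inr ⟨w, e, rfl⟩
  by_cases hle : V ≤ h.V 0
  · exact Or.inl (eq_of_le_of_card_ge hle (by rw [h16, h.card_V]))
  refine Or.inr (eq_of_le_of_card_ge (fun v hv => ?_) (by rw [h16, h.card_V]))
  obtain ⟨u, hu, hu0⟩ := SetLike.not_le_iff_exists.1 hle
  have hu1 := (hsub u hu).resolve_left hu0
  refine (hsub v hv).elim (fun hv0 => ?_) id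
  rcases hsub (u * v) (mul_mem hu hv) with e | e
  · exact absurd ((mul_mem_cancel_right hv0).1 e) hu0
  · exact (mul_mem_cancel_left hu1).1 e

/-- An element of the normaliser of `P` fixes or exchanges the two `2⁴`. -/
theorem conj_V {g : S} (hg : g ∈ normalizer (h.P : Set S)) {c : ZMod 4} (hc : c = 0 ∨ c = 1) :
    (h.V c).map (MulAut.conj g).toMonoidHom = h.V 0 ∨ (h.V c).map (MulAut.conj g).toMonoidHom = h.V 1 := by
  have hmem : ∀ {v}, v ∈ h.V c → ∃ w, IsV c w ∧ h.ι w = v := fun {v} hv => hv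
  have hVP : h.V c ≤ h.P := by rintro _ ⟨w, -, rfl⟩; exact ⟨w, rfl⟩
  refine h.normal_sixteen ?_ ?_ ?_ ?_ ?_
  · rintro _ ⟨v, hv, rfl⟩
    exact (mem_normalizer_iff.1 hg v).1 (hVP hv)
  · rintro a ha _ ⟨v, hv, rfl⟩
    have ha' : g⁻¹ * a * g ∈ h.P := (mem_normalizer_iff''.1 hg a).1 ha
    refine ⟨(g⁻¹ * a * g) * v * (g⁻¹ * a * g)⁻¹, (mem_normalizer_iff.1 (h.P_le_normalizer_V hc ha') v).1 hv, ?_⟩
    simp only [MulEquiv.coe_toMonoidHom, MulAut.conj_apply]
    group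
  · rintro _ ⟨a, ha, rfl⟩ _ ⟨b, hb, rfl⟩
    obtain ⟨u, hu, rfl⟩ := hmem ha
    obtain ⟨v, hv, rfl⟩ := hmem hb
    have key : ∀ c : ZMod 4, c = 0 ∨ c = 1 → ∀ p q : D, fourMem c p → fourMem c q → p * q = q * p := by decide
    have : u * v = v * u := by
      rw [right_eq_one hu.1, right_eq_one hv.1, base_mul, base_mul, key c hc _ _ hu.2.1 hv.2.1,
        key c hc _ _ hu.2.2 hv.2.2]
    rw [← map_mul, ← map_mul, ← map_mul, this, map_mul, map_mul]
  · rintro _ ⟨a, ha, rfl⟩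
    obtain ⟨u, hu, rfl⟩ := hmem ha
    have hu' : u * u = 1 := by
      rw [right_eq_one hu.1, base_mul]
      conv_lhs => rw [show u.left.1 * u.left.1 = u.left.1⁻¹ * u.left.1 by rw [fourMem_inv c _ hu.2.1],
        show u.left.2 * u.left.2 = u.left.2⁻¹ * u.left.2 by rw [fourMem_inv c _ hu.2.2],
        inv_mul_cancel, inv_mul_cancel]
      rfl
    rw [← map_mul, ← map_mul, hu', map_one, map_one]
  · rw [card_map_of_injective (MulAut.conj g).injective, h.card_V]

theorem V_le_P (c : ZMod 4) : h.V c ≤ h.P := by rintro _ ⟨w, -, rfl⟩; exact ⟨w, rfl⟩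

/-- A `P`-normalising element fixing both centres of the factors, or composed with `t`. -/
theorem conj_z₁ {g : S} (hg : g ∈ normalizer (h.P : Set S)) :
    (g * h.z₁ * g⁻¹ = h.z₁ ∧ g * h.z₂ * g⁻¹ = h.z₂) ∨
      (g * h.z₁ * g⁻¹ = h.z₂ ∧ g * h.z₂ * g⁻¹ = h.z₁) := by
  have hne : h.z₁ ≠ 1 := fun e => absurd (h.inj (e.trans h.ι.map_one.symm)) (by decide)
  have hne' : h.z₁ ≠ h.z := fun e => absurd (h.inj e) (by decide)
  have hmem : ∀ c : ZMod 4, c = 0 ∨ c = 1 → g * h.z₁ * g⁻¹ ∈ (h.V c).map (MulAut.conj g).toMonoidHom :=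
    fun c _ => ⟨h.z₁, ⟨_, ⟨rfl, Or.inr (Or.inl rfl), Or.inl rfl⟩, rfl⟩, rfl⟩
  have hin : h.InC (g * h.z₁ * g⁻¹) := by
    have e0 := hmem 0 (Or.inl rfl)
    have e1 := hmem 1 (Or.inr rfl)
    have hboth : g * h.z₁ * g⁻¹ ∈ h.V 0 ∧ g * h.z₁ * g⁻¹ ∈ h.V 1 := by
      have hdist : (h.V 0).map (MulAut.conj g).toMonoidHom ≠ (h.V 1).map (MulAut.conj g).toMonoidHom :=
        fun e => h.V_ne (map_injective (MulAut.conj g).injective e)
      rcases h.conj_V hg (Or.inl rfl : (0 : ZMod 4) = 0 ∨ _) with a | a <;>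
        rcases h.conj_V hg (Or.inr rfl : _ ∨ (1 : ZMod 4) = 1) with b | b
      · exact absurd (a.trans b.symm) hdist
      · rw [a] at e0; rw [b] at e1; exact ⟨e0, e1⟩
      · rw [a] at e0; rw [b] at e1; exact ⟨e1, e0⟩
      · exact absurd (a.trans b.symm) hdist
    obtain ⟨⟨w, hw, he⟩, ⟨w', hw', he'⟩⟩ := hboth
    obtain rfl := h.inj (he.trans he'.symm)
    have key : ∀ p : D, fourMem 0 p → fourMem 1 p → p = 1 ∨ p = r 2 := by decide
    exact ⟨w, ⟨hw.1, key _ hw.2.1 hw'.2.1, key _ hw.2.2 hw'.2.2⟩, he⟩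
  have hz := h.conj_z hg
  rw [h.z_eq, ← conj_mul] at hz
  have hz2 : g * h.z₂ * g⁻¹ = (g * h.z₁ * g⁻¹)⁻¹ * (h.z₁ * h.z₂) := eq_inv_mul_of_mul_eq hz
  rcases h.inC_cases hin with e | e | e | e
  · exact absurd (conj_eq_one_iff.1 e) hne
  · refine Or.inl ⟨e, ?_⟩
    rw [hz2, e, inv_mul_cancel_left]
  · refine Or.inr ⟨e, ?_⟩
    rw [hz2, e, h.inC_inv h.z₂_inC, show h.z₁ * h.z₂ = h.z₂ * h.z₁ from
      h.inC_comm h.z₁_inC 1 (r 2),
      ← mul_assoc, h.inC_sq h.z₂_inC, one_mul]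
  · refine absurd (h.inj ?_) (show base (r 2) 1 ≠ base (r 2) (r 2) by decide)
    exact mul_left_cancel (mul_right_cancel (e.trans (h.conj_z hg).symm))

theorem t_z₁ : h.t * h.z₁ * h.t⁻¹ = h.z₂ := h.t_conj_base _ _

theorem t_z₂ : h.t * h.z₂ * h.t⁻¹ = h.z₁ := h.t_conj_base _ _

/-- An element of the normaliser of `P` fixing a `2⁴` lies in `P`. -/
theorem mem_of_fix {g : S} (hg : g ∈ normalizer (h.P : Set S)) (hfix : g ∈ normalizer (h.V 0 : Set S)) :
    g ∈ h.P := by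
  have hfix1 : ∀ {a : S}, a ∈ normalizer (h.P : Set S) → a ∈ normalizer (h.V 0 : Set S) →
      a ∈ normalizer (h.V 1 : Set S) := by
    intro a ha ha0
    have h0 : (h.V 0).map (MulAut.conj a).toMonoidHom = h.V 0 := Coprime.conj_map_eq_self_of_mem_normalizer ha0
    rcases h.conj_V ha (Or.inr rfl : _ ∨ (1 : ZMod 4) = 1) with e | e
    · exact absurd (map_injective (MulAut.conj a).injective (h0.trans e.symm)) h.V_ne
    · exact Coprime.mem_normalizer_of_conj_map_le (Coprime.conj_map_le_iff.1 e.le)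
  obtain ⟨n, hn⟩ := h.two g
  induction n generalizing g with
  | zero => rw [pow_zero, pow_one] at hn; rw [hn]; exact one_mem _
  | succ n ih =>
    by_contra hgP
    have hg2 : g * g ∈ h.P := ih (mul_mem hg hg) (mul_mem hfix hfix)
      (by rw [← pow_two, ← pow_mul, ← pow_succ']; exact hn)
    -- fix the two central involutions
    obtain ⟨g', hg', hfix', hg'P, hz, hg'2⟩ : ∃ g', g' ∈ normalizer (h.P : Set S) ∧
        g' ∈ normalizer (h.V 0 : Set S) ∧ g' ∉ h.P ∧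
        (g' * h.z₁ * g'⁻¹ = h.z₁ ∧ g' * h.z₂ * g'⁻¹ = h.z₂) ∧ g' * g' ∈ h.P := by
      rcases h.conj_z₁ hg with e | e
      · exact ⟨g, hg, hfix, hgP, e, hg2⟩
      · refine ⟨h.t * g, mul_mem (le_normalizer h.t_mem) hg,
          mul_mem (h.P_le_normalizer_V (Or.inl rfl) h.t_mem) hfix,
          fun hh => hgP ((mul_mem_cancel_left h.t_mem).1 hh), ⟨?_, ?_⟩, ?_⟩
        · rw [show h.t * g * h.z₁ * (h.t * g)⁻¹ = h.t * (g * h.z₁ * g⁻¹) * h.t⁻¹ by group, e.1, h.t_z₂]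
        · rw [show h.t * g * h.z₂ * (h.t * g)⁻¹ = h.t * (g * h.z₂ * g⁻¹) * h.t⁻¹ by group, e.2, h.t_z₁]
        · rw [show h.t * g * (h.t * g) = h.t * (g * h.t * g⁻¹) * (g * g) by group]
          exact mul_mem (mul_mem h.t_mem ((mem_normalizer_iff.1 hg _).1 h.t_mem)) hg2
    have hfix'1 := hfix1 hg' hfix'
    have fwd : ∀ c : ZMod 4, c = 0 ∨ c = 1 → ∀ s ∈ h.V c, g' * s * g'⁻¹ ∈ h.V c := by
      rintro c (rfl | rfl) s hs
      · exact (mem_normalizer_iff.1 hfix' s).1 hs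
      · exact (mem_normalizer_iff.1 hfix'1 s).1 hs
    have bwd : ∀ c : ZMod 4, c = 0 ∨ c = 1 → ∀ s ∈ h.V c, g'⁻¹ * s * g' ∈ h.V c := by
      rintro c (rfl | rfl) s hs
      · exact (mem_normalizer_iff''.1 hfix' s).1 hs
      · exact (mem_normalizer_iff''.1 hfix'1 s).1 hs
    have hall := h.conj_base_class (g := g') id (fun _ _ => rfl) (by
      rintro i (rfl | rfl)
      · exact h.commutator_class hz.1 hz.2 (c := 0) (c' := 1) (Or.inl ⟨rfl, rfl⟩) (d := 0) (d' := 1)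
          (Or.inl ⟨rfl, rfl⟩) (fwd 0 (Or.inl rfl)) (bwd 1 (Or.inr rfl))
      · exact h.commutator_class hz.1 hz.2 (c := 1) (c' := 0) (Or.inr ⟨rfl, rfl⟩) (d := 1) (d' := 0)
          (Or.inr ⟨rfl, rfl⟩) (fwd 1 (Or.inr rfl)) (bwd 0 (Or.inl rfl)))
    refine h.no_extension hg'P ?_ hall
    -- the square centralises the base
    have hgC : ∀ e, h.InC e → g' * e * g'⁻¹ = e := by
      intro e he
      rcases h.inC_cases he with rfl | rfl | rfl | rfl
      · simp
      · exact hz.1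
      · exact hz.2
      · exact h.conj_z hg'
    have hcentral : ∀ p q : D, g' * g' * h.ι (base p q) = h.ι (base p q) * (g' * g') := by
      intro p q
      obtain ⟨e, he, heq⟩ := hall p q
      simp only [id] at heq
      have : g' * (g' * h.ι (base p q) * g'⁻¹) * g'⁻¹ = h.ι (base p q) := by
        rw [heq, show g' * (h.ι (base p q) * e) * g'⁻¹ = (g' * h.ι (base p q) * g'⁻¹) * (g' * e * g'⁻¹) by group,
          hgC e he, heq, mul_assoc, h.inC_sq he, mul_one]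
      calc g' * g' * h.ι (base p q) = g' * (g' * h.ι (base p q) * g'⁻¹) * g'⁻¹ * (g' * g') := by group
        _ = _ := by rw [this]
    obtain ⟨w, hw⟩ := hg'2
    have hwr : w.right = 1 := by
      have key : ∀ x : W, x * base (r 2) 1 = base (r 2) 1 * x → x.right = 1 := by decide +kernel
      refine key w (h.inj ?_)
      rw [map_mul, map_mul, hw]
      exact hcentral _ _
    refine ⟨w, isC_of_central w hwr (fun p q => h.inj ?_), hw⟩
    rw [map_mul, map_mul, hw]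
    exact hcentral p q

/-- The normaliser of a normal `2⁴` of `P` is `P`. -/
theorem normalizer_V {c : ZMod 4} (hc : c = 0 ∨ c = 1) : normalizer (h.V c : Set S) = h.P := by
  haveI : Fact (Nat.Prime 2) := ⟨Nat.prime_two⟩
  have hfix : ∀ g, g ∈ normalizer (h.P : Set S) → g ∈ normalizer (h.V c : Set S) → g ∈ h.P := by
    intro g hg hgc
    rcases hc with rfl | rfl
    · exact h.mem_of_fix hg hgc
    · refine h.mem_of_fix hg ?_
      have h1 : (h.V 1).map (MulAut.conj g).toMonoidHom = h.V 1 := Coprime.conj_map_eq_self_of_mem_normalizer hgc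
      rcases h.conj_V hg (Or.inl rfl : (0 : ZMod 4) = 0 ∨ _) with e | e
      · exact Coprime.mem_normalizer_of_conj_map_le (Coprime.conj_map_le_iff.1 e.le)
      · exact absurd (map_injective (MulAut.conj g).injective (e.trans h1.symm)) h.V_ne
  refine le_antisymm ?_ (h.P_le_normalizer_V hc)
  by_contra hne
  set N := normalizer (h.V c : Set S) with hN
  have hlt : h.P.subgroupOf N < ⊤ := lt_top_iff_ne_top.2 fun e => hne (subgroupOf_eq_top.1 e)
  haveI := (h.two.to_subgroup N).isNilpotent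
  obtain ⟨⟨g, hgN⟩, hg, hgP⟩ := SetLike.exists_of_lt
    (Group.normalizerCondition_of_isNilpotent _ hlt)
  refine hgP (mem_subgroupOf.2 (hfix g ?_ hgN))
  refine Coprime.mem_normalizer_of_conj_map_le fun y hy => ?_
  have hyN : y ∈ N := h.P_le_normalizer_V hc hy
  exact mem_subgroupOf.1 ((mem_normalizer_iff.1 hg ⟨y, hyN⟩).1 (mem_subgroupOf.2 hy))

end Setup

end CfsgLib.TwoGroups.WreathOver
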